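import Cfsg.Agent.Lib.HN.Kill.Cert

/-!
# The central element of order three dies
-/

set_option autoImplicit false
set_option maxRecDepth 100000

namespace Cfsg.Lib.HN

variable {M : Type*} [Group M]

theorem kill_eq {x : ℕ → M} (hx : LettersInv x) (hB : ∀ r ∈ EnumB.rels, val x r = 1)
    (hR : ∀ r ∈ Kill.sys.R, val x r = 1)
    (htw : ∀ p ∈ Kill.sys.tw, x 2 * val x p.1 = val x p.2 * x 2) : val x kWord = 1 := by
  have hS : Kill.sys.Sound x :=
    { inv := hx
      symS := symS_B
      eq := fun a b h => by
        simp only [eqW, Bool.and_eq_true] at h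
        exact eqB hx hB h.1.1 h.1.2 h.2
      twist := fun g hg p hp => by
        obtain rfl := List.mem_singleton.1 hg
        exact htw p hp
      twist' := fun g hg p hp => by
        obtain rfl := List.mem_singleton.1 hg
        exact htw p hp
      rel := hR }
  have hT : ∀ g ∈ Kill.sys.T, linv (linv g) = g := fun g hg => by
    obtain rfl := List.mem_singleton.1 hg; rfl
  have hok := Kill.kill_ok
  unfold Kill.killOK at hok
  split at hok
  · next F' Ps hrun =>
    obtain ⟨-, hP⟩ := runEntries_sound hS hT Kill.entries (by simp) (by simp) hrun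
    split at hok
    · next p hlast =>
      have hpmem : p ∈ pairsAt Ps Kill.killJ := List.mem_of_getLast? hlast
      have hp : p.OK Kill.sys x := hP p (List.mem_of_mem_filter hpmem)
      have hpj : p.j = Kill.killJ := Nat.eq_of_beq_eq_true (List.of_mem_filter (p := fun q : EPair => Nat.beq q.j Kill.killJ) hpmem)
      set L := (pairsAt Ps Kill.killJ).dropLast
      have hLP : ∀ q ∈ L, q.OK Kill.sys x := fun q hq =>
        hP q (List.mem_of_mem_filter (List.mem_of_mem_dropLast hq))
      have hLj : pairsAt L Kill.killJ = L := List.filter_eq_self.2 fun q hq =>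
        List.of_mem_filter (p := fun q : EPair => Nat.beq q.j Kill.killJ) (List.mem_of_mem_dropLast hq)
      have h2 := wprod_pairs hx hLP Kill.killJ Kill.killIdx
      rw [hLj] at h2
      simp only [Bool.and_eq_true, Bool.or_eq_true] at hok
      obtain ⟨h3, h4⟩ := hok
      rw [EPair.OK, hpj, hS.eq _ _ h3, h2] at hp
      have h5 := mul_left_cancel hp
      rcases h4 with h4 | h4 <;> have h6 := hS.eq _ _ h4
      · rw [val_append, h5] at h6
        exact mul_eq_left.1 h6
      · rw [val_append, h5, val_winv hx] at h6
        exact inv_eq_one.1 (mul_eq_left.1 h6)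
    · simp at hok
  · simp at hok

end Cfsg.Lib.HN
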