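import Cfsg.Agent.Lib.HN.Hand
import Cfsg.Agent.Lib.HN.KillProof

/-!
# The double cover inside the presented group
-/

set_option autoImplicit false
set_option maxRecDepth 100000

namespace Cfsg.Lib.HN

theorem hx_rels_no_k : ∀ r ∈ EnumP.rels, r ≠ kWord → val hx r = 1 := by
  obtain ⟨b6, h1, h2, h3, h4, h5, hc, hca, h8, h9, -⟩ := hn_basic
  obtain ⟨a4, hab, hac⟩ := hx_sq
  obtain ⟨i4, i5, -⟩ := hx_inv'
  have cy := commutatorElement_eq_one_iff_commute.2 hab.inv_left.inv_right
  have cz := commutatorElement_eq_one_iff_commute.2 hac.inv_left.inv_right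
  have hcc : (hx 2)⁻¹ = hx 2 := inv_eq_of_mul_eq_one_right (by rwa [← sq])
  try simp only [hcc] at cz h8 h9
  intro r hr hk
  simp only [EnumP.rels, List.mem_cons, List.not_mem_nil, or_false] at hr
  rcases hr with rfl | rfl | rfl | rfl | rfl | rfl | rfl | rfl | rfl | rfl | rfl | rfl | rfl | rfl <;>
    simp only [val_cons, val_nil, mul_one, i4, i5] at * <;>
    first
    | exact absurd rfl hk
    | (simp only [commutatorElement_def, pow_succ, pow_zero, one_mul, mul_inv_rev, inv_inv,
        mul_assoc] at *; first | assumption | (simp only [hcc] at cz; assumption))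

theorem hx_rels : ∀ r ∈ EnumP.rels, val hx r = 1 := by
  obtain ⟨b6, h1, h2, h3, h4, h5, hc, hca, h8, h9, -⟩ := hn_basic
  obtain ⟨a4, hab, hac⟩ := hx_sq
  have hB : ∀ r ∈ EnumB.rels, val hx r = 1 :=
    shift_eq_one hx_inv (R0 := EnumP.rels.filter fun r => decide (r ≠ kWord)) (by decide +kernel)
      fun r hr => hx_rels_no_k r (List.mem_of_mem_filter hr)
        (by simpa using List.of_mem_filter hr)
  have hcc : (hx 2)⁻¹ = hx 2 := inv_eq_of_mul_eq_one_right (by rwa [← sq])
  have hR : ∀ r ∈ Kill.sys.R, val hx r = 1 :=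
    shift_eq_one hx_inv (R0 := EnumP.rels.filter fun r => decide (r ≠ kWord)) (by decide +kernel)
      fun r hr => hx_rels_no_k r (List.mem_of_mem_filter hr)
        (by simpa using List.of_mem_filter hr)
  have htw : ∀ p ∈ Kill.sys.tw, hx 2 * val hx p.1 = val hx p.2 * hx 2 := by
    obtain ⟨i4, i5, -⟩ := hx_inv'
    set w := hx 1 * hx 0 * hx 1 * hx 0 * hx 1 ^ 2 * hx 0 * (hx 1)⁻¹
    have h2 : (hx 0 ^ 2)⁻¹ = hx 0 ^ 2 := inv_eq_of_mul_eq_one_right (by rw [← a4]; group)
    have e1 : hx 2 * hx 0 = (hx 0)⁻¹ * hx 2 := by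
      rw [eq_inv_mul_iff_mul_eq, ← mul_assoc]
      rw [pow_two, ← mul_assoc] at hca
      refine Eq.trans ?_ hcc
      calc hx 0 * hx 2 * hx 0 = (hx 2)⁻¹ * (hx 2 * hx 0 * hx 2 * hx 0) := by group
        _ = _ := by rw [hca, mul_one]
    have e2 : hx 2 * w = w * hx 0 ^ 2 * hx 2 := by
      have h8' : hx 2 * w⁻¹ * hx 2 * w = hx 0 ^ 2 := by
        rw [hcc] at h8
        exact mul_inv_eq_one.1 h8
      have h9' : hx 2 * w⁻¹ * hx 2 = hx 0 ^ 2 * w⁻¹ := eq_mul_inv_of_mul_eq h8'
      have := congrArg (·⁻¹) h9'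
      simp only [mul_inv_rev, inv_inv, hcc, h2] at this
      calc hx 2 * w = hx 2 * (w * hx 2) * hx 2 := by
            rw [mul_assoc (hx 2) (w * hx 2), mul_assoc w, ← sq, hc, mul_one]
        _ = _ := by rw [this]
    intro p hp
    simp only [Kill.sys, List.mem_cons, List.not_mem_nil, or_false] at hp
    rcases hp with rfl | rfl <;> simp only [val_cons, val_nil, mul_one, i4, i5]
    · exact e1
    · simp only [w, pow_two, mul_assoc] at e2
      simpa only [mul_assoc] using e2
  intro r hr
  rcases eq_or_ne r kWord with rfl | h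
  · exact kill_eq hx_inv hB hR htw
  · exact hx_rels_no_k r hr h

theorem φP_exists : ∃ φ : PS →* Spor.HN, ∀ g < 7,
    φ (wgen relP g) = lett (hx 0) (hx 1) (hx 2) 1 g :=
  exists_wordHom (R := relP) (lett (hx 0) (hx 1) (hx 2) 1)
    (lettersInv_lett (by have := hn_basic.2.2.2.2.2.2.1; rwa [sq] at this)) (by decide +kernel) (by
      intro r hr
      rcases List.mem_append.1 hr with hr | hr
      · rw [← hx_rels r hr]
        refine congrArg List.prod (List.map_congr_left fun g hg => ?_)
        have := mem_of_lettersIn (List.all_eq_true.1 (show EnumP.rels.all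
          (lettersIn [0, 1, 2, 4, 5]) = true by decide +kernel) r hr) g hg
        simp only [List.mem_cons, List.not_mem_nil, or_false] at this
        rcases this with rfl | rfl | rfl | rfl | rfl <;> rfl
      · simp only [List.mem_cons, List.not_mem_nil, or_false] at hr
        subst hr
        simp [lett])

/-- The double cover maps onto the subgroup of the first three generators. -/
noncomputable def φP : PS →* Spor.HN :=
  Classical.choose φP_exists

theorem φP_val {w : List ℕ} (hw : ∀ g ∈ w, g ∈ [0, 1, 2, 4, 5]) :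
    φP (val (wgen relP) w) = val hx w := by
  rw [map_val]
  refine congrArg List.prod (List.map_congr_left fun g hg => ?_)
  have := hw g hg
  simp only [List.mem_cons, List.not_mem_nil, or_false] at this
  rw [show φP (wgen relP g) = lett (hx 0) (hx 1) (hx 2) 1 g from
    Classical.choose_spec φP_exists g
      (by omega)]
  rcases this with rfl | rfl | rfl | rfl | rfl <;> rfl

end Cfsg.Lib.HN
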