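import Cfsg.Agent.Lib.HN.Flat

/-!
# Bases of groups of permutations given by words
-/

set_option autoImplicit false

namespace Cfsg.Lib.HN

open Cfsg.Lib.CosetEnum (Tab force force_eq beqW B)

/-- One level of a base: a point, words, the listed orbit and the positions in it. -/
structure Level where
  /-- The point. -/
  point : ℕ
  /-- The words. -/
  U : List (List ℕ)
  /-- The orbit, as (point, parent position, word number). -/
  O : Tab
  /-- Positions in the orbit. -/
  Pos : Tab
  /-- The orbit length. -/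
  c : ℕ

/-- Check the listed part of an orbit. -/
noncomputable def spanOK (P : Tab) (n : ℕ) (L : Level) : ℕ → ℕ → Bool
  | 0, _ => true
  | m + 1, j => force j fun j =>
      force (L.O.getP j) fun o =>
      Nat.blt (o / B / B) n && Nat.beq (L.Pos.getP (o / B / B)) j &&
      (cond (Nat.beq j 0) (Nat.beq (o / B / B) L.point)
        (Nat.blt (o / B % B) j && Nat.blt (o % B) L.U.length &&
          Nat.beq (twalk P (winv (L.U.getD (o % B) [])) (L.O.getP (o / B % B) / B / B))
            (o / B / B))) &&
      spanOK P n L m (j + 1)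

/-- The words of the later levels fix the point. -/
noncomputable def fixOK (P : Tab) (L : Level) (next : List (List ℕ)) : Bool :=
  next.all fun u => Nat.beq (twalk P (winv u) L.point) L.point

/-- The checks on a base. -/
noncomputable def baseOK (P : Tab) (n : ℕ) (S : List ℕ) : List Level → Bool
  | [] => true
  | L :: Ls => Nat.blt 0 L.c && Nat.blt L.point n && L.U.all (lettersIn S) &&
      fixOK P L (Ls.flatMap Level.U) && spanOK P n L L.c 0 && baseOK P n S Ls

/-- The product of the orbit lengths. -/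
def baseSize : List Level → ℕ
  | [] => 1
  | L :: Ls => L.c * baseSize Ls

theorem spanOK_get {P : Tab} {n : ℕ} {L : Level} : ∀ {m i : ℕ}, spanOK P n L m i = true →
    ∀ j, i ≤ j → j < i + m →
      L.O.getP j / B / B < n ∧ L.Pos.getP (L.O.getP j / B / B) = j ∧
      (j = 0 → L.O.getP j / B / B = L.point) ∧
      (j ≠ 0 → L.O.getP j / B % B < j ∧ L.O.getP j % B < L.U.length ∧
        twalk P (winv (L.U.getD (L.O.getP j % B) [])) (L.O.getP (L.O.getP j / B % B) / B / B) =
          L.O.getP j / B / B)
  | 0, i, _, j, h1, h2 => by omega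
  | m + 1, i, hc, j, h1, h2 => by
    rw [spanOK, force_eq, force_eq, Bool.and_eq_true] at hc
    rcases Nat.eq_or_lt_of_le h1 with h | h
    · subst h
      have h3 := hc.1
      simp only [Bool.and_eq_true, Nat.blt_eq, Nat.beq_eq] at h3
      obtain ⟨⟨h4, h5⟩, h6⟩ := h3
      refine ⟨h4, h5, fun h0 => ?_, fun h0 => ?_⟩
      · have : Nat.beq i 0 = true := by rw [Nat.beq_eq]; exact h0
        simpa [this] using h6
      · have : Nat.beq i 0 = false := by
          rw [Bool.eq_false_iff]; intro h'; exact h0 (Nat.eq_of_beq_eq_true h')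
        simp only [this, cond_false, Bool.and_eq_true, Nat.blt_eq, Nat.beq_eq, and_assoc] at h6
        exact h6
    · exact spanOK_get hc.2 j h (by omega)

variable {P : Tab} {n : ℕ} {S : List ℕ} {R : List (List ℕ)}

theorem lettersIn_of_baseOK : ∀ {Ls : List Level}, baseOK P n S Ls = true →
    ∀ L ∈ Ls, ∀ u ∈ L.U, ∀ g ∈ u, g ∈ S
  | [], _, L, hL => by simp at hL
  | L :: Ls, h, L', hL => by
    simp only [baseOK, Bool.and_eq_true] at h
    obtain ⟨⟨⟨⟨_, hlet⟩, -⟩, -⟩, hrest⟩ := h
    rcases List.mem_cons.1 hL with rfl | hL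
    · exact fun u hu => mem_of_lettersIn (List.all_eq_true.1 hlet u hu)
    · exact lettersIn_of_baseOK hrest L' hL

/-- The subgroup fixing the points of a base. -/
def baseFix (n : ℕ) (Ls : List Level) : Subgroup (Equiv.Perm (Fin n)) where
  carrier := {a | ∀ L ∈ Ls, ∀ i : Fin n, i.1 = L.point → a i = i}
  one_mem' := by simp
  mul_mem' := fun {a b} ha hb L hL i hi => by
    rw [Equiv.Perm.mul_apply, hb L hL i hi, ha L hL i hi]
  inv_mem' := fun {a} ha L hL i hi => by
    rw [Equiv.Perm.inv_eq_iff_eq]; exact (ha L hL i hi).symm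

theorem base_le (hp : permOK P n S R n 0 = true) (hS : SymS S) : ∀ {Ls : List Level},
    baseOK P n S Ls = true → ∀ A : Subgroup (Equiv.Perm (Fin n)),
      (∀ L ∈ Ls, ∀ u ∈ L.U, val (pperm P n) u ∈ A) →
      baseSize Ls * Nat.card (A ⊓ baseFix n Ls : Subgroup (Equiv.Perm (Fin n))) ≤ Nat.card A
  | [], _, A, _ => by
    simp only [baseSize, one_mul]
    exact Subgroup.card_le_of_le inf_le_left
  | L :: Ls, h, A, hU => by
    simp only [baseOK, Bool.and_eq_true, Nat.blt_eq] at h
    obtain ⟨⟨⟨⟨⟨hc, hpt⟩, hlet⟩, hfix⟩, hspan⟩, hrest⟩ := h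
    set p : Fin n := ⟨L.point, hpt⟩
    have hl : ∀ u ∈ L.U, ∀ g ∈ u, g ∈ S := fun u hu =>
      mem_of_lettersIn (List.all_eq_true.1 hlet u hu)
    have horb : L.c ≤ (MulAction.orbit A p).ncard := by
      let q : Fin L.c → Fin n := fun j =>
        ⟨L.O.getP j.1 / B / B, (spanOK_get hspan j.1 (Nat.zero_le _) (by omega)).1⟩
      have hinj : Function.Injective q := by
        intro a b hab
        have ha := (spanOK_get hspan a.1 (Nat.zero_le _) (by omega)).2.1
        have hb := (spanOK_get hspan b.1 (Nat.zero_le _) (by omega)).2.1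
        have : L.O.getP a.1 / B / B = L.O.getP b.1 / B / B := congrArg Fin.val hab
        exact Fin.ext (by rw [← ha, ← hb, this])
      have hmem : ∀ j : Fin L.c, q j ∈ MulAction.orbit A p := by
        rintro ⟨j, hj⟩
        induction j using Nat.strong_induction_on with
        | _ j ih =>
          obtain ⟨-, -, h0, hpos⟩ := spanOK_get hspan j (Nat.zero_le _) (by omega)
          rcases Nat.eq_zero_or_pos j with hj0 | hj0
          · convert MulAction.mem_orbit_self p
            exact Fin.ext (h0 hj0)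
          · obtain ⟨hlt, hk, hw⟩ := hpos (by omega)
            obtain ⟨⟨a, ha⟩, haq⟩ := ih _ hlt (by omega)
            have hu : L.U.getD (L.O.getP j % B) [] ∈ L.U := by
              rw [List.getD_eq_getElem?_getD, List.getElem?_eq_getElem hk]
              exact List.getElem_mem hk
            refine ⟨⟨_, A.mul_mem (hU L (by simp) _ hu) ha⟩, ?_⟩
            show val (pperm P n) _ (a p) = q ⟨j, hj⟩
            rw [show a p = q ⟨_, hlt.trans hj⟩ from haq]
            exact Fin.ext (by rw [val_pperm hp hS _ (hl _ hu)]; exact hw)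
      calc L.c = (Set.range q).ncard := by
            rw [Set.ncard_range_of_injective hinj, Nat.card_fin]
        _ ≤ _ := Set.ncard_le_ncard (Set.range_subset_iff.2 hmem) (Set.toFinite _)
    have hnlet : ∀ M' ∈ Ls, ∀ u ∈ M'.U, ∀ g ∈ u, g ∈ S := by
      intro M' hM u hu
      exact lettersIn_of_baseOK hrest M' hM u hu
    set A' := A ⊓ MulAction.stabilizer (Equiv.Perm (Fin n)) p
    have hU' : ∀ M' ∈ Ls, ∀ u ∈ M'.U, val (pperm P n) u ∈ A' := by
      intro M' hM u hu
      have h1 := List.all_eq_true.1 hfix u (List.mem_flatMap.2 ⟨M', hM, hu⟩)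
      rw [Nat.beq_eq] at h1
      refine ⟨hU M' (by simp [hM]) u hu, Fin.ext ?_⟩
      show (val (pperm P n) u p).1 = p.1
      rw [val_pperm hp hS _ (hnlet M' hM u hu)]
      exact h1
    have ih := base_le hp hS hrest A' hU'
    have heq : (A ⊓ baseFix n (L :: Ls) : Subgroup (Equiv.Perm (Fin n))) = A' ⊓ baseFix n Ls := by
      ext a
      simp only [A', Subgroup.mem_inf, MulAction.mem_stabilizer_iff, Equiv.Perm.smul_def]
      constructor
      · rintro ⟨ha, hb⟩
        exact ⟨⟨ha, hb L (by simp) p rfl⟩, fun M' hM => hb M' (by simp [hM])⟩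
      · rintro ⟨⟨ha, hb⟩, hc'⟩
        refine ⟨ha, fun M' hM i hi => ?_⟩
        rcases List.mem_cons.1 hM with rfl | hM
        · obtain rfl : i = p := Fin.ext hi
          exact hb
        · exact hc' M' hM i hi
    rw [baseSize, heq, mul_assoc]
    refine (Nat.mul_le_mul horb ih).trans ?_
    have hmul := Subgroup.card_mul_index (MulAction.stabilizer A p)
    rw [← hmul, MulAction.index_stabilizer, mul_comm (MulAction.orbit A p).ncard]
    refine Nat.mul_le_mul (le_of_eq (Nat.card_congr ?_)) le_rfl
    exact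
      { toFun := fun a => ⟨⟨a.1, a.2.1⟩, a.2.2⟩
        invFun := fun a => ⟨a.1.1, a.1.2, a.2⟩ }

/-- The base points determine the elements of a group of at most the size of the orbit product. -/
theorem eq_of_base {G : Type*} [Group G] [Finite G] (hp : permOK P n S R n 0 = true) (hS : SymS S)
    {Ls : List Level} (hb : baseOK P n S Ls = true) (f : G →* Equiv.Perm (Fin n))
    (hU : ∀ L ∈ Ls, ∀ u ∈ L.U, val (pperm P n) u ∈ f.range) (hpos : 0 < baseSize Ls)
    (hG : Nat.card G ≤ baseSize Ls) :
    Nat.card G = baseSize Ls ∧ ∀ a b : G,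
      (∀ L ∈ Ls, ∀ i : Fin n, i.1 = L.point → f a i = f b i) → a = b := by
  have h1 := base_le hp hS hb f.range hU
  have h2 : Nat.card f.range ≤ Nat.card G :=
    Nat.card_le_card_of_surjective _ f.rangeRestrict_surjective
  set N := (f.range ⊓ baseFix n Ls : Subgroup (Equiv.Perm (Fin n)))
  have h3 : 0 < Nat.card N := Nat.card_pos
  have hN : Nat.card N = 1 := by
    by_contra hne
    have : baseSize Ls * 2 ≤ baseSize Ls * Nat.card N := Nat.mul_le_mul le_rfl (by omega)
    omega
  rw [hN, mul_one] at h1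
  refine ⟨by omega, fun a b hab => ?_⟩
  have hinj : Function.Injective f.rangeRestrict :=
    ((Nat.bijective_iff_surjective_and_card _).2 ⟨f.rangeRestrict_surjective, by omega⟩).1
  refine hinj (Subtype.ext ?_)
  have hmem : f (a⁻¹ * b) ∈ N := ⟨⟨_, rfl⟩, fun L hL i hi => by
    rw [map_mul, map_inv, Equiv.Perm.mul_apply, Equiv.Perm.inv_eq_iff_eq, hab L hL i hi]⟩
  rw [Subgroup.eq_bot_of_card_eq _ hN, Subgroup.mem_bot, map_mul, map_inv, inv_mul_eq_one] at hmem
  simpa using hmem

end Cfsg.Lib.HN
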