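import Cfsg.Agent.Lib.CosetEnum.Defs

/-!
# Certificates for presentations with four generators and their inverses: the checks

Letters `0, 1, 2, 3` stand for `x, y, z, t`; the letters `4, 5, 2, 6` for their inverses (the third
generator is an involution). A table stores the right action of the letters on numbered points.
-/

set_option autoImplicit false

namespace Cfsg.Lib.HN

open Cfsg.Lib.CosetEnum (Tab force beqW B eps fu fv fg digits)

/-- The letter of the inverse. -/
def linv : Nat → Nat
  | 0 => 4
  | 1 => 5
  | 3 => 6
  | 4 => 0
  | 5 => 1
  | 6 => 3
  | n => n

/-- The word of the inverse. -/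
def winv (w : List Nat) : List Nat := (w.map linv).reverse

/-- Image of a point under a letter. -/
noncomputable def img (P : Tab) (g i : Nat) : Nat := P.getP (i * 8 + g)

/-- Image of a point under a word, first letter first. -/
noncomputable def twalk (P : Tab) (w : List Nat) : Nat → Nat :=
  List.rec (motive := fun _ => Nat → Nat) (fun i => i)
    (fun g _ ih i => force (img P g i) ih) w

/-- The letters act by inverse permutations and the relators fix the points, on a range. -/
noncomputable def permOK (P : Tab) (n : Nat) (S : List Nat) (R : List (List Nat)) :
    Nat → Nat → Bool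
  | 0, _ => true
  | m + 1, i => force i fun i => (S.all fun g =>
        force (img P g i) fun t => Nat.blt t n && Nat.beq (img P (linv g) t) i) &&
      (R.all fun r => Nat.beq (twalk P r i) i) && permOK P n S R m (i + 1)

/-- Letters lie in a list. -/
def lettersIn (S : List Nat) (w : List Nat) : Bool := w.all fun g => S.any fun s => Nat.beq g s

/-- A word is a cyclic shift of a relator, of the inverse of a relator, or cancels. -/
def isShift (R0 : List (List Nat)) (r : List Nat) : Bool :=
  R0.any fun r0 => (List.range (r0.length + 1)).any fun i =>
    beqW (r0.drop i ++ r0.take i) r || beqW ((winv r0).drop i ++ (winv r0).take i) r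

/-- Every word is such a shift. -/
def shiftsOK (R0 R : List (List Nat)) : Bool :=
  R.all fun r => (match r with
    | [a, b] => Nat.blt a 7 && Nat.beq b (linv a)
    | _ => false) || isShift R0 r

/-- Add a label to a word, dropping equality labels. -/
def consL (g : Nat) (w : List Nat) : List Nat := cond (Nat.beq g eps) w (g :: w)

/-- The label of a fact read backwards. -/
def back (g : Nat) : Nat := cond (Nat.beq g eps) eps (linv g)

/-- Follow facts from a node; returns the end node and the word read. -/
noncomputable def walk (F : Tab) (bound : Nat) : List Nat → Nat → Option (Nat × List Nat)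
  | [], cur => some (cur, [])
  | r :: rs, cur =>
    cond (Nat.blt r bound)
      (force (F.getP r) fun f =>
        cond (Nat.beq (fu f) cur)
          (force (fv f) fun nx => match walk F bound rs nx with
            | some (e, w) => some (e, consL (fg f) w)
            | none => none)
          (cond (Nat.beq (fv f) cur)
            (force (fu f) fun nx => match walk F bound rs nx with
              | some (e, w) => some (e, consL (back (fg f)) w)
              | none => none)
            none))
      none

/-- Invert a word with equality labels dropped. -/
def winvL (w : List Nat) : List Nat := (w.map back).reverse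

/-- Check a derived fact: a relation word read from a node, with one gap. -/
noncomputable def stepOK (R U : List (List Nat)) (F : Tab) (i : Nat) : List Nat → Bool
  | k :: s :: p :: refs =>
    (Nat.blt k R.length || Nat.beq s 0) && Nat.blt k (R.length + U.length) &&
      match walk F i (refs.take p) s, walk F i (refs.drop p) s with
      | some (u, w), some (v, w') =>
        Nat.beq (fu (F.getP i)) u && Nat.beq (fv (F.getP i)) v &&
          (Nat.beq (fg (F.getP i)) eps || Nat.blt (fg (F.getP i)) 7) &&
          beqW (w ++ consL (fg (F.getP i)) (winvL w')) ((R ++ U).getD k [eps])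
      | _, _ => false
  | _ => false

/-- Check a range of derived facts. -/
noncomputable def stepsOK (R U : List (List Nat)) (F C : Tab) (d : Nat) : Nat → Nat → Bool
  | 0, _ => true
  | n + 1, j => force j fun j =>
      stepOK R U F (d + j) (digits 400 (C.get j)) && stepsOK R U F C d n (j + 1)

/-- Check the node definitions: fact `i` creates node `i + 1`. -/
noncomputable def defsOK (F : Tab) : Nat → Nat → Bool
  | 0, _ => true
  | n + 1, j => force j fun j =>
      Nat.ble (fu (F.getP j)) j && Nat.beq (fv (F.getP j)) (j + 1) && Nat.blt (fg (F.getP j)) 7 &&
        defsOK F n (j + 1)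

/-- One closing edge: a path of facts reads the letter between two representatives. -/
noncomputable def edgeOK (F Rep P : Tab) (bound n g i : Nat) (refs : List Nat) : Bool :=
  Nat.blt (img P g i) n &&
    match walk F bound refs (Rep.getP i) with
    | some (e, w) => Nat.beq e (Rep.getP (img P g i)) && beqW w [g]
    | none => false

/-- Check that the letters in `S` keep the representatives in place. -/
noncomputable def closedOK (F Rep Z P : Tab) (bound n : Nat) (S : List Nat) : Nat → Nat → Bool
  | 0, _ => true
  | m + 1, i => force i fun i =>
      (S.all fun g => edgeOK F Rep P bound n g i (digits 400 (Z.get (i * 8 + g)))) &&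
        closedOK F Rep Z P bound n S m (i + 1)

/-- Split a check of derived facts. -/
theorem stepsOK_append {R U : List (List Nat)} {F C : Tab} {d : Nat} : ∀ {m n j : Nat},
    stepsOK R U F C d m j = true → stepsOK R U F C d n (j + m) = true →
      stepsOK R U F C d (m + n) j = true
  | 0, n, j, _, h2 => by simpa using h2
  | m + 1, n, j, h1, h2 => by
    rw [Nat.succ_add]
    simp only [stepsOK, Cfsg.Lib.CosetEnum.force_eq, Bool.and_eq_true] at h1 ⊢
    exact ⟨h1.1, stepsOK_append h1.2 (by rwa [Nat.add_assoc, Nat.add_comm 1 m])⟩

/-- Split a check of closing edges. -/
theorem closedOK_append {F Rep Z P : Tab} {bound n : Nat} {S : List Nat} : ∀ {m k i : Nat},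
    closedOK F Rep Z P bound n S m i = true → closedOK F Rep Z P bound n S k (i + m) = true →
      closedOK F Rep Z P bound n S (m + k) i = true
  | 0, k, i, _, h2 => by simpa using h2
  | m + 1, k, i, h1, h2 => by
    rw [Nat.succ_add]
    simp only [closedOK, Cfsg.Lib.CosetEnum.force_eq, Bool.and_eq_true] at h1 ⊢
    exact ⟨h1.1, closedOK_append h1.2 (by rwa [Nat.add_assoc, Nat.add_comm 1 m])⟩

/-- Split a check of a table. -/
theorem permOK_append {P : Tab} {n : Nat} {S : List Nat} {R : List (List Nat)} : ∀ {m k i : Nat},
    permOK P n S R m i = true → permOK P n S R k (i + m) = true →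
      permOK P n S R (m + k) i = true
  | 0, k, i, _, h2 => by simpa using h2
  | m + 1, k, i, h1, h2 => by
    rw [Nat.succ_add]
    simp only [permOK, Cfsg.Lib.CosetEnum.force_eq, Bool.and_eq_true] at h1 ⊢
    exact ⟨h1.1, permOK_append h1.2 (by rwa [Nat.add_assoc, Nat.add_comm 1 m])⟩

end Cfsg.Lib.HN
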