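import Cfsg.Agent.Lib.HN.Engine

/-!
# Exact orders of subgroups given by words, in a group with a model
-/

set_option autoImplicit false

namespace Cfsg.Lib.HN

open Cfsg.Lib.CosetEnum (Tab force force_eq digits B)

/-- The witnesses of one level: paths in the orbit and Schreier elements in the next level. -/
structure LevelWit where
  /-- The path to a position, as indices of words. -/
  τ : Tab
  /-- The Schreier element at a position and word, as indices of words of the next level. -/
  E : Tab

/-- The word of a path. -/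
noncomputable def pathWord (U : List (List ℕ)) (t : Tab) (j : ℕ) : List ℕ :=
  wprod U (digits 400 (t.get j))

/-- The paths and Schreier elements of one level are correct, on a range of positions. -/
noncomputable def witOK (c : Sys) (L : Level) (w : LevelWit) (next : List (List ℕ)) :
    ℕ → ℕ → Bool
  | 0, _ => true
  | m + 1, j => force j fun j =>
      force (L.O.getP j / B / B) fun p =>
      Nat.beq (twalk c.P (winv (pathWord L.U w.τ j)) L.point) p && Nat.beq (L.Pos.getP p) j &&
      (List.range L.U.length).all (fun g =>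
        force (twalk c.P (winv (L.U.getD g [])) p) fun q =>
        force (L.Pos.getP q) fun j' =>
        Nat.blt j' L.c && Nat.beq (L.O.getP j' / B / B) q &&
        eqW c (winv (pathWord L.U w.τ j') ++ (L.U.getD g [] ++ pathWord L.U w.τ j))
          (wprod next (digits 400 (w.E.get (L.U.length * j + g))))) &&
      witOK c L w next m (j + 1)

/-- All levels, the last one ending in the trivial group. -/
noncomputable def upperOK (c : Sys) : List Level → List LevelWit → Bool
  | [], _ => true
  | L :: Ls, w :: ws =>
    Nat.beq (L.Pos.getP L.point) 0 && Nat.blt 0 L.c && Nat.beq (L.O.getP 0 / B / B) L.point &&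
      witOK c L w ((Ls.head?.map Level.U).getD []) L.c 0 && upperOK c Ls ws
  | _ :: _, [] => false

variable {P : Type*} [Group P] {c : Sys} {x : ℕ → P} {n : ℕ}

/-- A faithful model of a group on a table. -/
structure Model (c : Sys) (x : ℕ → P) (n : ℕ) (ψ : P →* Equiv.Perm (Fin n)) : Prop where
  inv : LettersInv x
  symS : SymS c.S
  eq : ∀ a b : List ℕ, eqW c a b = true → val x a = val x b
  eval : ∀ w : List ℕ, lettersIn c.S w = true → ∀ i : Fin n,
    (ψ (val x w) i).1 = twalk c.P (winv w) i.1

theorem witOK_get {L : Level} {w : LevelWit} {next : List (List ℕ)} : ∀ {m i : ℕ},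
    witOK c L w next m i = true → ∀ j, i ≤ j → j < i + m →
      twalk c.P (winv (pathWord L.U w.τ j)) L.point = L.O.getP j / B / B ∧
      L.Pos.getP (L.O.getP j / B / B) = j ∧
      ∀ g < L.U.length,
        L.Pos.getP (twalk c.P (winv (L.U.getD g [])) (L.O.getP j / B / B)) < L.c ∧
        L.O.getP (L.Pos.getP (twalk c.P (winv (L.U.getD g [])) (L.O.getP j / B / B))) / B / B =
          twalk c.P (winv (L.U.getD g [])) (L.O.getP j / B / B) ∧
        eqW c (winv (pathWord L.U w.τ
            (L.Pos.getP (twalk c.P (winv (L.U.getD g [])) (L.O.getP j / B / B)))) ++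
            (L.U.getD g [] ++ pathWord L.U w.τ j))
          (wprod next (digits 400 (w.E.get (L.U.length * j + g)))) = true
  | 0, i, _, j, h1, h2 => by omega
  | m + 1, i, hc, j, h1, h2 => by
    rw [witOK, force_eq, force_eq, Bool.and_eq_true] at hc
    rcases Nat.eq_or_lt_of_le h1 with h | h
    · subst h
      have h3 := hc.1
      simp only [force_eq, Bool.and_eq_true, List.all_eq_true, List.mem_range, Nat.beq_eq,
        Nat.blt_eq, and_assoc] at h3
      exact h3
    · exact witOK_get hc.2 j h (by omega)

theorem wprod_mem (hx : LettersInv x) {K : Subgroup P} {U : List (List ℕ)}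
    (hU : ∀ u ∈ U, val x u ∈ K) : ∀ is : List ℕ, val x (wprod U is) ∈ K
  | [] => by simp [wprod, K.one_mem]
  | i :: is => by
    rw [wprod, val_append]
    refine K.mul_mem ?_ (wprod_mem hx hU is)
    have h : val x (U.getD (i / 2) []) ∈ K := by
      rcases Nat.lt_or_ge (i / 2) U.length with h | h
      · rw [List.getD_eq_getElem?_getD, List.getElem?_eq_getElem h]
        exact hU _ (List.getElem_mem h)
      · simp [List.getD_eq_getElem?_getD, List.getElem?_eq_none h, K.one_mem]
    cases Nat.beq (i % 2) 1
    · exact h
    · rw [cond_true, val_winv hx]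
      exact K.inv_mem h

theorem lettersIn_winv {S : List ℕ} (hS : SymS S) {w : List ℕ} (h : lettersIn S w = true) :
    lettersIn S (winv w) = true := by
  simp only [lettersIn, winv, List.all_eq_true, List.mem_reverse, List.mem_map, List.any_eq_true,
    Nat.beq_eq] at h ⊢
  rintro g ⟨a, ha, rfl⟩
  obtain ⟨s, hs, rfl⟩ := h a ha
  exact ⟨_, (hS a hs).1, rfl⟩

theorem lettersIn_append {S w v : List ℕ} :
    lettersIn S (w ++ v) = (lettersIn S w && lettersIn S v) := List.all_append

theorem wprod_letters {S : List ℕ} (hS : SymS S) {U : List (List ℕ)}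
    (hU : ∀ u ∈ U, lettersIn S u = true) : ∀ is : List ℕ, lettersIn S (wprod U is) = true
  | [] => rfl
  | i :: is => by
    rw [wprod, lettersIn_append, Bool.and_eq_true]
    refine ⟨?_, wprod_letters hS hU is⟩
    have h : lettersIn S (U.getD (i / 2) []) = true := by
      rcases Nat.lt_or_ge (i / 2) U.length with h | h
      · rw [List.getD_eq_getElem?_getD, List.getElem?_eq_getElem h]
        exact hU _ (List.getElem_mem h)
      · simp [List.getD_eq_getElem?_getD, List.getElem?_eq_none h, lettersIn]
    cases Nat.beq (i % 2) 1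
    · exact h
    · exact lettersIn_winv hS h

/-- The subgroup of some words. -/
def wordSub (x : ℕ → P) (U : List (List ℕ)) : Subgroup P :=
  Subgroup.closure (val x '' {u | u ∈ U})

theorem val_mem_wordSub {U : List (List ℕ)} {u : List ℕ} (h : u ∈ U) :
    val x u ∈ wordSub x U := Subgroup.subset_closure ⟨u, h, rfl⟩

theorem upper_le [Finite P] {ψ : P →* Equiv.Perm (Fin n)} (M : Model c x n ψ) :
    ∀ {Ls : List Level} {ws : List LevelWit}, upperOK c Ls ws = true →
      (∀ L ∈ Ls, L.point < n ∧ ∀ u ∈ L.U, lettersIn c.S u = true) →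
      Nat.card (wordSub x ((Ls.head?.map Level.U).getD [])) ≤ baseSize Ls
  | [], _, _, _ => by
    simp [wordSub, baseSize]
  | L :: Ls, [], h, _ => by simp [upperOK] at h
  | L :: Ls, w :: ws, h, hpt => by
    simp only [upperOK, Bool.and_eq_true, Nat.beq_eq, Nat.blt_eq] at h
    obtain ⟨⟨⟨⟨hp0, hc⟩, hO0⟩, hw⟩, hrest⟩ := h
    obtain ⟨hn, hl⟩ := hpt L (by simp)
    have ih := upper_le M hrest fun L' hL' => hpt L' (by simp [hL'])
    simp only [List.head?_cons, Option.map_some, Option.getD_some]
    letI : MulAction P (Fin n) := MulAction.compHom _ ψ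
    set A := wordSub x L.U
    set N := wordSub x ((Ls.head?.map Level.U).getD [])
    set p : Fin n := ⟨L.point, hn⟩
    set t : ℕ → P := fun j => val x (pathWord L.U w.τ j)
    set pos : Fin n → ℕ := fun q => L.Pos.getP q.1
    have htp : ∀ j < L.c, (ψ (t j) p).1 = L.O.getP j / B / B := fun j hj => by
      show (ψ (val x (wprod L.U (digits 400 (w.τ.get j)))) p).1 = _
      rw [M.eval _ (wprod_letters M.symS hl _) p]
      exact (witOK_get hw j (Nat.zero_le _) (by omega)).1
    have hgen : ∀ u ∈ L.U, ∀ j < L.c, pos (ψ (val x u) (ψ (t j) p)) < L.c ∧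
        ψ (t (pos (ψ (val x u) (ψ (t j) p)))) p = ψ (val x u) (ψ (t j) p) ∧
        (t (pos (ψ (val x u) (ψ (t j) p))))⁻¹ * (val x u * t j) ∈ N := by
      intro u hu j hj
      obtain ⟨g, hg, rfl⟩ := List.getElem_of_mem hu
      have h2 := (witOK_get hw j (Nat.zero_le _) (by omega)).2.2 g hg
      rw [List.getD_eq_getElem _ _ hg] at h2
      obtain ⟨e1, e2, e3⟩ := h2
      have hq : (ψ (val x L.U[g]) (ψ (t j) p)).1 =
          twalk c.P (winv L.U[g]) (L.O.getP j / B / B) := by
        rw [M.eval _ (hl _ (List.getElem_mem hg)), htp j hj]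
      refine ⟨by simp only [pos, hq]; exact e1, Fin.ext ?_, ?_⟩
      · rw [htp _ (by simp only [pos, hq]; exact e1)]
        simp only [pos, hq]
        exact e2
      · have h3 := M.eq _ _ e3
        rw [val_append, val_append, val_winv M.inv] at h3
        simp only [pos, hq, t]
        rw [h3]
        exact wprod_mem M.inv (fun v hv => val_mem_wordSub hv) _
    have hall : ∀ a ∈ A, ∀ j < L.c, pos (ψ a (ψ (t j) p)) < L.c ∧
        ψ (t (pos (ψ a (ψ (t j) p)))) p = ψ a (ψ (t j) p) ∧
        (t (pos (ψ a (ψ (t j) p))))⁻¹ * (a * t j) ∈ N := by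
      intro a ha
      have ha' : a ∈ Submonoid.closure (val x '' {u | u ∈ L.U}) := by
        rw [← Subgroup.closure_toSubmonoid_of_finite]
        exact ha
      induction ha' using Submonoid.closure_induction_left with
      | one =>
        intro j hj
        have hq : pos (ψ (t j) p) = j := by
          simp only [pos, htp j hj]
          exact (witOK_get hw j (Nat.zero_le _) (by omega)).2.1
        simp only [map_one, Equiv.Perm.one_apply, hq, one_mul, inv_mul_cancel]
        exact ⟨hj, trivial, N.one_mem⟩
      | mul_left y hy z hz ihz =>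
        obtain ⟨u, hu, rfl⟩ := hy
        have hzA : z ∈ A := by
          rw [show A = wordSub x L.U from rfl, wordSub, ← Subgroup.mem_toSubmonoid,
            Subgroup.closure_toSubmonoid_of_finite]
          exact hz
        intro j hj
        obtain ⟨h1, h2, h3⟩ := ihz hzA j hj
        obtain ⟨g1, g2, g3⟩ := hgen u hu _ h1
        rw [h2, ← Equiv.Perm.mul_apply, ← map_mul] at g1 g2 g3
        refine ⟨g1, g2, ?_⟩
        have := N.mul_mem g3 h3
        convert this using 1
        group
    have h0 : ψ (t 0) p = p := Fin.ext (by rw [htp 0 hc, hO0])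
    have hN : ∀ a ∈ A, ψ a p = p → a * t 0 ∈ (fun b => t 0 * b) '' (N : Set P) := by
      intro a ha hap
      obtain ⟨-, -, h3⟩ := hall a ha 0 hc
      rw [h0, hap, show pos p = 0 from hp0] at h3
      exact ⟨_, h3, by simp⟩
    have hstab : Nat.card (MulAction.stabilizer A p) ≤ Nat.card N := by
      let ι : MulAction.stabilizer A p → N := fun a =>
        ⟨(t 0)⁻¹ * (((a : A) : P) * t 0), by
          obtain ⟨b, hb, he⟩ := hN _ (a : A).2 a.2
          rw [← he]
          simpa using hb⟩
      refine Nat.card_le_card_of_injective ι fun a b hab => ?_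
      have h := congrArg Subtype.val hab
      simp only [ι, mul_right_inj, mul_left_inj] at h
      exact Subtype.ext (Subtype.ext h)
    have horb : (MulAction.orbit A p).ncard ≤ L.c := by
      refine (Set.ncard_le_ncard (t := (fun j => ψ (t j) p) '' Set.Iio L.c) ?_
        ((Set.finite_Iio _).image _)).trans ((Set.ncard_image_le (Set.finite_Iio _)).trans
          (by simp [Set.ncard_eq_toFinset_card']))
      rintro _ ⟨⟨a, ha⟩, rfl⟩
      obtain ⟨h1, h2, -⟩ := hall a ha 0 hc
      rw [h0] at h1 h2
      exact ⟨_, h1, h2⟩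
    rw [baseSize, ← Subgroup.card_mul_index (MulAction.stabilizer A p),
      MulAction.index_stabilizer, mul_comm L.c]
    exact Nat.mul_le_mul (hstab.trans ih) horb

end Cfsg.Lib.HN
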