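import Cfsg.Agent.Lib.HN.TopHom
import Cfsg.Agent.Lib.HN.Sub100.Model

/-!
# The double cover inside the subgroup of the first three generators
-/

set_option autoImplicit false

namespace Cfsg.Lib.HN

theorem isNonsplit_congr {H H' K : Type*} [Group H] [Group H'] [Group K] (e : H ≃* H')
    (h : IsNonsplitDoubleCover H K) : IsNonsplitDoubleCover H' K := by
  obtain ⟨h1, ⟨f⟩, h3⟩ := h
  have hc : (Subgroup.center H).map e.toMonoidHom = Subgroup.center H' := by
    ext y
    obtain ⟨x, rfl⟩ := e.surjective y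
    simp only [Subgroup.mem_map, Subgroup.mem_center_iff, MulEquiv.coe_toMonoidHom,
      e.injective.eq_iff, exists_eq_right]
    constructor
    · intro hx g
      obtain ⟨g, rfl⟩ := e.surjective g
      rw [← map_mul, ← map_mul, hx]
    · intro hx g
      exact e.injective (by rw [map_mul, map_mul, hx])
  refine ⟨?_, ⟨(QuotientGroup.congr _ _ e hc).symm.trans f⟩, fun L hL => ?_⟩
  · rw [← hc, Subgroup.card_map_of_injective e.injective, h1]
  · refine h3 (L.comap e.toMonoidHom) ?_
    rw [Subgroup.isComplement'_def] at hL ⊢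
    have hk := hL
    constructor
    · intro a b hab
      have ha : ∀ z : Subgroup.center H, e z.1 ∈ Subgroup.center H' := fun z =>
        hc ▸ ⟨z.1, z.2, rfl⟩
      have := hk.1 (a₁ := (⟨e a.1.1, ha a.1⟩, ⟨e a.2.1, a.2.2⟩))
        (a₂ := (⟨e b.1.1, ha b.1⟩, ⟨e b.2.1, b.2.2⟩)) (by
          show e a.1.1 * e a.2.1 = e b.1.1 * e b.2.1
          rw [← map_mul, ← map_mul]
          exact congrArg e hab)
      obtain ⟨h1, h2⟩ := Prod.mk.injEq _ _ _ _ ▸ this
      exact Prod.ext (Subtype.ext (e.injective (congrArg Subtype.val h1)))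
        (Subtype.ext (e.injective (congrArg Subtype.val h2)))
    · intro g
      obtain ⟨⟨⟨z, hz⟩, ⟨l, hl⟩⟩, hzl⟩ := hk.2 (e g)
      have hz' : e.symm z ∈ Subgroup.center H := by
        rw [← hc] at hz
        obtain ⟨x, hx, rfl⟩ := hz
        simpa using hx
      refine ⟨(⟨e.symm z, hz'⟩, ⟨e.symm l, by simpa using hl⟩), ?_⟩
      show e.symm z * e.symm l = g
      rw [← map_mul, show z * l = e g from hzl, e.symm_apply_apply]

theorem xyz_double_cover : ∃ K : Subgroup Top.Hsub, K.Normal ∧ K.index = 2 ∧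
    IsNonsplitDoubleCover K Spor.HS := by
  obtain ⟨hn, hi, hd⟩ := Sub100.double_cover
  let e : PS ≃* Top.Hsub :=
    (MonoidHom.ofInjective Top.φP_injective).trans (MulEquiv.subgroupCongr Top.Hsub_eq.symm)
  refine ⟨Sub100.Kχ.map e.toMonoidHom, hn.map _ e.surjective, ?_,
    isNonsplit_congr (Sub100.Kχ.equivMapOfInjective e.toMonoidHom e.injective) hd⟩
  rw [show e.toMonoidHom = (e : PS →* Top.Hsub) from rfl, Subgroup.index_map_equiv, hi]

end Cfsg.Lib.HN
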