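import Cfsg.Agent.Lib.HN.Chain

/-!
# Deductions of equations between elements `h ρ b`

A model decides equality of the words in a subgroup; an outer letter normalises some of these words.
A state `(j, h, b)` stands for the element `val h * val (ρ j) * val b`.
-/

set_option autoImplicit false

namespace Cfsg.Lib.HN

open Cfsg.Lib.CosetEnum (Tab force beqW)

/-- The data of a deduction system. -/
structure Sys where
  /-- The table of the model. -/
  P : Tab
  /-- The base of the model. -/
  base : List ℕ
  /-- The letters of the model. -/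
  S : List ℕ
  /-- Words and their images under the outer letters. -/
  tw : List (List ℕ × List ℕ)
  /-- The outer letters. -/
  T : List ℕ
  /-- The representatives. -/
  ρ : List (List ℕ)
  /-- The relation words. -/
  R : List (List ℕ)

/-- The equation `x g * val u * val (ρ j) = val v * val (ρ k) * val β`. -/
structure EFact where
  /-- The outer letter. -/
  g : ℕ
  /-- The source. -/
  j : ℕ
  /-- The source word. -/
  u : List ℕ
  /-- The target. -/
  k : ℕ
  /-- The target word. -/
  v : List ℕ
  /-- The label. -/
  β : List ℕ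

/-- The equation `val s * val (ρ j) = val (ρ j) * val σ`. -/
structure EPair where
  /-- The representative. -/
  j : ℕ
  /-- The fixing word. -/
  s : List ℕ
  /-- The label. -/
  σ : List ℕ

/-- A state. -/
structure EState where
  /-- The representative. -/
  j : ℕ
  /-- The word on the left. -/
  h : List ℕ
  /-- The word on the right. -/
  b : List ℕ

/-- An operation on states. -/
inductive EOp
  | app (g : ℕ)
  | norm (h b : List ℕ)
  | use (i : ℕ) (rev : Bool) (cc : List ℕ) (ss : List ℕ)

/-- An entry of a derivation. -/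
inductive Entry
  | base (g : ℕ)
  | define (g j : ℕ) (u : List ℕ) (k : ℕ)
  | conj (i : ℕ) (cc ss : List ℕ) (s σ : List ℕ)
  | gap (r rot : ℕ) (neg : Bool) (st : EState) (ops ops' : List EOp) (v β : List ℕ)
  | loop (r rot : ℕ) (neg : Bool) (st : EState) (ops : List EOp) (s σ : List ℕ)

/-- Two words act alike on the base. -/
noncomputable def eqW (c : Sys) (a b : List ℕ) : Bool :=
  lettersIn c.S a && lettersIn c.S b &&
    c.base.all fun p => Nat.beq (twalk c.P (winv a) p) (twalk c.P (winv b) p)

/-- A signed product of listed words. -/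
def wprod (l : List (List ℕ)) : List ℕ → List ℕ
  | [] => []
  | i :: is => (cond (Nat.beq (i % 2) 1) (winv (l.getD (i / 2) [])) (l.getD (i / 2) [])) ++ wprod l is

/-- The pairs at a representative. -/
def pairsAt (Ps : List EPair) (j : ℕ) : List EPair := Ps.filter fun p => Nat.beq p.j j

/-- A fact read forwards or backwards. -/
def EFact.dir (f : EFact) (rev : Bool) : EFact :=
  cond rev ⟨linv f.g, f.k, f.v, f.j, f.u, winv f.β⟩ f

/-- Carry out operations; returns the state and the letters read. -/
noncomputable def runOps (c : Sys) (Fs : List EFact) (Ps : List EPair) :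
    List EOp → EState → Option (EState × List ℕ)
  | [], st => some (st, [])
  | .app g :: os, st =>
    (runOps c Fs Ps os ⟨st.j, g :: st.h, st.b⟩).map fun p => (p.1, p.2 ++ [g])
  | .norm h b :: os, st =>
    cond (eqW c st.h h && eqW c st.b b) (runOps c Fs Ps os ⟨st.j, h, b⟩) none
  | .use i rev cc ss :: os, st =>
    match Fs[i]? with
    | none => none
    | some f0 =>
      cond (Nat.beq st.j (f0.dir rev).j &&
          eqW c st.h (wprod (c.tw.map Prod.fst) cc ++ (f0.dir rev).u ++
            wprod ((pairsAt Ps st.j).map EPair.s) ss))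
        ((runOps c Fs Ps os ⟨(f0.dir rev).k, wprod (c.tw.map Prod.snd) cc ++ (f0.dir rev).v,
            (f0.dir rev).β ++ (wprod ((pairsAt Ps st.j).map EPair.σ) ss ++ st.b)⟩).map
          fun p => (p.1, p.2 ++ [(f0.dir rev).g]))
        none

/-- A rotation of a relation word or of its inverse. -/
def relWord (c : Sys) (r rot : ℕ) (neg : Bool) : List ℕ :=
  let w := cond neg (winv (c.R.getD r [])) (c.R.getD r [])
  w.drop rot ++ w.take rot

/-- Check an entry and add its conclusion. -/
noncomputable def addEntry (c : Sys) : List EFact × List EPair → Entry → Option (List EFact × List EPair)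
  | (Fs, Ps), .base g =>
    cond (lettersIn c.S [g] && beqW (c.ρ.getD 0 []) []) (some (Fs, Ps ++ [⟨0, [g], [g]⟩])) none
  | (Fs, Ps), .define g j u k =>
    cond (c.T.any (fun t => Nat.beq g t) && beqW (c.ρ.getD k []) (g :: (u ++ c.ρ.getD j [])))
      (some (Fs ++ [⟨g, j, u, k, [], []⟩], Ps)) none
  | (Fs, Ps), .conj i cc ss s σ =>
    match Fs[i]? with
    | none => none
    | some f =>
      cond (c.T.any (fun t => Nat.beq f.g t) && beqW f.v [] && beqW f.β [] &&
          eqW c (wprod (c.tw.map Prod.fst) cc ++ f.u)
            (f.u ++ wprod ((pairsAt Ps f.j).map EPair.s) ss) &&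
          eqW c (wprod (c.tw.map Prod.snd) cc) s &&
          eqW c (wprod ((pairsAt Ps f.j).map EPair.σ) ss) σ)
        (some (Fs, Ps ++ [⟨f.k, s, σ⟩])) none
  | (Fs, Ps), .gap r rot neg st ops ops' v β =>
    cond (Nat.blt r c.R.length)
      (match runOps c Fs Ps ops st, runOps c Fs Ps ops' st with
      | some (A, w), some (B', w') =>
        match (relWord c r rot neg).drop (winv w').length with
        | g :: rest =>
          cond (beqW (relWord c r rot neg) (winv w' ++ g :: w) && beqW rest w &&
              c.T.any (fun t => Nat.beq g t) && eqW c B'.h v && eqW c (B'.b ++ winv A.b) β)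
            (some (Fs ++ [⟨g, A.j, A.h, B'.j, v, β⟩], Ps)) none
        | [] => none
      | _, _ => none)
      none
  | (Fs, Ps), .loop r rot neg st ops s σ =>
    cond (Nat.blt r c.R.length)
      (match runOps c Fs Ps ops st with
      | some (B', w) =>
        cond (beqW (relWord c r rot neg) w && Nat.beq B'.j st.j &&
            eqW c (winv B'.h ++ st.h) s && eqW c (B'.b ++ winv st.b) σ)
          (some (Fs, Ps ++ [⟨st.j, s, σ⟩])) none
      | none => none)
      none

/-- Check a list of entries. -/
noncomputable def runEntries (c : Sys) : List Entry → List EFact × List EPair →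
    Option (List EFact × List EPair)
  | [], s => some s
  | e :: es, s =>
    match addEntry c s e with
    | some s' => runEntries c es s'
    | none => none

variable {M : Type*} [Group M]

/-- The hypotheses on the data. -/
structure Sys.Sound (c : Sys) (x : ℕ → M) : Prop where
  inv : LettersInv x
  symS : SymS c.S
  eq : ∀ a b : List ℕ, eqW c a b = true → val x a = val x b
  twist : ∀ g ∈ c.T, ∀ p ∈ c.tw, x g * val x p.1 = val x p.2 * x g
  twist' : ∀ g ∈ c.T, ∀ p ∈ c.tw, x (linv g) * val x p.1 = val x p.2 * x (linv g)
  rel : ∀ r ∈ c.R, val x r = 1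

variable {c : Sys} {x : ℕ → M}

/-- The meaning of a fact. -/
def EFact.OK (f : EFact) (c : Sys) (x : ℕ → M) : Prop :=
  (f.g ∈ c.T ∨ linv f.g ∈ c.T ∧ linv (linv f.g) = f.g) ∧
    x f.g * (val x f.u * val x (c.ρ.getD f.j [])) =
      val x f.v * val x (c.ρ.getD f.k []) * val x f.β

/-- The meaning of a pair. -/
def EPair.OK (p : EPair) (c : Sys) (x : ℕ → M) : Prop :=
  val x p.s * val x (c.ρ.getD p.j []) = val x (c.ρ.getD p.j []) * val x p.σ

/-- The element of a state. -/
def EState.elem (st : EState) (c : Sys) (x : ℕ → M) : M :=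
  val x st.h * val x (c.ρ.getD st.j []) * val x st.b

theorem winv_winv_val (hx : LettersInv x) (w : List ℕ) :
    val x (winv (winv w)) = val x w := by
  rw [val_winv hx, val_winv hx, inv_inv]

theorem wprod_twist (h : c.Sound x) {g : ℕ} (hg : g ∈ c.T ∨ linv g ∈ c.T ∧ linv (linv g) = g) :
    ∀ cc : List ℕ, x g * val x (wprod (c.tw.map Prod.fst) cc) =
      val x (wprod (c.tw.map Prod.snd) cc) * x g := by
  have h1 : ∀ p ∈ c.tw, x g * val x p.1 = val x p.2 * x g := by
    intro p hp
    rcases hg with hg | ⟨hg, hgg⟩
    · exact h.twist g hg p hp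
    · have := h.twist' _ hg p hp
      rwa [hgg] at this
  intro cc
  induction cc with
  | nil => simp [wprod]
  | cons i is ih =>
    rw [wprod, wprod, val_append, val_append, ← mul_assoc, mul_assoc (val x _) _ (x g), ← ih,
      ← mul_assoc]
    congr 1
    rcases Nat.lt_or_ge (i / 2) c.tw.length with hlt | hge
    · have hp := h1 _ (List.getElem_mem hlt)
      cases Nat.beq (i % 2) 1 <;>
        simp only [cond_true, cond_false, List.getD_eq_getElem?_getD, List.getElem?_map,
          List.getElem?_eq_getElem hlt, Option.map_some, Option.getD_some]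
      · exact hp
      · rw [val_winv h.inv, val_winv h.inv, mul_inv_eq_iff_eq_mul, mul_assoc, hp, inv_mul_cancel_left]
    · cases Nat.beq (i % 2) 1 <;>
        simp [List.getD_eq_getElem?_getD, List.getElem?_map, List.getElem?_eq_none hge, winv]

theorem wprod_pairs (hx : LettersInv x) {Ps : List EPair} (hP : ∀ p ∈ Ps, p.OK c x) (j : ℕ) :
    ∀ ss : List ℕ, val x (wprod ((pairsAt Ps j).map EPair.s) ss) * val x (c.ρ.getD j []) =
      val x (c.ρ.getD j []) * val x (wprod ((pairsAt Ps j).map EPair.σ) ss) := by
  have h1 : ∀ p ∈ pairsAt Ps j, val x p.s * val x (c.ρ.getD j []) =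
      val x (c.ρ.getD j []) * val x p.σ := by
    intro p hp
    simp only [pairsAt, List.mem_filter, Nat.beq_eq] at hp
    have := hP p hp.1
    rwa [EPair.OK, hp.2] at this
  intro ss
  induction ss with
  | nil => simp [wprod]
  | cons i is ih =>
    rw [wprod, wprod, val_append, val_append, mul_assoc, ih, ← mul_assoc, ← mul_assoc]
    congr 1
    rcases Nat.lt_or_ge (i / 2) (pairsAt Ps j).length with hlt | hge
    · have hp := h1 _ (List.getElem_mem hlt)
      cases Nat.beq (i % 2) 1 <;>
        simp only [cond_true, cond_false, List.getD_eq_getElem?_getD, List.getElem?_map,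
          List.getElem?_eq_getElem hlt, Option.map_some, Option.getD_some]
      · exact hp
      · rw [val_winv hx, val_winv hx, inv_mul_eq_iff_eq_mul, ← mul_assoc, eq_mul_inv_iff_mul_eq]
        exact hp.symm
    · cases Nat.beq (i % 2) 1 <;>
        simp [List.getD_eq_getElem?_getD, List.getElem?_map, List.getElem?_eq_none hge, winv]

theorem dir_ok (hx : LettersInv x) (hT : ∀ g ∈ c.T, linv (linv g) = g) {f : EFact} (hf : f.OK c x)
    (rev : Bool) : (f.dir rev).OK c x := by
  cases rev
  · exact hf
  · obtain ⟨hg, he⟩ := hf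
    refine ⟨?_, ?_⟩
    · show linv f.g ∈ c.T ∨ linv (linv f.g) ∈ c.T ∧ linv (linv (linv f.g)) = linv f.g
      rcases hg with hg | ⟨hg, hgg⟩
      · exact Or.inr ⟨by rwa [hT _ hg], by rw [hT _ hg]⟩
      · exact Or.inl hg
    · show x (linv f.g) * (val x f.v * val x (c.ρ.getD f.k [])) =
        val x f.u * val x (c.ρ.getD f.j []) * val x (winv f.β)
      rw [val_winv hx, hx, eq_mul_inv_iff_mul_eq, mul_assoc, inv_mul_eq_iff_eq_mul]
      exact he.symm

theorem runOps_sound (h : c.Sound x) (hT : ∀ g ∈ c.T, linv (linv g) = g) {Fs : List EFact}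
    {Ps : List EPair} (hF : ∀ f ∈ Fs, f.OK c x) (hP : ∀ p ∈ Ps, p.OK c x) :
    ∀ (ops : List EOp) (st A : EState) (w : List ℕ), runOps c Fs Ps ops st = some (A, w) →
      val x w * st.elem c x = A.elem c x
  | [], st, A, w, hr => by
    simp only [runOps, Option.some.injEq, Prod.mk.injEq] at hr
    obtain ⟨rfl, rfl⟩ := hr
    simp
  | .app g :: os, st, A, w, hr => by
    simp only [runOps, Option.map_eq_some_iff] at hr
    obtain ⟨⟨A', w'⟩, h1, h2⟩ := hr
    simp only [Prod.mk.injEq] at h2
    obtain ⟨rfl, rfl⟩ := h2
    rw [← runOps_sound h hT hF hP os _ _ _ h1]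
    simp [EState.elem, mul_assoc]
  | .norm a b :: os, st, A, w, hr => by
    rw [runOps] at hr
    cases he : eqW c st.h a && eqW c st.b b
    · simp [he] at hr
    · rw [he, cond_true] at hr
      rw [Bool.and_eq_true] at he
      rw [← runOps_sound h hT hF hP os _ _ _ hr]
      simp [EState.elem, h.eq _ _ he.1, h.eq _ _ he.2]
  | .use i rev cc ss :: os, st, A, w, hr => by
    rw [runOps] at hr
    cases hi : Fs[i]? with
    | none => simp [hi] at hr
    | some f0 =>
      simp only [hi] at hr
      set f := f0.dir rev
      cases he : Nat.beq st.j f.j && eqW c st.h (wprod (c.tw.map Prod.fst) cc ++ f.u ++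
          wprod ((pairsAt Ps st.j).map EPair.s) ss)
      · rw [he] at hr; simp at hr
      · simp only [he, cond_true, Option.map_eq_some_iff] at hr
        obtain ⟨⟨A', w'⟩, h1, h2⟩ := hr
        simp only [Prod.mk.injEq] at h2
        obtain ⟨rfl, rfl⟩ := h2
        rw [Bool.and_eq_true, Nat.beq_eq] at he
        have hf : f.OK c x := dir_ok h.inv hT (hF f0 (List.mem_of_getElem? hi)) rev
        rw [← runOps_sound h hT hF hP os _ _ _ h1, val_append, mul_assoc]
        congr 1
        obtain ⟨hg, hfe⟩ := hf
        simp only [EState.elem, val_append, val_cons, val_nil, mul_one, h.eq _ _ he.2]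
        have h3 := wprod_pairs h.inv hP st.j ss
        have h4 := wprod_twist h hg cc
        rw [he.1] at h3 ⊢
        simp only [mul_assoc] at h3 h4 hfe ⊢
        rw [← mul_assoc (x f.g), h4, mul_assoc, ← mul_assoc (val x (wprod (List.map EPair.s _) ss)),
          h3, mul_assoc]
        congr 1
        simp only [← mul_assoc] at hfe ⊢
        rw [hfe]

theorem val_relWord (h : c.Sound x) {r : ℕ} (hr : r < c.R.length) (rot : ℕ) (neg : Bool) :
    val x (relWord c r rot neg) = 1 := by
  have h1 : val x (c.R.getD r []) = 1 := by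
    rw [List.getD_eq_getElem?_getD, List.getElem?_eq_getElem hr]
    exact h.rel _ (List.getElem_mem hr)
  have h2 : val x (cond neg (winv (c.R.getD r [])) (c.R.getD r [])) = 1 := by
    cases neg
    · exact h1
    · rw [cond_true, val_winv h.inv, h1, inv_one]
  unfold relWord
  simp only []
  rw [← List.take_append_drop rot (cond neg _ _), val_append] at h2
  rw [val_append, mul_eq_one_comm.1 h2]

theorem addEntry_sound (h : c.Sound x) (hT : ∀ g ∈ c.T, linv (linv g) = g) {Fs : List EFact}
    {Ps : List EPair} (hF : ∀ f ∈ Fs, f.OK c x) (hP : ∀ p ∈ Ps, p.OK c x) {e : Entry}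
    {Fs' : List EFact} {Ps' : List EPair} (he : addEntry c (Fs, Ps) e = some (Fs', Ps')) :
    (∀ f ∈ Fs', f.OK c x) ∧ ∀ p ∈ Ps', p.OK c x := by
  have hmemT : ∀ g, (c.T.any fun t => Nat.beq g t) = true → g ∈ c.T := by
    intro g hg
    simp only [List.any_eq_true, Nat.beq_eq] at hg
    obtain ⟨t, ht, rfl⟩ := hg
    exact ht
  cases e with
  | base g =>
    simp only [addEntry] at he
    cases hc : lettersIn c.S [g] && beqW (c.ρ.getD 0 []) [] <;> simp only [hc, cond_true, cond_false,
      Option.some.injEq, Prod.mk.injEq, reduceCtorEq] at he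
    obtain ⟨rfl, rfl⟩ := he
    rw [Bool.and_eq_true] at hc
    refine ⟨hF, fun p hp => ?_⟩
    rcases List.mem_append.1 hp with hp | hp
    · exact hP p hp
    · obtain rfl := List.mem_singleton.1 hp
      rw [EPair.OK, beqW_eq hc.2]
      simp
  | define g j u k =>
    simp only [addEntry] at he
    cases hc : (c.T.any fun t => Nat.beq g t) && beqW (c.ρ.getD k []) (g :: (u ++ c.ρ.getD j [])) <;>
      simp only [hc, cond_true, cond_false, Option.some.injEq, Prod.mk.injEq, reduceCtorEq] at he
    obtain ⟨rfl, rfl⟩ := he
    rw [Bool.and_eq_true] at hc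
    refine ⟨fun f hf => ?_, hP⟩
    rcases List.mem_append.1 hf with hf | hf
    · exact hF f hf
    · obtain rfl := List.mem_singleton.1 hf
      refine ⟨Or.inl (hmemT g hc.1), ?_⟩
      rw [beqW_eq hc.2]
      simp [mul_assoc]
  | conj i cc ss s σ =>
    simp only [addEntry] at he
    cases hi : Fs[i]? with
    | none => simp [hi] at he
    | some f =>
      simp only [hi] at he
      cases hc : (c.T.any fun t => Nat.beq f.g t) && beqW f.v [] && beqW f.β [] &&
          eqW c (wprod (c.tw.map Prod.fst) cc ++ f.u)
            (f.u ++ wprod ((pairsAt Ps f.j).map EPair.s) ss) &&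
          eqW c (wprod (c.tw.map Prod.snd) cc) s &&
          eqW c (wprod ((pairsAt Ps f.j).map EPair.σ) ss) σ <;>
        simp only [hc, cond_true, cond_false, Option.some.injEq, Prod.mk.injEq, reduceCtorEq] at he
      obtain ⟨rfl, rfl⟩ := he
      simp only [Bool.and_eq_true] at hc
      obtain ⟨⟨⟨⟨⟨hg, hv⟩, hb⟩, h1⟩, h2⟩, h3⟩ := hc
      refine ⟨hF, fun p hp => ?_⟩
      rcases List.mem_append.1 hp with hp | hp
      · exact hP p hp
      · obtain rfl := List.mem_singleton.1 hp
        obtain ⟨-, hfe⟩ := hF f (List.mem_of_getElem? hi)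
        rw [beqW_eq hv, beqW_eq hb, val_nil, one_mul, mul_one] at hfe
        have h4 := h.eq _ _ h1
        rw [val_append, val_append] at h4
        have h5 := wprod_pairs h.inv hP f.j ss
        have h6 := wprod_twist h (Or.inl (hmemT _ hg)) cc
        rw [EPair.OK]
        simp only [← h.eq _ _ h2, ← h.eq _ _ h3]
        rw [← hfe]
        calc _ = val x (wprod (c.tw.map Prod.snd) cc) * x f.g *
              (val x f.u * val x (c.ρ.getD f.j [])) := by simp only [mul_assoc]
          _ = x f.g * (val x (wprod (c.tw.map Prod.fst) cc) * val x f.u) *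
              val x (c.ρ.getD f.j []) := by rw [← h6]; simp only [mul_assoc]
          _ = x f.g * val x f.u *
              (val x (wprod ((pairsAt Ps f.j).map EPair.s) ss) * val x (c.ρ.getD f.j [])) := by
              rw [h4]; simp only [mul_assoc]
          _ = _ := by rw [h5]; simp only [mul_assoc]
  | gap r rot neg st ops ops' v β =>
    simp only [addEntry] at he
    cases hr : Nat.blt r c.R.length
    · simp [hr] at he
    rw [hr, cond_true] at he
    rw [Nat.blt_eq] at hr
    split at he
    · next A w B' w' hA hB =>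
      split at he
      · next g rest hg =>
        cases hc : beqW (relWord c r rot neg) (winv w' ++ g :: w) && beqW rest w &&
            (c.T.any fun t => Nat.beq g t) && eqW c B'.h v && eqW c (B'.b ++ winv A.b) β <;>
          simp only [hc, cond_true, cond_false, Option.some.injEq, Prod.mk.injEq, reduceCtorEq] at he
        obtain ⟨rfl, rfl⟩ := he
        simp only [Bool.and_eq_true] at hc
        obtain ⟨⟨⟨⟨h1, -⟩, h2⟩, h3⟩, h4⟩ := hc
        refine ⟨fun f hf => ?_, hP⟩
        rcases List.mem_append.1 hf with hf | hf
        · exact hF f hf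
        · obtain rfl := List.mem_singleton.1 hf
          refine ⟨Or.inl (hmemT g h2), ?_⟩
          have e1 := runOps_sound h hT hF hP _ _ _ _ hA
          have e2 := runOps_sound h hT hF hP _ _ _ _ hB
          have e3 := val_relWord h hr rot neg
          rw [beqW_eq h1, val_append, val_cons, val_winv h.inv, inv_mul_eq_one] at e3
          have e4 : x g * A.elem c x = B'.elem c x := by
            rw [← e1, ← e2, e3, mul_assoc]
          have h3' := h.eq _ _ h3
          have h4' := h.eq _ _ h4
          rw [val_append, val_winv h.inv] at h4'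
          simp only [EState.elem, ← mul_assoc] at e4
          show x g * (val x A.h * _) = val x v * _ * val x β
          rw [← h3', ← h4', ← mul_assoc, ← mul_assoc, eq_mul_inv_iff_mul_eq]
          exact e4
      · simp at he
    · simp at he
  | loop r rot neg st ops s σ =>
    simp only [addEntry] at he
    cases hr : Nat.blt r c.R.length
    · simp [hr] at he
    rw [hr, cond_true] at he
    rw [Nat.blt_eq] at hr
    split at he
    · next B' w hB =>
      cases hc : beqW (relWord c r rot neg) w && Nat.beq B'.j st.j &&
          eqW c (winv B'.h ++ st.h) s && eqW c (B'.b ++ winv st.b) σ <;>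
        simp only [hc, cond_true, cond_false, Option.some.injEq, Prod.mk.injEq, reduceCtorEq] at he
      obtain ⟨rfl, rfl⟩ := he
      simp only [Bool.and_eq_true, Nat.beq_eq] at hc
      obtain ⟨⟨⟨h1, h2⟩, h3⟩, h4⟩ := hc
      refine ⟨hF, fun p hp => ?_⟩
      rcases List.mem_append.1 hp with hp | hp
      · exact hP p hp
      · obtain rfl := List.mem_singleton.1 hp
        have e1 := runOps_sound h hT hF hP _ _ _ _ hB
        rw [← beqW_eq h1, val_relWord h hr rot neg, one_mul] at e1
        simp only [EState.elem, h2] at e1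
        have h3' := h.eq _ _ h3
        have h4' := h.eq _ _ h4
        rw [val_append, val_winv h.inv] at h3' h4'
        show val x s * _ = _ * val x σ
        rw [← h3', ← h4', mul_assoc, inv_mul_eq_iff_eq_mul, ← mul_assoc, ← mul_assoc,
          eq_mul_inv_iff_mul_eq]
        simp only [mul_assoc] at e1 ⊢
        exact e1
    · simp at he

theorem runEntries_sound (h : c.Sound x) (hT : ∀ g ∈ c.T, linv (linv g) = g) :
    ∀ (es : List Entry) {Fs : List EFact} {Ps : List EPair}, (∀ f ∈ Fs, f.OK c x) →
      (∀ p ∈ Ps, p.OK c x) → ∀ {Fs' : List EFact} {Ps' : List EPair},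
      runEntries c es (Fs, Ps) = some (Fs', Ps') →
        (∀ f ∈ Fs', f.OK c x) ∧ ∀ p ∈ Ps', p.OK c x
  | [], Fs, Ps, hF, hP, Fs', Ps', he => by
    simp only [runEntries, Option.some.injEq, Prod.mk.injEq] at he
    obtain ⟨rfl, rfl⟩ := he
    exact ⟨hF, hP⟩
  | e :: es, Fs, Ps, hF, hP, Fs', Ps', he => by
    rw [runEntries] at he
    split at he
    · next s' hs =>
      obtain ⟨h1, h2⟩ := addEntry_sound h hT hF hP (Fs' := s'.1) (Ps' := s'.2) hs
      exact runEntries_sound h hT es h1 h2 he
    · simp at he

end Cfsg.Lib.HN
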