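import Cfsg.Agent.Lib.HN.Omega

/-!
# Evaluation of words on the union of coset spaces: the checks
-/

set_option autoImplicit false

namespace Cfsg.Lib.HN

open Cfsg.Lib.CosetEnum (force beqW)

/-- The transformation on states. -/
noncomputable def evT (S : Sys) (D : OData) (p : ℕ × List ℕ) : ℕ × List ℕ :=
  force (twalk S.P p.2 0) fun i => force (D.cls p.1 i) fun c =>
    ((D.rec' c).k, p.2 ++ (D.tau p.1 i ++ (D.rec' c).W))

/-- A word on states, last letter first. -/
noncomputable def evW (S : Sys) (D : OData) : List ℕ → ℕ × List ℕ → ℕ × List ℕ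
  | [], p => p
  | 3 :: w, p => evT S D (evW S D w p)
  | 6 :: w, p => evT S D (evT S D (evT S D (evT S D (evW S D w p))))
  | g :: w, p => ((evW S D w p).1, g :: (evW S D w p).2)

/-- Two states give the same coset. -/
noncomputable def sameOK (S : Sys) (D : OData) (p q : ℕ × List ℕ) (e : List ℕ) : Bool :=
  Nat.beq p.1 q.1 && eqW S (winv p.2 ++ q.2) (wprod (D.kgens p.1) e)

/-- The representative state of a double coset. -/
def repState (D : OData) (c : ℕ) : ℕ × List ℕ := ((D.rec' c).j, (D.rec' c).u)

/-- A relation word fixes the representative state. -/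
noncomputable def relAtRep (S : Sys) (D : OData) (w : List ℕ) (wit : List (List ℕ)) (c : ℕ) : Bool :=
  sameOK S D (evW S D w (repState D c)) (repState D c) (wit.getD c [])

/-- The braid relation fixes the translated representatives of a double coset. -/
noncomputable def braidAtRep (S : Sys) (D : OData) (C : List (List ℕ))
    (zt : List (List (List ℕ) × List (ℕ × List ℕ))) (wit : List (List (List ℕ))) (c : ℕ) : Bool :=
  (List.range (zt.getD c ([], [])).1.length).all fun k =>
    let s : ℕ × List ℕ :=
      ((D.rec' c).j, wprod C ((zt.getD c ([], [])).1.getD k []) ++ (D.rec' c).u)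
    sameOK S D (evW S D [2, 3, 2, 3, 2, 3] s) s ((wit.getD c []).getD k [])

/-- Every point of the orbit is moved to one of the translations by the class stabiliser. -/
noncomputable def moverOK (S : Sys) (D : OData) (C : List (List ℕ)) (Z : List ℕ) (z0 : ℕ)
    (zt : List (List (List ℕ) × List (ℕ × List ℕ))) (c : ℕ) : Bool :=
  let r := D.rec' c
  Nat.beq (zt.getD c ([], [])).2.length Z.length &&
  (List.range Z.length).all fun i =>
    let m := (zt.getD c ([], [])).2.getD i (0, [])
    let σ := r.u ++ (wprod (D.kgens r.j) m.2 ++ winv r.u)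
    Nat.blt m.1 (zt.getD c ([], [])).1.length &&
    Nat.beq (twalk S.P (winv σ) 0) 0 &&
    Nat.beq (twalk S.P (wprod C ((zt.getD c ([], [])).1.getD m.1 [])) z0)
      (twalk S.P σ (Z.getD i 0))

/-- The record agrees with a derived equation. -/
noncomputable def factRecOK (D : OData) (Fs : List EFact) (of : List (ℕ × Bool)) (c : ℕ) : Bool :=
  let p := of.getD c (Fs.length, false)
  match Fs[p.1]? with
  | some f =>
    Nat.beq (f.dir p.2).g 3 && Nat.beq (f.dir p.2).j (D.rec' c).j &&
      Nat.beq (f.dir p.2).k (D.rec' c).k && beqW (f.dir p.2).u (D.rec' c).u &&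
      beqW (f.dir p.2).v (D.rec' c).v && lettersIn [0, 1, 2, 4, 5] (f.dir p.2).β
  | none => false

/-- The generators occur among the pairs. -/
noncomputable def gensInPairs (D : OData) (Ps : List EPair) (j : ℕ) : Bool :=
  (D.kgens j).all fun g => Ps.any fun p =>
    Nat.beq p.j j && beqW p.s g && lettersIn [0, 1, 2, 4, 5] p.σ

/-- Equality of lists of words. -/
def eqLists : List (List ℕ) → List (List ℕ) → Bool
  | [], [] => true
  | a :: l, b :: m => beqW a b && eqLists l m
  | _, _ => false

theorem eqLists_eq : ∀ {l m : List (List ℕ)}, eqLists l m = true → l = m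
  | [], [], _ => rfl
  | [], _ :: _, h => by simp [eqLists] at h
  | _ :: _, [], h => by simp [eqLists] at h
  | a :: l, b :: m, h => by
    simp only [eqLists, Bool.and_eq_true] at h
    rw [beqW_eq h.1, eqLists_eq h.2]

/-- Equality of derived equations. -/
def eqFacts : List EFact → List EFact → Bool
  | [], [] => true
  | f :: l, g :: m =>
    Nat.beq f.g g.g && Nat.beq f.j g.j && beqW f.u g.u && Nat.beq f.k g.k && beqW f.v g.v &&
      beqW f.β g.β && eqFacts l m
  | _, _ => false

/-- Equality of derived pairs. -/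
def eqPairs : List EPair → List EPair → Bool
  | [], [] => true
  | f :: l, g :: m => Nat.beq f.j g.j && beqW f.s g.s && beqW f.σ g.σ && eqPairs l m
  | _, _ => false

theorem beqW_sound : ∀ {l m : List ℕ}, beqW l m = true → l = m := beqW_eq

theorem eqFacts_eq : ∀ {l m : List EFact}, eqFacts l m = true → l = m
  | [], [], _ => rfl
  | [], _ :: _, h => by simp [eqFacts] at h
  | _ :: _, [], h => by simp [eqFacts] at h
  | ⟨g, j, u, k, v, b⟩ :: l, ⟨g', j', u', k', v', b'⟩ :: m, h => by
    simp only [eqFacts, Bool.and_eq_true, Nat.beq_eq] at h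
    obtain ⟨⟨⟨⟨⟨⟨rfl, rfl⟩, hu⟩, rfl⟩, hv⟩, hb⟩, hl⟩ := h
    rw [beqW_eq hu, beqW_eq hv, beqW_eq hb, eqFacts_eq hl]

theorem eqPairs_eq : ∀ {l m : List EPair}, eqPairs l m = true → l = m
  | [], [], _ => rfl
  | [], _ :: _, h => by simp [eqPairs] at h
  | _ :: _, [], h => by simp [eqPairs] at h
  | ⟨j, s, t⟩ :: l, ⟨j', s', t'⟩ :: m, h => by
    simp only [eqPairs, Bool.and_eq_true, Nat.beq_eq] at h
    obtain ⟨⟨⟨rfl, hs⟩, ht⟩, hl⟩ := h
    rw [beqW_eq hs, beqW_eq ht, eqPairs_eq hl]

end Cfsg.Lib.HN
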