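import Cfsg.Agent.Lib.HN.Words

/-!
# Soundness of coset enumeration certificates
-/

set_option autoImplicit false

namespace Cfsg.Lib.HN

open Cfsg.Lib.CosetEnum (Tab force force_eq beqW eps fu fv fg)

variable {M : Type*} [Group M] {α : Type*} [MulAction M α]

/-- Act along a word from a point: the letters move it back one by one. -/
def along (x : ℕ → M) (w : List ℕ) (q : α) : α := (val x w)⁻¹ • q

theorem along_append (x : ℕ → M) (w v : List ℕ) (q : α) :
    along x (w ++ v) q = along x v (along x w q) := by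
  simp [along, mul_smul]

@[simp] theorem along_nil (x : ℕ → M) (q : α) : along x [] q = q := by simp [along]

/-- The meaning of a label. -/
def lab (x : ℕ → M) (g : ℕ) : M := if g = eps then 1 else x g

theorem along_consL (x : ℕ → M) (g : ℕ) (w : List ℕ) (q : α) :
    along x (consL g w) q = along x w ((lab x g)⁻¹ • q) := by
  unfold consL lab
  rcases eq_or_ne g eps with h | h
  · simp [h]
  · have : Nat.beq g eps = false := by
      rw [Bool.eq_false_iff]; intro h'; exact h (Nat.eq_of_beq_eq_true h')
    simp [this, h, along, mul_smul]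

theorem lab_back {x : ℕ → M} (hx : LettersInv x) (g : ℕ) :
    lab x (back g) = (lab x g)⁻¹ := by
  unfold back lab
  rcases eq_or_ne g eps with h | h
  · simp [h]
  · have hb : Nat.beq g eps = false := by
      rw [Bool.eq_false_iff]; intro h'; exact h (Nat.eq_of_beq_eq_true h')
    have h1 : linv g ≠ eps := by
      unfold linv
      split <;> first | decide | exact h
    simp [hb, h, h1, hx g]

variable {x : ℕ → M} {F : Tab} {φ : ℕ → α}

/-- The meaning of a fact. -/
def FactOK (x : ℕ → M) (F : Tab) (φ : ℕ → α) (i : ℕ) : Prop :=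
  (lab x (fg (F.getP i)))⁻¹ • φ (fu (F.getP i)) = φ (fv (F.getP i))

theorem walk_sound (hx : LettersInv x) {bound : ℕ} (hF : ∀ i < bound, FactOK x F φ i) :
    ∀ (refs : List ℕ) (cur : ℕ) (e : ℕ) (w : List ℕ), walk F bound refs cur = some (e, w) →
      along x w (φ cur) = φ e
  | [], cur, e, w, h => by
    simp only [walk, Option.some.injEq, Prod.mk.injEq] at h
    obtain ⟨rfl, rfl⟩ := h
    simp
  | r :: rs, cur, e, w, h => by
    rw [walk] at h
    rcases hb : Nat.blt r bound with _ | _
    · simp [hb] at h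
    · have hr : r < bound := by simpa [Nat.blt_eq] using hb
      simp only [hb, cond_true, force_eq] at h
      rcases h1 : Nat.beq (fu (F.getP r)) cur with _ | _
      · rcases h2 : Nat.beq (fv (F.getP r)) cur with _ | _
        · simp [h1, h2] at h
        · simp only [h1, h2, cond_false, cond_true] at h
          rcases hw : walk F bound rs (fu (F.getP r)) with _ | ⟨e', w'⟩
          · simp [hw] at h
          · simp only [hw, Option.some.injEq, Prod.mk.injEq] at h
            obtain ⟨rfl, rfl⟩ := h
            have h3 := Nat.eq_of_beq_eq_true h2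
            have h4 : (lab x (back (fg (F.getP r))))⁻¹ • φ cur = φ (fu (F.getP r)) := by
              rw [lab_back hx, inv_inv, ← h3, ← hF r hr, smul_inv_smul]
            rw [along_consL, h4, walk_sound hx hF rs _ _ _ hw]
      · simp only [h1, cond_true] at h
        rcases hw : walk F bound rs (fv (F.getP r)) with _ | ⟨e', w'⟩
        · simp [hw] at h
        · simp only [hw, Option.some.injEq, Prod.mk.injEq] at h
          obtain ⟨rfl, rfl⟩ := h
          have h3 := Nat.eq_of_beq_eq_true h1
          rw [along_consL, ← h3, hF r hr, walk_sound hx hF rs _ _ _ hw]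

theorem along_winvL (hx : LettersInv x) : ∀ (w : List ℕ) (p q : α),
    along x w p = q → along x (winvL w) q = p
  | [], p, q, h => by simpa [winvL] using h.symm
  | g :: w, p, q, h => by
    rw [show winvL (g :: w) = winvL w ++ [back g] by simp [winvL], along_append]
    have h1 : along x w ((x g)⁻¹ • p) = q := by
      rw [← h, show g :: w = [g] ++ w from rfl, along_append]
      simp [along]
    rw [along_winvL hx w _ _ h1]
    rcases eq_or_ne g eps with rfl | hg
    · have hl : (x eps)⁻¹ = x eps := (hx eps).symm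
      simp [back, along, hl, hx]
      rw [← mul_smul]
      nth_rewrite 1 [← hl]
      simp
    · have hb : back g = linv g := by
        unfold back
        have : Nat.beq g eps = false := by
          rw [Bool.eq_false_iff]; intro h'; exact hg (Nat.eq_of_beq_eq_true h')
        simp [this]
      simp [hb, along, hx g]

theorem step_sound (hx : LettersInv x) {R U : List (List ℕ)} (hR : ∀ r ∈ R, ∀ q : α, along x r q = q)
    (hU : ∀ r ∈ U, along x r (φ 0) = φ 0) {i : ℕ} (hF : ∀ j < i, FactOK x F φ j) :
    ∀ {d : List ℕ}, stepOK R U F i d = true → FactOK x F φ i := by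
  intro d h
  match d with
  | [] => simp [stepOK] at h
  | [_] => simp [stepOK] at h
  | [_, _] => simp [stepOK] at h
  | k :: s :: p :: refs =>
    simp only [stepOK] at h
    rcases h1 : walk F i (refs.take p) s with _ | ⟨u, w⟩
    · simp [h1] at h
    rcases h2 : walk F i (refs.drop p) s with _ | ⟨v, w'⟩
    · simp [h1, h2] at h
    simp only [h1, h2, Bool.and_eq_true, Bool.or_eq_true, Nat.blt_eq, Nat.beq_eq] at h
    obtain ⟨⟨hk, hk'⟩, ⟨⟨hu, hv⟩, -⟩, hw⟩ := h
    have hw := beqW_eq hw
    have e1 := walk_sound hx hF _ _ _ _ h1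
    have e2 := along_winvL hx _ _ _ (walk_sound hx hF _ _ _ _ h2)
    have e3 : along x (w ++ consL (fg (F.getP i)) (winvL w')) (φ s) = φ s := by
      rw [hw]
      rcases Nat.lt_or_ge k R.length with hlt | hge
      · rw [List.getD_eq_getElem?_getD, List.getElem?_append_left hlt]
        rw [List.getElem?_eq_getElem hlt]
        exact hR _ (List.getElem_mem hlt) _
      · obtain rfl : s = 0 := hk.resolve_left (by omega)
        rw [List.getD_eq_getElem?_getD, List.getElem?_append_right hge]
        have hlt : k - R.length < U.length := by omega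
        simpa [hlt] using hU _ (List.getElem_mem hlt)
    rw [along_append, e1, along_consL] at e3
    unfold FactOK
    rw [hu, hv]
    have e4 : Function.Injective (along (α := α) x (winvL w')) := MulAction.injective _
    exact e4 (e3.trans e2.symm)

theorem stepsOK_get {R U : List (List ℕ)} {C : Tab} {d : ℕ} : ∀ {n j : ℕ},
    stepsOK R U F C d n j = true → ∀ i, j ≤ i → i < j + n →
      stepOK R U F (d + i) (Cfsg.Lib.CosetEnum.digits 400 (C.get i)) = true
  | 0, j, _, i, h1, h2 => by omega
  | m + 1, j, hc, i, h1, h2 => by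
    rw [stepsOK, force_eq, Bool.and_eq_true] at hc
    rcases Nat.eq_or_lt_of_le h1 with h | h
    · subst h; exact hc.1
    · exact stepsOK_get hc.2 i h (by omega)

theorem defsOK_get : ∀ {n j : ℕ}, defsOK F n j = true → ∀ i, j ≤ i → i < j + n →
      fu (F.getP i) ≤ i ∧ fv (F.getP i) = i + 1 ∧ fg (F.getP i) < 7
  | 0, j, _, i, h1, h2 => by omega
  | m + 1, j, hc, i, h1, h2 => by
    rw [defsOK, force_eq] at hc
    simp only [Bool.and_eq_true, Nat.ble_eq, Nat.beq_eq, Nat.blt_eq] at hc
    rcases Nat.eq_or_lt_of_le h1 with h | h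
    · subst h; exact ⟨hc.1.1.1, hc.1.1.2, hc.1.2⟩
    · exact defsOK_get hc.2 i h (by omega)

theorem exists_labelling (x : ℕ → M) (q₀ : α) {d : ℕ}
    (h : ∀ i < d, fu (F.getP i) ≤ i ∧ fv (F.getP i) = i + 1) :
    ∃ φ : ℕ → α, φ 0 = q₀ ∧ ∀ i < d, FactOK x F φ i := by
  induction d with
  | zero => exact ⟨fun _ => q₀, rfl, fun i hi => by omega⟩
  | succ d ih =>
    obtain ⟨φ, h0, hφ⟩ := ih fun i hi => h i (by omega)
    refine ⟨fun j => if j = d + 1 then (lab x (fg (F.getP d)))⁻¹ • φ (fu (F.getP d)) else φ j,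
      by simp [h0], fun i hi => ?_⟩
    obtain ⟨hu, hv⟩ := h i hi
    unfold FactOK
    rcases Nat.lt_or_ge i d with hlt | hge
    · simp only [hv, show fu (F.getP i) ≠ d + 1 by omega, show i + 1 ≠ d + 1 by omega, if_false]
      have := hφ i hlt
      rwa [FactOK, hv] at this
    · obtain rfl : i = d := by omega
      simp [hv, show fu (F.getP i) ≠ i + 1 by omega]

/-- A certificate for a bound on an orbit. -/
structure FlatCert where
  /-- Relator shifts used by the steps. -/
  R : List (List ℕ)
  /-- Words fixing the base point. -/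
  U : List (List ℕ)
  /-- The letters of the group. -/
  S : List ℕ
  /-- Facts. -/
  F : Tab
  /-- Steps. -/
  C : Tab
  /-- Representatives. -/
  Rep : Tab
  /-- Closing paths. -/
  Z : Tab
  /-- The table. -/
  P : Tab
  /-- Number of node definitions. -/
  d : ℕ
  /-- Number of steps. -/
  e : ℕ
  /-- The bound. -/
  n : ℕ

/-- The checks on a certificate. -/
structure FlatCert.Valid (c : FlatCert) (R0 : List (List ℕ)) : Prop where
  pos : (Nat.blt 0 c.n && Nat.beq (c.Rep.getP 0) 0 &&
    c.S.all fun g => c.S.any fun s => Nat.beq (linv g) s) = true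
  shifts : shiftsOK R0 c.R = true
  defs : defsOK c.F c.d 0 = true
  steps : stepsOK c.R c.U c.F c.C c.d c.e 0 = true
  closed : closedOK c.F c.Rep c.Z c.P (c.d + c.e) c.n c.S c.n 0 = true

theorem closedOK_get {Rep Z P : Tab} {bound n : ℕ} {S : List ℕ} : ∀ {m i : ℕ},
    closedOK F Rep Z P bound n S m i = true → ∀ j, i ≤ j → j < i + m → ∀ g ∈ S,
      edgeOK F Rep P bound n g j (Cfsg.Lib.CosetEnum.digits 400 (Z.get (j * 8 + g))) = true
  | 0, i, _, j, h1, h2 => by omega
  | m + 1, i, hc, j, h1, h2 => by
    rw [closedOK, force_eq, Bool.and_eq_true] at hc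
    rcases Nat.eq_or_lt_of_le h1 with h | h
    · subst h; exact List.all_eq_true.1 hc.1
    · exact closedOK_get hc.2 j h (by omega)

theorem FlatCert.Valid.orbit_le {c : FlatCert} {R0 : List (List ℕ)} (h : c.Valid R0)
    (hx : LettersInv x) (hrel : ∀ r ∈ R0, val x r = 1) (q₀ : α)
    (hU : ∀ u ∈ c.U, val x u • q₀ = q₀) :
    (MulAction.orbit (Subgroup.closure (x '' {g | g ∈ c.S})) q₀).Finite ∧
      (MulAction.orbit (Subgroup.closure (x '' {g | g ∈ c.S})) q₀).ncard ≤ c.n := by
  have hp := h.pos
  simp only [Bool.and_eq_true, Nat.blt_eq, Nat.beq_eq, List.all_eq_true, List.any_eq_true] at hp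
  obtain ⟨⟨hn, hrep⟩, hS⟩ := hp
  obtain ⟨φ, hφ0, hφ⟩ := exists_labelling x q₀ (F := c.F) (d := c.d)
    fun i hi => ⟨(defsOK_get h.defs i (Nat.zero_le _) (by omega)).1,
      (defsOK_get h.defs i (Nat.zero_le _) (by omega)).2.1⟩
  have hR : ∀ r ∈ c.R, ∀ q : α, along x r q = q := fun r hr q => by
    simp [along, shift_eq_one hx h.shifts hrel r hr]
  have hU' : ∀ r ∈ c.U, along x r (φ 0) = φ 0 := fun r hr => by
    rw [along, hφ0, inv_smul_eq_iff, hU r hr]
  have hall : ∀ i < c.d + c.e, FactOK x c.F φ i := by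
    intro i
    induction i using Nat.strong_induction_on with
    | _ i ih =>
      intro hi
      rcases Nat.lt_or_ge i c.d with hlt | hge
      · exact hφ i hlt
      · have := stepsOK_get h.steps (i - c.d) (Nat.zero_le _) (by omega)
        rw [show c.d + (i - c.d) = i by omega] at this
        exact step_sound hx hR hU' (fun j hj => ih j hj (by omega)) this
  set T : Set α := (fun i => φ (c.Rep.getP i)) '' Set.Iio c.n
  have hstep : ∀ g ∈ c.S, ∀ q ∈ T, (x g)⁻¹ • q ∈ T := by
    rintro g hg _ ⟨i, hi, rfl⟩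
    have he := closedOK_get h.closed i (Nat.zero_le _) (by simpa using hi) g hg
    simp only [edgeOK, Bool.and_eq_true, Nat.blt_eq] at he
    obtain ⟨hlt, he⟩ := he
    split at he
    · next e w hw =>
      simp only [Bool.and_eq_true, Nat.beq_eq] at he
      obtain ⟨rfl, hw'⟩ := he
      obtain rfl := beqW_eq hw'
      exact ⟨_, hlt, (walk_sound hx hall _ _ _ _ hw).symm.trans (by simp [along])⟩
    · simp at he
  have hT : ∀ a ∈ Subgroup.closure (x '' {g | g ∈ c.S}), ∀ q ∈ T, a • q ∈ T := by
    intro a ha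
    induction ha using Subgroup.closure_induction_left with
    | one => simp
    | mul_left y hy z _ hz =>
      obtain ⟨g, hg, rfl⟩ := hy
      obtain ⟨g', hg', hgg⟩ := hS g hg
      intro q hq
      have := hstep g' hg' _ (hz q hq)
      rw [← hgg, hx, inv_inv] at this
      rwa [mul_smul]
    | inv_mul_cancel y hy z _ hz =>
      obtain ⟨g, hg, rfl⟩ := hy
      intro q hq
      rw [mul_smul]
      exact hstep g hg _ (hz q hq)
  have hsub : MulAction.orbit (Subgroup.closure (x '' {g | g ∈ c.S})) q₀ ⊆ T := by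
    rintro _ ⟨⟨a, ha⟩, rfl⟩
    exact hT a ha q₀ ⟨0, hn, by simp [hrep, hφ0]⟩
  have hTfin : T.Finite := (Set.finite_Iio _).image _
  refine ⟨hTfin.subset hsub, (Set.ncard_le_ncard hsub hTfin).trans ?_⟩
  refine (Set.ncard_image_le (Set.finite_Iio _)).trans ?_
  simp [Set.ncard_eq_toFinset_card']

/-- One step of the upper bound on the order. -/
theorem FlatCert.Valid.card_le {c : FlatCert} {R0 : List (List ℕ)} (h : c.Valid R0)
    (hx : LettersInv x) (hrel : ∀ r ∈ R0, val x r = 1) {K : Subgroup M}
    (hK : ∀ u ∈ c.U, val x u ∈ K) {m : ℕ} (hfin : Finite K) (hm : Nat.card K ≤ m) :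
    Finite (Subgroup.closure (x '' {g | g ∈ c.S})) ∧
      Nat.card (Subgroup.closure (x '' {g | g ∈ c.S})) ≤ c.n * m := by
  obtain ⟨hf, hn⟩ := h.orbit_le hx hrel (((1 : M) : M ⧸ K)) fun u hu => by
    show ((val x u * 1 : M) : M ⧸ K) = _
    rw [QuotientGroup.eq, mul_one, mul_one, inv_mem_iff]
    exact hK u hu
  set H := Subgroup.closure (x '' {g | g ∈ c.S}) with hH
  have hidx : (MulAction.stabilizer H ((1 : M) : M ⧸ K)).index =
      (MulAction.orbit H ((1 : M) : M ⧸ K)).ncard := MulAction.index_stabilizer _ _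
  let ι : MulAction.stabilizer H ((1 : M) : M ⧸ K) → K := fun a => ⟨((a : H) : M), by
    have ha : ((((a : H) : M) * 1 : M) : M ⧸ K) = ((1 : M) : M ⧸ K) := a.2
    rwa [QuotientGroup.eq, mul_one, mul_one, inv_mem_iff] at ha⟩
  have hι : Function.Injective ι := fun a b hab =>
    Subtype.ext (Subtype.ext (congrArg (fun z : K => (z : M)) hab))
  have : Finite (MulAction.stabilizer H ((1 : M) : M ⧸ K)) := Finite.of_injective ι hι
  have hpos : (MulAction.stabilizer H ((1 : M) : M ⧸ K)).index ≠ 0 := by
    rw [hidx]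
    exact ((Set.ncard_pos hf).2 ⟨_, MulAction.mem_orbit_self _⟩).ne'
  have hmul := Subgroup.card_mul_index (MulAction.stabilizer H ((1 : M) : M ⧸ K))
  refine ⟨Nat.finite_of_card_ne_zero ?_, ?_⟩
  · rw [← hmul]
    exact mul_ne_zero Nat.card_pos.ne' hpos
  · rw [← hmul, hidx, mul_comm c.n]
    exact Nat.mul_le_mul ((Nat.card_le_card_of_injective ι hι).trans hm) hn

end Cfsg.Lib.HN
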