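import Mathlib
import Cfsg.Agent.Lib.HN.Defs

/-!
# Words in four generators and their inverses, and permutation tables
-/

set_option autoImplicit false

namespace Cfsg.Lib.HN

open Cfsg.Lib.CosetEnum (Tab force force_eq beqW B eps fu fv fg)

variable {M : Type*} [Group M]

/-- The letters as elements. -/
def lett (a b c d : M) : ℕ → M
  | 0 => a
  | 1 => b
  | 2 => c
  | 3 => d
  | 4 => a⁻¹
  | 5 => b⁻¹
  | 6 => d⁻¹
  | _ => 1

/-- Opposite letters act as inverses. -/
def LettersInv (x : ℕ → M) : Prop := ∀ g, x (linv g) = (x g)⁻¹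

theorem lettersInv_lett {a b c d : M} (hc : c * c = 1) : LettersInv (lett a b c d) := by
  intro g
  match g with
  | 0 | 1 | 3 | 4 | 5 | 6 => simp [linv, lett]
  | 2 => simpa [linv, lett] using eq_inv_of_mul_eq_one_left hc
  | n + 7 => simp [linv, lett]

/-- The product of a word, left to right. -/
def val (x : ℕ → M) (w : List ℕ) : M := (w.map x).prod

@[simp] theorem val_nil (x : ℕ → M) : val x [] = 1 := rfl

@[simp] theorem val_cons (x : ℕ → M) (g : ℕ) (w : List ℕ) : val x (g :: w) = x g * val x w := by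
  simp [val]

@[simp] theorem val_append (x : ℕ → M) (w v : List ℕ) : val x (w ++ v) = val x w * val x v := by
  simp [val]

theorem val_winv {x : ℕ → M} (hx : LettersInv x) : ∀ w : List ℕ, val x (winv w) = (val x w)⁻¹
  | [] => by simp [winv]
  | g :: w => by
    rw [show winv (g :: w) = winv w ++ [linv g] by simp [winv], val_append, val_winv hx w,
      val_cons, val_cons, val_nil, mul_one, hx, mul_inv_rev]

theorem map_val {N : Type*} [Group N] (f : M →* N) (x : ℕ → M) :
    ∀ w : List ℕ, f (val x w) = val (fun g => f (x g)) w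
  | [] => map_one f
  | g :: w => by rw [val_cons, map_mul, map_val f x w, val_cons]

theorem beqW_eq : ∀ {l m : List ℕ}, beqW l m = true → l = m
  | [], [], _ => rfl
  | [], _ :: _, h => by simp [beqW] at h
  | _ :: _, [], h => by simp [beqW] at h
  | a :: l, b :: m, h => by
    simp only [beqW, Bool.and_eq_true, Nat.beq_eq] at h
    rw [h.1, beqW_eq h.2]

theorem shift_eq_one {x : ℕ → M} (hx : LettersInv x) {R0 R : List (List ℕ)}
    (h : shiftsOK R0 R = true) (h0 : ∀ r ∈ R0, val x r = 1) : ∀ r ∈ R, val x r = 1 := by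
  intro r hr
  have hrot : ∀ (w : List ℕ) (i : ℕ), val x w = 1 → val x (w.drop i ++ w.take i) = 1 := by
    intro w i hw
    rw [← List.take_append_drop i w, val_append] at hw
    rw [val_append, mul_eq_one_comm.1 hw]
  have h1 := List.all_eq_true.1 h r hr
  rw [Bool.or_eq_true] at h1
  rcases h1 with h1 | h1
  · split at h1
    · next a b =>
      rw [Bool.and_eq_true, Nat.beq_eq] at h1
      obtain ⟨-, rfl⟩ := h1
      simp [hx a]
    · simp at h1
  · simp only [isShift, List.any_eq_true, Bool.or_eq_true] at h1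
    obtain ⟨r0, hr0, i, -, h2 | h2⟩ := h1
    · rw [← beqW_eq h2]; exact hrot r0 i (h0 r0 hr0)
    · rw [← beqW_eq h2]
      exact hrot _ i (by rw [val_winv hx, h0 r0 hr0, inv_one])

theorem mem_of_lettersIn {S w : List ℕ} (h : lettersIn S w = true) : ∀ g ∈ w, g ∈ S := by
  intro g hg
  have := List.all_eq_true.1 h g hg
  simp only [List.any_eq_true, Nat.beq_eq] at this
  obtain ⟨s, hs, rfl⟩ := this
  exact hs

theorem val_mem {x : ℕ → M} {K : Subgroup M} {S : List ℕ} (hS : ∀ g ∈ S, x g ∈ K) :
    ∀ {w : List ℕ}, (∀ g ∈ w, g ∈ S) → val x w ∈ K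
  | [], _ => by simp [K.one_mem]
  | g :: w, h => by
    rw [val_cons]
    exact K.mul_mem (hS g (h g (by simp))) (val_mem hS fun a ha => h a (by simp [ha]))

theorem twalk_cons (P : Tab) (g : ℕ) (w : List ℕ) (i : ℕ) :
    twalk P (g :: w) i = twalk P w (img P g i) := force_eq _ _

@[simp] theorem twalk_nil (P : Tab) (i : ℕ) : twalk P [] i = i := rfl

theorem twalk_append (P : Tab) : ∀ (w v : List ℕ) (i : ℕ),
    twalk P (w ++ v) i = twalk P v (twalk P w i)
  | [], v, i => rfl
  | g :: w, v, i => by rw [List.cons_append, twalk_cons, twalk_cons, twalk_append P w v]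

theorem permOK_get {P : Tab} {n : ℕ} {S : List ℕ} {R : List (List ℕ)} : ∀ {m i : ℕ},
    permOK P n S R m i = true → ∀ j, i ≤ j → j < i + m →
      (∀ g ∈ S, img P g j < n ∧ img P (linv g) (img P g j) = j) ∧
        ∀ r ∈ R, twalk P r j = j
  | 0, i, _, j, h1, h2 => by omega
  | m + 1, i, hc, j, h1, h2 => by
    rw [permOK, force_eq, Bool.and_eq_true] at hc
    rcases Nat.eq_or_lt_of_le h1 with h | h
    · subst h
      have h3 := hc.1
      simp only [force_eq, Bool.and_eq_true, List.all_eq_true, Nat.blt_eq, Nat.beq_eq] at h3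
      exact h3
    · exact permOK_get hc.2 j h (by omega)

/-- The permutation of a letter, as a left action: it moves a point back along the letter. -/
noncomputable def pperm (P : Tab) (n g : ℕ) : Equiv.Perm (Fin n) :=
  open scoped Classical in
  if h : ∀ i < n, img P (linv g) i < n ∧ img P g (img P (linv g) i) = i ∧ img P g i < n ∧
      img P (linv g) (img P g i) = i then
    { toFun := fun i => ⟨img P (linv g) i.1, (h i.1 i.2).1⟩
      invFun := fun i => ⟨img P g i.1, (h i.1 i.2).2.2.1⟩
      left_inv := fun i => Fin.ext (h i.1 i.2).2.1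
      right_inv := fun i => Fin.ext (h i.1 i.2).2.2.2 }
  else 1

variable {P : Tab} {n : ℕ} {S : List ℕ} {R : List (List ℕ)}

/-- A letter set closed under inverses. -/
def SymS (S : List ℕ) : Prop := ∀ g ∈ S, linv g ∈ S ∧ linv (linv g) = g

theorem pperm_apply (h : permOK P n S R n 0 = true) (hS : SymS S) {g : ℕ} (hg : g ∈ S) (i : Fin n) :
    (pperm P n g i).1 = img P (linv g) i.1 := by
  have hc : ∀ i < n, img P (linv g) i < n ∧ img P g (img P (linv g) i) = i ∧ img P g i < n ∧
      img P (linv g) (img P g i) = i := by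
    intro j hj
    have h2 := (permOK_get h j (Nat.zero_le _) (by omega)).1
    have h3 := h2 (linv g) (hS g hg).1
    rw [(hS g hg).2] at h3
    exact ⟨h3.1, h3.2, (h2 g hg).1, (h2 g hg).2⟩
  rw [pperm, dif_pos hc]
  rfl

theorem pperm_inv (h : permOK P n S R n 0 = true) (hS : SymS S) {g : ℕ} (hg : g ∈ S) :
    pperm P n (linv g) = (pperm P n g)⁻¹ := by
  refine eq_inv_of_mul_eq_one_left (Equiv.ext fun i => Fin.ext ?_)
  rw [Equiv.Perm.mul_apply, pperm_apply h hS (hS g hg).1, (hS g hg).2, pperm_apply h hS hg]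
  have h3 := (permOK_get h i.1 (Nat.zero_le _) (by omega)).1 (linv g) (hS g hg).1
  rw [(hS g hg).2] at h3
  exact h3.2

/-- A word moves a point as computed along its inverse. -/
theorem val_pperm (h : permOK P n S R n 0 = true) (hS : SymS S) : ∀ (w : List ℕ), (∀ g ∈ w, g ∈ S) →
    ∀ i : Fin n, (val (pperm P n) w i).1 = twalk P (winv w) i.1
  | [], _, i => rfl
  | g :: w, hw, i => by
    rw [show winv (g :: w) = winv w ++ [linv g] by simp [winv], twalk_append, val_cons,
      Equiv.Perm.mul_apply, pperm_apply h hS (hw g (by simp)),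
      val_pperm h hS w (fun a ha => hw a (by simp [ha])), twalk_cons, twalk_nil]

theorem winv_winv {w : List ℕ} (hS : SymS S) (hw : ∀ g ∈ w, g ∈ S) : winv (winv w) = w := by
  simp only [winv, List.map_reverse, List.reverse_reverse, List.map_map]
  conv_rhs => rw [← List.map_id w]
  exact List.map_congr_left fun g hg => (hS g (hw g hg)).2

theorem pperm_rel (h : permOK P n S R n 0 = true) (hS : SymS S) {r : List ℕ} (hr : r ∈ R)
    (hl : ∀ g ∈ r, g ∈ S) : val (pperm P n) r = 1 := by
  have h1 : ∀ i : Fin n, twalk P r i.1 = i.1 := fun i =>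
    (permOK_get h i.1 (Nat.zero_le _) (by omega)).2 r hr
  have hl' : ∀ g ∈ winv r, g ∈ S := by
    intro g hg
    simp only [winv, List.mem_reverse, List.mem_map] at hg
    obtain ⟨a, ha, rfl⟩ := hg
    exact (hS a (hl a ha)).1
  have hinv : ∀ w : List ℕ, (∀ g ∈ w, g ∈ S) →
      val (pperm P n) (winv w) = (val (pperm P n) w)⁻¹ := by
    intro w
    induction w with
    | nil => intro _; simp [winv]
    | cons g w ih =>
      intro hw
      rw [show winv (g :: w) = winv w ++ [linv g] by simp [winv], val_append,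
        ih fun a ha => hw a (by simp [ha]), val_cons, val_cons, val_nil, mul_one,
        pperm_inv h hS (hw g (by simp)), mul_inv_rev]
  have h2 : val (pperm P n) (winv r) = 1 := Equiv.ext fun i => Fin.ext (by
    rw [val_pperm h hS _ hl', winv_winv hS hl]; exact h1 i)
  rw [hinv r hl] at h2
  exact inv_eq_one.1 h2

end Cfsg.Lib.HN
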