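import Cfsg.Prelude.Def_Spor_HN
import Cfsg.Agent.Lib.HN.Words

/-!
# Short consequences of the relators of the presented Harada–Norton group
-/

set_option autoImplicit false

namespace Cfsg.Lib.HN

/-- The letters in the presented group. -/
def hx : ℕ → Spor.HN :=
  lett (PresentedGroup.of Spor.HN.Gen.x) (PresentedGroup.of Spor.HN.Gen.y)
    (PresentedGroup.of Spor.HN.Gen.z) (PresentedGroup.of Spor.HN.Gen.t)

theorem hn_rel {r : FreeGroup Spor.HN.Gen} (h : r ∈ Spor.HN.extra) :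
    FreeGroup.lift (fun a => (PresentedGroup.of a : Spor.HN)) r = 1 := by
  have h1 : PresentedGroup.mk (Spor.coxRelators Spor.HN.edges ∪ {r | r ∈ Spor.HN.extra}) r = 1 :=
    PresentedGroup.one_of_mem (Or.inr h)
  rw [show (FreeGroup.lift fun a => (PresentedGroup.of a : Spor.HN)) =
    PresentedGroup.mk (Spor.coxRelators Spor.HN.edges ∪ {r | r ∈ Spor.HN.extra}) from
      FreeGroup.ext_hom _ _ fun a => by rw [FreeGroup.lift_apply_of]; rfl]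
  exact h1

/-- The relators and their first consequences. -/
theorem hn_basic : let a := hx 0; let b := hx 1; let c := hx 2; let d := hx 3;
    b ^ 6 = 1 ∧ a ^ 2 * b * a ^ 2 * b⁻¹ = 1 ∧ (a⁻¹ * b⁻¹ * a * b) ^ 3 = 1 ∧
    (a⁻¹ * b ^ 2 * a * b ^ 3) ^ 3 = 1 ∧ (a * b) ^ 8 = 1 ∧ (a * b * a * b ^ 3) ^ 4 = 1 ∧
    c ^ 2 = 1 ∧ (c * a) ^ 2 = 1 ∧
    c⁻¹ * (b * a * b * a * b ^ 2 * a * b⁻¹)⁻¹ * c * (b * a * b * a * b ^ 2 * a * b⁻¹) *
      (a ^ 2)⁻¹ = 1 ∧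
    c * ((b ^ 3 * a * b * a * b)⁻¹ * c * (b ^ 3 * a * b * a * b) * a) ^ 3 = 1 ∧
    d ^ 5 = 1 ∧ a⁻¹ * d * a * d ^ 2 = 1 ∧ d⁻¹ * b⁻¹ * d * b = 1 ∧ (c * d) ^ 3 = 1 := by
  intro a b c d
  have h : ∀ r ∈ Spor.HN.extra.map (FreeGroup.lift fun g => (PresentedGroup.of g : Spor.HN)),
      r = 1 := by
    intro r hr
    obtain ⟨w, hw, rfl⟩ := List.mem_map.1 hr
    exact hn_rel hw
  have h' : List.Forall (fun r : Spor.HN => r = 1)
      (Spor.HN.extra.map (FreeGroup.lift fun g => (PresentedGroup.of g : Spor.HN))) :=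
    List.forall_iff_forall_mem.2 h
  clear h
  simp only [Spor.HN.extra, List.map, List.Forall, map_mul, map_pow, map_inv,
    FreeGroup.lift_apply_of] at h'
  exact h'

theorem hx_inv : LettersInv hx :=
  lettersInv_lett (by have := hn_basic.2.2.2.2.2.2.1; rwa [sq] at this)

theorem hx_inv' : hx 4 = (hx 0)⁻¹ ∧ hx 5 = (hx 1)⁻¹ ∧ hx 6 = (hx 3)⁻¹ :=
  ⟨rfl, rfl, rfl⟩

theorem hx_sq : hx 0 ^ 4 = 1 ∧ Commute (hx 0 ^ 2) (hx 1) ∧ Commute (hx 0 ^ 2) (hx 2) := by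
  obtain ⟨-, h1, -, h3, -, -, hc, hca, -⟩ := hn_basic
  generalize hx 0 = a at *
  generalize hx 1 = b at *
  generalize hx 2 = c at *
  have hb : SemiconjBy b (a ^ 2) (a ^ 2)⁻¹ := by
    unfold SemiconjBy
    rw [eq_inv_mul_iff_mul_eq, ← mul_inv_eq_one, ← mul_assoc, h1]
  have hb' : SemiconjBy b (a ^ 2)⁻¹ (a ^ 2) := by simpa using hb.inv_right
  have ha : Commute a (a ^ 2) := (Commute.refl a).pow_right 2
  have hw : SemiconjBy (a⁻¹ * b ^ 2 * a * b ^ 3) (a ^ 2) (a ^ 2)⁻¹ := by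
    have e3 : SemiconjBy (b ^ 3) (a ^ 2) (a ^ 2)⁻¹ := by
      rw [pow_succ, pow_two]
      exact (hb.mul_left hb').mul_left hb
    have e2 : SemiconjBy (b ^ 2) (a ^ 2)⁻¹ (a ^ 2)⁻¹ := by
      rw [pow_two b]
      exact hb.mul_left hb'
    have f1 : SemiconjBy a⁻¹ (a ^ 2)⁻¹ (a ^ 2)⁻¹ := ha.inv_left.inv_right
    have f2 : SemiconjBy a (a ^ 2)⁻¹ (a ^ 2)⁻¹ := ha.inv_right
    exact ((f1.mul_left e2).mul_left f2).mul_left e3
  have hw' : SemiconjBy (a⁻¹ * b ^ 2 * a * b ^ 3) (a ^ 2)⁻¹ (a ^ 2) := by simpa using hw.inv_right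
  have hinv : (a ^ 2)⁻¹ = a ^ 2 := by
    have := (hw.mul_left hw').mul_left hw
    rw [← pow_two, ← pow_succ, h3] at this
    simpa [SemiconjBy] using this.symm
  have h4 : a ^ 4 = 1 := by
    rw [pow_add a 2 2]
    nth_rewrite 1 [← hinv]
    exact inv_mul_cancel _
  refine ⟨h4, ?_, ?_⟩
  · rw [hinv] at hb
    exact Commute.symm hb
  have hcc : c⁻¹ = c := inv_eq_of_mul_eq_one_right (by rwa [← sq])
  have hac : SemiconjBy c a a⁻¹ := by
    unfold SemiconjBy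
    rw [eq_inv_mul_iff_mul_eq]
    rw [pow_two, ← mul_assoc] at hca
    rw [← mul_assoc, ← hcc]
    have : a * c * a = c⁻¹ := by
      rw [eq_inv_iff_mul_eq_one, ← mul_eq_one_comm]
      simpa [mul_assoc] using hca
    rw [hcc] at this ⊢
    calc a * c * a = c := this
      _ = c := rfl
  have := hac.pow_right 2
  rw [inv_pow, hinv] at this
  exact Commute.symm this

theorem hx_t : hx 0 * hx 3 * (hx 0)⁻¹ = hx 3 ^ 2 ∧
    hx 0 ^ 2 * hx 3 * (hx 0 ^ 2)⁻¹ = (hx 3)⁻¹ ∧ Commute (hx 3) (hx 1) ∧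
    Commute (hx 3) ((hx 0)⁻¹ * hx 1 * hx 0) := by
  obtain ⟨-, -, -, -, -, -, -, -, -, -, h5, hxt, hty, -⟩ := hn_basic
  set a := hx 0
  set b := hx 1
  set d := hx 3
  have e1 : a⁻¹ * d * a = d ^ (-2 : ℤ) := by
    rw [zpow_neg, eq_inv_iff_mul_eq_one, ← hxt]
    norm_cast
  have e2 : a * d * a⁻¹ = d ^ 2 := by
    have : d = (a * d * a⁻¹) ^ (-2 : ℤ) := by
      rw [conj_zpow, ← e1]; group
    have e3 : (a * d * a⁻¹) ^ 5 = 1 := by rw [conj_pow, h5]; group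
    calc a * d * a⁻¹ = (a * d * a⁻¹) * ((a * d * a⁻¹) ^ 5)⁻¹ := by rw [e3]; group
      _ = ((a * d * a⁻¹) ^ (-2 : ℤ)) ^ 2 := by group
      _ = d ^ 2 := by rw [← this]
  have hcomm : Commute d b := by
    rw [commute_iff_eq]
    calc d * b = b * d * (d⁻¹ * b⁻¹ * d * b) := by group
      _ = b * d := by rw [hty, mul_one]
  refine ⟨e2, ?_, hcomm, ?_⟩
  · calc a ^ 2 * d * (a ^ 2)⁻¹ = a * (a * d * a⁻¹) * a⁻¹ := by simp [pow_two, mul_assoc]
      _ = (a * d * a⁻¹) ^ 2 := by rw [conj_pow, e2]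
      _ = d ^ 4 := by rw [e2]; group
      _ = d⁻¹ := eq_inv_of_mul_eq_one_left (by rw [← h5]; group)
  · rw [commute_iff_eq]
    have h2 : Commute (d ^ 2) b := hcomm.pow_left 2
    calc d * (a⁻¹ * b * a) = a⁻¹ * (a * d * a⁻¹) * b * a := by group
      _ = a⁻¹ * (b * d ^ 2) * a := by rw [e2, mul_assoc (a⁻¹) (d ^ 2) b, h2.eq]
      _ = a⁻¹ * b * a * (a⁻¹ * d * a) ^ 2 := by
        simp only [pow_two, mul_assoc, mul_inv_cancel_left]
      _ = a⁻¹ * b * a * d * (d ^ 5)⁻¹ := by rw [e1]; group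
      _ = _ := by rw [h5]; group

end Cfsg.Lib.HN
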