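import Cfsg.Agent.Lib.HN.WordGroup
import Cfsg.Agent.Lib.HN.EnumE.Valid
import Cfsg.Agent.Lib.HN.EnumB.Valid
import Cfsg.Agent.Lib.HN.EnumP.Valid
import Cfsg.Agent.Lib.HN.ModelB.ChainB
import Cfsg.Agent.Lib.HN.ModelP.ChainP
import Cfsg.Agent.Lib.HN.ModelP.Table

/-!
# The two faithful models: the cover of `U₃(5):2` and the double cover of `HS:2`
-/

set_option autoImplicit false
set_option maxRecDepth 100000

namespace Cfsg.Lib.HN

/-- The relators of the cover of `U₃(5):2`. -/
abbrev relB : List (List ℕ) := EnumB.rels ++ [[2], [3]]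

/-- The relators of the double cover of `HS:2`. -/
abbrev relP : List (List ℕ) := EnumP.rels ++ [[3]]

/-- The word for `x y³ x⁻¹`. -/
abbrev sWord : List ℕ := [0, 1, 1, 1, 4]

/-- The word for the central element of order three of the cover. -/
abbrev kWord : List ℕ := [4, 1, 1, 4, 5, 4, 5, 4, 1, 1, 0, 5, 5, 0, 1, 0, 1, 0, 5, 5]

/-- The cover of `U₃(5):2`. -/
abbrev BS : Type := WGrp relB

/-- The double cover of `HS:2`. -/
abbrev PS : Type := WGrp relP

theorem symS_B : SymS [0, 1, 4, 5] := by unfold SymS; decide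
theorem symS_P : SymS [0, 1, 2, 4, 5] := by unfold SymS; decide

variable {M : Type*} [Group M]

/-- The relators on `y` and `s = x y³ x⁻¹`. -/
theorem sub_rels {x : ℕ → M} (hx : LettersInv x) (h : ∀ r ∈ EnumB.rels, val x r = 1) :
    ∀ r ∈ EnumE.rels, val (lett 1 (x 1) (val x sWord) 1) r = 1 := by
  have ix := hx 0
  have iy := hx 1
  simp only [linv] at ix iy
  have hs := shift_eq_one hx (R := [[0, 0, 0, 0], [1, 1, 1, 1, 1, 1], [4, 4, 5, 0, 0, 1],
    [1, 0, 1, 1, 1, 0, 1, 0, 1, 1, 1, 0, 1, 0, 1, 1, 1, 0, 1, 0, 1, 1, 1, 0],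
    [1, 1, 0, 1, 1, 1, 4, 1, 1, 0, 1, 1, 1, 4, 1, 1, 0, 1, 1, 1, 4]]) (by decide +kernel) h
  simp only [List.mem_cons, forall_eq_or_imp, List.not_mem_nil, false_implies, imp_true_iff,
    and_true, val_cons, val_nil, mul_one, ix, iy] at hs
  obtain ⟨hx4, hy6, hc, h5, h3⟩ := hs
  set a := x 0
  set b := x 1
  have hy6' : b ^ 6 = 1 := by simpa [pow_succ, mul_assoc] using hy6
  have ha4 : (a * a) * (a * a) = 1 := by simpa [mul_assoc] using hx4
  have hcomm : Commute (a * a) b := by
    have h' : (a * a)⁻¹ * (b⁻¹ * (a * a * b)) = 1 := by simpa [mul_assoc] using hc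
    exact (eq_inv_mul_iff_mul_eq.1 (inv_mul_eq_one.1 h')).symm
  set s := a * b * b * b * a⁻¹
  have hsw : val x sWord = s := by
    simp [sWord, s, ix, a, b, mul_assoc]
  have hss : s * s = 1 := by
    rw [show s * s = a * b ^ 6 * a⁻¹ by simp [s, pow_succ, mul_assoc], hy6']
    group
  have hys : (b * s) ^ 4 = 1 := by
    have hw : b * s = b * a * b * b * b * a * (a * a) := by
      have : a⁻¹ = a * (a * a) := inv_eq_of_mul_eq_one_right (by simpa [mul_assoc] using ha4)
      simp only [s, this, mul_assoc]
    have hcw : Commute (b * a * b * b * b * a) (a * a) := by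
      have ha : Commute a (a * a) := (Commute.refl a).mul_right (Commute.refl a)
      have hb : Commute b (a * a) := hcomm.symm
      exact ((((hb.mul_left ha).mul_left hb).mul_left hb).mul_left hb).mul_left ha
    rw [hw, hcw.mul_pow]
    rw [show (b * a * b * b * b * a) ^ 4 = 1 by simpa [pow_succ, mul_assoc] using h5,
      show (a * a) ^ 4 = 1 by
        rw [show (a * a) ^ 4 = ((a * a) * (a * a)) ^ 2 by rw [← sq (a * a), ← pow_mul], ha4, one_pow], one_mul]
  have hyys : (b * b * s) ^ 3 = 1 := by simpa [s, pow_succ, mul_assoc] using h3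
  intro r hr
  simp only [EnumE.rels, List.mem_cons, List.not_mem_nil, or_false] at hr
  rcases hr with rfl | rfl | rfl | rfl <;>
    simp only [val_cons, val_nil, lett, hsw, mul_one]
  · exact hss
  · simpa [pow_succ, mul_assoc] using hy6'
  · simpa [pow_succ, mul_assoc] using hys
  · simpa [pow_succ, mul_assoc] using hyys

/-- The cover has order at most `1512000`. -/
theorem BS_card : Finite BS ∧ Nat.card BS ≤ 1512000 := by
  set x := wgen relB
  have hx := wgen_inv relB
  have hrel : ∀ r ∈ EnumB.rels, val x r = 1 := fun r hr =>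
    wgen_rel relB r (List.mem_append_left _ hr)
  set s := val x sWord
  set e := lett (1 : BS) (x 1) s 1
  have hE := sub_rels hx hrel
  have he : LettersInv e := by
    refine lettersInv_lett ?_
    simpa [val, e, lett, s, x, sWord, mul_assoc] using hE [2, 2] (by simp [EnumE.rels])
  have hy6 : x 1 ^ 6 = 1 := by
    simpa [e, lett, pow_succ, mul_assoc] using hE [1, 1, 1, 1, 1, 1] (by simp [EnumE.rels])
  have hz : Nat.card (Subgroup.zpowers (x 1)) ≤ 6 := by
    rw [Nat.card_zpowers]
    exact Nat.le_of_dvd (by norm_num) (orderOf_dvd_of_pow_eq_one hy6)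
  have hzf : Finite (Subgroup.zpowers (x 1)) :=
    (isOfFinOrder_iff_pow_eq_one.2 ⟨6, by norm_num, hy6⟩).finite_zpowers.to_subtype
  obtain ⟨hf1, hc1⟩ := EnumE.valid.card_le he hE (K := Subgroup.zpowers (x 1))
    (by simp [EnumE.cert, e, lett]) hzf hz
  set K := Subgroup.closure (e '' {g | g ∈ EnumE.cert.S})
  have hUK : ∀ u ∈ EnumB.cert.U, val x u ∈ K := by
    intro u hu
    simp only [EnumB.cert, List.mem_cons, List.not_mem_nil, or_false] at hu
    rcases hu with rfl | rfl
    · exact Subgroup.subset_closure ⟨1, by simp [EnumE.cert], by simp [e, lett]⟩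
    · exact Subgroup.subset_closure ⟨2, by simp [EnumE.cert], by simp [e, lett, s]⟩
  obtain ⟨hf2, hc2⟩ := EnumB.valid.card_le hx hrel hUK hf1 hc1
  have htop : Subgroup.closure (x '' {g | g ∈ EnumB.cert.S}) = ⊤ := by
    refine wgen_closure relB fun i hi => ?_
    have h2 : val x [2] = 1 := wgen_rel relB [2] (by simp)
    have h3 : val x [3] = 1 := wgen_rel relB [3] (by simp)
    simp only [val_cons, val_nil, mul_one] at h2 h3
    interval_cases i
    · exact Or.inl (by simp [EnumB.cert])
    · exact Or.inl (by simp [EnumB.cert])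
    · exact Or.inr h2
    · exact Or.inr h3
  rw [htop] at hf2 hc2
  rw [show EnumB.cert.n = 12600 from rfl, show EnumE.cert.n = 20 from rfl,
    Nat.card_congr Subgroup.topEquiv.toEquiv] at hc2
  exact ⟨Finite.of_equiv _ Subgroup.topEquiv.toEquiv, by omega⟩

instance BS_finite : Finite BS := BS_card.1

theorem BS_rels_ok : ∀ r ∈ relB, val (tableLett EnumB.tabP 12600 [0, 1, 4, 5]) r = 1 := by
  intro r hr
  rcases List.mem_append.1 hr with hr | hr
  · have hl : ∀ g ∈ r, g ∈ [0, 1, 4, 5] := mem_of_lettersIn
      (List.all_eq_true.1 (show EnumB.rels.all (lettersIn [0, 1, 4, 5]) = true by decide +kernel) r hr)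
    rw [val_tableLett hl]
    exact pperm_rel EnumB.perm_ok symS_B hr hl
  · simp only [List.mem_cons, List.not_mem_nil, or_false] at hr
    rcases hr with rfl | rfl <;> simp [tableLett]

theorem tableB_inv : LettersInv (tableLett EnumB.tabP 12600 [0, 1, 4, 5]) :=
  tableLett_inv EnumB.perm_ok symS_B (linv_mem_of_small (by decide) (by decide))

/-- The model of the cover. -/
noncomputable def ψB : BS →* Equiv.Perm (Fin 12600) :=
  Classical.choose (exists_wordHom (R := relB) (tableLett EnumB.tabP 12600 [0, 1, 4, 5]) tableB_inv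
    (by decide +kernel) BS_rels_ok)

theorem ψB_val {w : List ℕ} (hw : ∀ g ∈ w, g ∈ [0, 1, 4, 5]) :
    ψB (val (wgen relB) w) = val (pperm EnumB.tabP 12600) w := by
  rw [map_val, ← val_tableLett hw]
  have h := Classical.choose_spec (exists_wordHom (R := relB)
    (tableLett EnumB.tabP 12600 [0, 1, 4, 5]) tableB_inv (by decide +kernel) BS_rels_ok)
  refine congrArg List.prod (List.map_congr_left fun g hg => h g ?_)
  have := hw g hg
  simp only [List.mem_cons, List.not_mem_nil, or_false] at this
  omega

/-- The base of the model of the cover. -/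
noncomputable abbrev baseB : List ℕ := ModelB.chainB.map Level.point

theorem baseB_ok : baseOK EnumB.tabP 12600 [0, 1, 4, 5] ModelB.chainB = true := by decide +kernel

/-- Words moving the base alike are equal in every group with the relators. -/
theorem eqB {x : ℕ → M} (hx : LettersInv x) (hrel : ∀ r ∈ EnumB.rels, val x r = 1) {a b : List ℕ}
    (ha : lettersIn [0, 1, 4, 5] a = true) (hb : lettersIn [0, 1, 4, 5] b = true)
    (hab : baseB.all (fun p => Nat.beq (twalk EnumB.tabP (winv a) p) (twalk EnumB.tabP (winv b) p))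
      = true) : val x a = val x b := by
  have ha' := mem_of_lettersIn ha
  have hb' := mem_of_lettersIn hb
  have hsize : baseSize ModelB.chainB = 1512000 := rfl
  obtain ⟨-, hinj⟩ := eq_of_base EnumB.perm_ok symS_B baseB_ok ψB
    (fun L hL u hu => ⟨_, ψB_val (lettersIn_of_baseOK baseB_ok L hL u hu)⟩)
    (by rw [hsize]; norm_num) (by rw [hsize]; exact BS_card.2)
  have h : val (wgen relB) a = val (wgen relB) b := hinj _ _ fun L hL i hi => Fin.ext (by
    rw [ψB_val ha', ψB_val hb', val_pperm EnumB.perm_ok symS_B _ ha',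
      val_pperm EnumB.perm_ok symS_B _ hb', hi]
    simpa [Nat.beq_eq] using List.all_eq_true.1 hab L.point (List.mem_map_of_mem hL))
  set y := lett (x 0) (x 1) (1 : M) 1
  have hy : LettersInv y := lettersInv_lett (mul_one 1)
  have hyx : ∀ w : List ℕ, (∀ g ∈ w, g ∈ [0, 1, 4, 5]) → val y w = val x w := by
    intro w hw
    refine congrArg List.prod (List.map_congr_left fun g hg => ?_)
    have := hw g hg
    simp only [List.mem_cons, List.not_mem_nil, or_false] at this
    have i0 : x 4 = (x 0)⁻¹ := hx 0
    have i1 : x 5 = (x 1)⁻¹ := hx 1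
    rcases this with rfl | rfl | rfl | rfl <;> simp [y, lett, i0, i1]
  obtain ⟨φ, hφ⟩ := exists_wordHom (R := relB) y hy (by decide +kernel) (by
    intro r hr
    rcases List.mem_append.1 hr with hr | hr
    · rw [hyx r (mem_of_lettersIn (List.all_eq_true.1
        (show EnumB.rels.all (lettersIn [0, 1, 4, 5]) = true by decide +kernel) r hr))]
      exact hrel r hr
    · simp only [List.mem_cons, List.not_mem_nil, or_false] at hr
      rcases hr with rfl | rfl <;> simp [y, lett])
  have hval : ∀ w : List ℕ, (∀ g ∈ w, g ∈ [0, 1, 4, 5]) → φ (val (wgen relB) w) = val x w := by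
    intro w hw
    rw [← hyx w hw, map_val]
    refine congrArg List.prod (List.map_congr_left fun g hg => hφ g ?_)
    have := hw g hg
    simp only [List.mem_cons, List.not_mem_nil, or_false] at this
    omega
  rw [← hval a ha', ← hval b hb', h]

/-- The double cover of `HS:2` has order at most `177408000`. -/
theorem PS_card : Finite PS ∧ Nat.card PS ≤ 177408000 := by
  set x := wgen relP
  have hx := wgen_inv relP
  have hrel : ∀ r ∈ EnumP.rels, val x r = 1 := fun r hr =>
    wgen_rel relP r (List.mem_append_left _ hr)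
  have hB : ∀ r ∈ EnumB.rels, val x r = 1 := shift_eq_one hx (by decide +kernel) hrel
  set y := lett (x 0) (x 1) (1 : PS) 1
  have hy : LettersInv y := lettersInv_lett (mul_one 1)
  have hyx : ∀ w : List ℕ, (∀ g ∈ w, g ∈ [0, 1, 4, 5]) → val y w = val x w := by
    intro w hw
    refine congrArg List.prod (List.map_congr_left fun g hg => ?_)
    have := hw g hg
    simp only [List.mem_cons, List.not_mem_nil, or_false] at this
    have i0 : x 4 = (x 0)⁻¹ := hx 0
    have i1 : x 5 = (x 1)⁻¹ := hx 1
    rcases this with rfl | rfl | rfl | rfl <;> simp [y, lett, i0, i1]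
  obtain ⟨φ, hφ⟩ := exists_wordHom (R := relB) y hy (by decide +kernel) (by
    intro r hr
    rcases List.mem_append.1 hr with hr | hr
    · rw [hyx r (mem_of_lettersIn (List.all_eq_true.1
        (show EnumB.rels.all (lettersIn [0, 1, 4, 5]) = true by decide +kernel) r hr))]
      exact hB r hr
    · simp only [List.mem_cons, List.not_mem_nil, or_false] at hr
      rcases hr with rfl | rfl <;> simp [y, lett])
  set k := val (wgen relB) kWord
  have hkl : ∀ g ∈ kWord, g ∈ [0, 1, 4, 5] := mem_of_lettersIn (by decide)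
  have hkmem : k ∈ φ.ker := by
    rw [MonoidHom.mem_ker, map_val]
    have h1 : val x kWord = 1 := shift_eq_one hx (R := [kWord]) (by decide +kernel) hrel _ (by simp)
    rw [← hyx kWord hkl] at h1
    rw [← h1]
    refine congrArg List.prod (List.map_congr_left fun g hg => hφ g ?_)
    have := hkl g hg
    simp only [List.mem_cons, List.not_mem_nil, or_false] at this
    omega
  have hk3 : orderOf k = 3 := by
    refine orderOf_eq_prime ?_ ?_
    · have := eqB (x := wgen relB) (wgen_inv _) (fun r hr => wgen_rel relB r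
        (List.mem_append_left _ hr)) (a := kWord ++ kWord ++ kWord) (b := [])
        (by decide) (by decide) (by decide +kernel)
      simpa [pow_succ, k, mul_assoc] using this
    · intro h1
      have h2 : ψB k ⟨0, by norm_num⟩ = ⟨0, by norm_num⟩ ∧ ψB k ⟨1, by norm_num⟩ = ⟨1, by norm_num⟩ := by
        rw [h1, map_one]; exact ⟨rfl, rfl⟩
      rw [ψB_val hkl] at h2
      have h3 := congrArg Fin.val h2.1
      have h4 := congrArg Fin.val h2.2
      rw [val_pperm EnumB.perm_ok symS_B _ hkl] at h3 h4
      revert h3 h4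
      decide +kernel
  have hker : 3 ≤ Nat.card φ.ker := by
    rw [← hk3, ← Nat.card_zpowers]
    exact Subgroup.card_le_of_le (Subgroup.zpowers_le.2 hkmem)
  have hrange : Nat.card φ.range * 3 ≤ 1512000 := by
    refine le_trans ?_ BS_card.2
    rw [← Subgroup.card_mul_index φ.ker, Subgroup.index_ker, mul_comm]
    exact Nat.mul_le_mul hker le_rfl
  have hrf : Finite φ.range := Finite.of_surjective _ φ.rangeRestrict_surjective
  obtain ⟨hf, hc⟩ := EnumP.valid.card_le hx hrel (K := φ.range) (by
    intro u hu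
    simp only [EnumP.cert, List.mem_cons, List.not_mem_nil, or_false] at hu
    rcases hu with rfl | rfl
    · exact ⟨wgen relB 0, by simp [hφ 0 (by norm_num), y, lett, x]⟩
    · exact ⟨wgen relB 1, by simp [hφ 1 (by norm_num), y, lett, x]⟩) hrf (m := 504000) (by omega)
  have htop : Subgroup.closure (x '' {g | g ∈ EnumP.cert.S}) = ⊤ := by
    refine wgen_closure relP fun i hi => ?_
    have h3 : val x [3] = 1 := wgen_rel relP [3] (by simp)
    simp only [val_cons, val_nil, mul_one] at h3
    interval_cases i
    · exact Or.inl (by simp [EnumP.cert])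
    · exact Or.inl (by simp [EnumP.cert])
    · exact Or.inl (by simp [EnumP.cert])
    · exact Or.inr h3
  rw [htop] at hf hc
  rw [show EnumP.cert.n = 352 from rfl, Nat.card_congr Subgroup.topEquiv.toEquiv] at hc
  exact ⟨Finite.of_equiv _ Subgroup.topEquiv.toEquiv, by omega⟩

instance PS_finite : Finite PS := PS_card.1

theorem PS_rels_ok : ∀ r ∈ relP, val (tableLett ModelP.tabP 1408 [0, 1, 2, 4, 5]) r = 1 := by
  intro r hr
  rcases List.mem_append.1 hr with hr | hr
  · have hl : ∀ g ∈ r, g ∈ [0, 1, 2, 4, 5] := mem_of_lettersIn (List.all_eq_true.1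
      (show EnumP.rels.all (lettersIn [0, 1, 2, 4, 5]) = true by decide +kernel) r hr)
    rw [val_tableLett hl]
    exact pperm_rel ModelP.perm_ok symS_P hr hl
  · simp only [List.mem_cons, List.not_mem_nil, or_false] at hr
    subst hr
    simp [tableLett]

theorem tableP_inv : LettersInv (tableLett ModelP.tabP 1408 [0, 1, 2, 4, 5]) :=
  tableLett_inv ModelP.perm_ok symS_P (linv_mem_of_small (by decide) (by decide))

/-- The model of the double cover. -/
noncomputable def ψP : PS →* Equiv.Perm (Fin 1408) :=
  Classical.choose (exists_wordHom (R := relP) (tableLett ModelP.tabP 1408 [0, 1, 2, 4, 5])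
    tableP_inv (by decide +kernel) PS_rels_ok)

theorem ψP_val {w : List ℕ} (hw : ∀ g ∈ w, g ∈ [0, 1, 2, 4, 5]) :
    ψP (val (wgen relP) w) = val (pperm ModelP.tabP 1408) w := by
  rw [map_val, ← val_tableLett hw]
  have h := Classical.choose_spec (exists_wordHom (R := relP)
    (tableLett ModelP.tabP 1408 [0, 1, 2, 4, 5]) tableP_inv (by decide +kernel) PS_rels_ok)
  refine congrArg List.prod (List.map_congr_left fun g hg => h g ?_)
  have := hw g hg
  simp only [List.mem_cons, List.not_mem_nil, or_false] at this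
  omega

theorem baseP_ok : baseOK ModelP.tabP 1408 [0, 1, 2, 4, 5] ModelP.chainP = true := by decide +kernel

theorem PS_base : Nat.card PS = 177408000 ∧ ∀ a b : PS,
    (∀ L ∈ ModelP.chainP, ∀ i : Fin 1408, i.1 = L.point → ψP a i = ψP b i) → a = b :=
  eq_of_base ModelP.perm_ok symS_P baseP_ok ψP
    (fun L hL u hu => ⟨_, ψP_val (lettersIn_of_baseOK baseP_ok L hL u hu)⟩)
    (by decide) PS_card.2

end Cfsg.Lib.HN
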