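import Cfsg.Agent.Lib.HN.TopHom
import Cfsg.Agent.Lib.HN.Top.Prim
import Cfsg.Prelude.Def_Sporadic

/-!
# The presented group is simple

The subgroup of the first three generators is maximal and its conjugates meet trivially, so a
normal subgroup `N ≠ 1` supplements it.  The square of the first generator is central in the
subgroup, hence central modulo `N`; as it inverts the fourth generator, this forces `N = ⊤`.
-/

set_option autoImplicit false
set_option maxRecDepth 100000

namespace Cfsg.Lib.HN.Top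

open Data
open Cfsg.Lib.CosetEnum (beqW)

theorem closure_hx : Subgroup.closure (Set.range fun i : Fin 4 => hx i.1) = ⊤ := by
  rw [← top_le_iff, ← PresentedGroup.closure_range_of, Subgroup.closure_le]
  rintro _ ⟨g, rfl⟩
  cases g
  · exact Subgroup.subset_closure ⟨0, rfl⟩
  · exact Subgroup.subset_closure ⟨1, rfl⟩
  · exact Subgroup.subset_closure ⟨2, rfl⟩
  · exact Subgroup.subset_closure ⟨3, rfl⟩

theorem hx_mem_Hsub {i : ℕ} (hi : i < 3) : hx i ∈ Hsub := by
  rw [Hsub_eq]
  refine ⟨wgen relP i, ?_⟩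
  have := φP_val (w := [i]) (fun a ha => by
    simp only [List.mem_cons, List.not_mem_nil, or_false] at ha ⊢; omega)
  simpa using this

theorem Hsub_le_iff {M : Subgroup Spor.HN} (h3 : hx 3 ∈ M) (h : Hsub ≤ M) : M = ⊤ := by
  rw [← top_le_iff, ← closure_hx, Subgroup.closure_le]
  rintro _ ⟨⟨i, hi⟩, rfl⟩
  rcases Nat.lt_or_ge i 3 with h' | h'
  · exact h (hx_mem_Hsub h')
  · obtain rfl : i = 3 := by omega
    exact h3

theorem val_flatten_mem {M : Subgroup Spor.HN} : ∀ {segs : List (List ℕ)},
    (∀ s ∈ segs, val hx s ∈ M) → val hx segs.flatten ∈ M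
  | [], _ => by simp [M.one_mem]
  | s :: segs, h => by
    rw [List.flatten_cons, val_append]
    exact M.mul_mem (h s (by simp)) (val_flatten_mem fun t ht => h t (by simp [ht]))

/-- The check on the words. -/
noncomputable def primOK (j : ℕ) : Bool :=
  let segs := primSegs.getD j []
  (segs.all fun s => lettersIn [0, 1, 2, 4, 5] s || beqW s (sys.ρ.getD j []) ||
    beqW s (winv (sys.ρ.getD j []))) &&
  (segs.flatten.all fun g => Nat.blt g 7) &&
  Nat.beq (evW sys odata segs.flatten (0, [])).1 1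

theorem rho3_mem {M : Subgroup Spor.HN} (hM : Hsub ≤ M) {j : ℕ} (hj : j < 9) (hj0 : j ≠ 0)
    (h : val hx (sys.ρ.getD j []) ∈ M) : hx 3 ∈ M := by
  have hall : (List.range 9).all (fun j => Nat.beq j 0 || primOK j) = true := by decide +kernel
  have hp := List.all_eq_true.1 hall j (List.mem_range.2 hj)
  simp only [Bool.or_eq_true, Nat.beq_eq, hj0, false_or, primOK, Bool.and_eq_true, List.all_eq_true,
    Nat.blt_eq] at hp
  obtain ⟨⟨hs, hl⟩, he⟩ := hp
  set segs := primSegs.getD j []
  have hm : val hx segs.flatten ∈ M := by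
    refine val_flatten_mem fun s hs' => ?_
    rcases hs s hs' with (hH | hρ) | hρ
    · refine hM ?_
      rw [Hsub_eq, ← φP_val (mem_of_lettersIn hH)]
      exact ⟨_, rfl⟩
    · rw [beqW_eq hρ]; exact h
    · rw [beqW_eq hρ, val_winv hx_inv]; exact M.inv_mem h
  obtain ⟨e, e1, e2⟩ := actW_pt hl (p := (0, [])) (by norm_num) rfl
  rcases hq : evW sys odata segs.flatten (0, []) with ⟨k, w⟩
  rw [hq] at e e1 e2 he
  simp only at he e1 e2
  subst he
  have hc : val hx segs.flatten • c0 = φP (val (wgen relP) w) • rhoPt 1 := by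
    conv_lhs => rw [← toCos_ω0, ← toCos_act, act_hx hl, show ω0 = pt (0, []) from rfl, e]
    rfl
  rw [rhoPt, show sys.ρ.getD 1 [] = [3] by decide +kernel, val_cons, val_nil, mul_one, smul_smul,
    smul_c0, smul_c0, QuotientGroup.eq] at hc
  have hd : φP (val (wgen relP) w) ∈ M := hM (by rw [Hsub_eq]; exact ⟨_, rfl⟩)
  have := M.mul_mem (M.inv_mem hd) (M.mul_mem hm (hM hc))
  simpa [mul_assoc] using this

theorem Hsub_ne_top : Hsub ≠ ⊤ := by
  intro h
  have := index_Hsub
  rw [h, Subgroup.index_top] at this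
  norm_num at this

/-- The subgroup of the first three generators is maximal. -/
theorem eq_top_of_lt {M : Subgroup Spor.HN} (hM : Hsub < M) : M = ⊤ := by
  obtain ⟨hle, g, hg, hgH⟩ := SetLike.lt_iff_le_and_exists.1 hM
  refine Hsub_le_iff ?_ hle
  obtain ⟨⟨j, q⟩, hw⟩ := toCos_bijective.2 (g : Cos)
  obtain ⟨a, rfl⟩ := QuotientGroup.mk_surjective q
  change φP a • rhoPt j.1 = (g : Cos) at hw
  rw [rhoPt, smul_smul, smul_c0, QuotientGroup.eq] at hw
  have hj : j.1 < 9 := K_length ▸ j.2
  have hin : val hx (sys.ρ.getD j.1 []) ∈ M := by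
    have ha : φP a ∈ M := hle (by rw [Hsub_eq]; exact ⟨_, rfl⟩)
    have := M.mul_mem (M.inv_mem ha) (M.mul_mem hg (M.inv_mem (hle hw)))
    simpa [mul_assoc] using this
  refine rho3_mem hle hj (fun h0 => hgH ?_) hin
  rw [h0, show sys.ρ.getD 0 [] = [] by decide +kernel, val_nil, mul_one] at hw
  have ha : φP a ∈ Hsub := by rw [Hsub_eq]; exact ⟨_, rfl⟩
  have := Hsub.mul_mem ha hw
  simpa using this

/-- An element in all conjugates of the subgroup is trivial. -/
theorem eq_one_of_core {n : Spor.HN} (h : ∀ g : Spor.HN, g⁻¹ * n * g ∈ Hsub) : n = 1 := by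
  have h1 := h 1
  rw [inv_one, one_mul, mul_one, Hsub_eq] at h1
  obtain ⟨a, rfl⟩ := h1
  have : smHom a = 1 := by
    refine Equiv.ext fun w => toCos_bijective.1 ?_
    rw [← DFunLike.congr_fun act_φP a, MonoidHom.comp_apply, toCos_act, Equiv.Perm.one_apply]
    obtain ⟨g, hg⟩ := QuotientGroup.mk_surjective (toCos w)
    rw [← hg, ← smul_c0 g, smul_smul, smul_c0, smul_c0, QuotientGroup.eq, mul_inv_rev]
    have := Hsub.inv_mem (h g)
    simpa [mul_assoc] using this
  rw [smHom_eq_one this, map_one]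

theorem eq_top_of_normal (N : Subgroup Spor.HN) [hN : N.Normal] (hne : N ≠ ⊥) : N = ⊤ := by
  have hsup : Hsub < N ⊔ Hsub := by
    refine lt_of_le_of_ne le_sup_right fun h => hne ?_
    have hle : N ≤ Hsub := h ▸ le_sup_left
    rw [eq_bot_iff]
    intro n hn
    refine Subgroup.mem_bot.2 (eq_one_of_core fun g => hle ?_)
    simpa using hN.conj_mem n hn g⁻¹
  have htop := eq_top_of_lt hsup
  obtain ⟨-, -, -, r4, r5, -, hc, hca, -, h9, h5, -, -, hzt⟩ := hn_basic
  obtain ⟨b6, -⟩ := hn_basic
  obtain ⟨-, hab, hac⟩ := hx_sq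
  obtain ⟨-, e2, -, -⟩ := hx_t
  set f := QuotientGroup.mk' N with hf
  have hker : ∀ n, f n = 1 ↔ n ∈ N := fun n => QuotientGroup.eq_one_iff n
  have hcomm : ∀ g : Spor.HN, Commute (f (hx 0 ^ 2)) (f g) := by
    have : N ⊔ Hsub ≤ (Subgroup.centralizer {f (hx 0 ^ 2)}).comap f := by
      refine sup_le (fun n hn => ?_) ?_
      · rw [Subgroup.mem_comap, (hker n).2 hn]
        exact Subgroup.one_mem _
      · rw [Hsub_eq]
        rintro _ ⟨a, rfl⟩
        have hmem : φP a ∈ (Subgroup.centralizer {hx 0 ^ 2}) := by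
          have hcl : Hsub ≤ Subgroup.centralizer {hx 0 ^ 2} := by
            rw [Hsub, MonoidHom.map_closure, Subgroup.closure_le]
            rintro _ ⟨r, (rfl | rfl | rfl), rfl⟩ <;>
              refine Subgroup.mem_centralizer_singleton_iff.2 ?_
            · exact ((Commute.refl (hx 0)).pow_left 2).symm.eq
            · exact hab.symm.eq
            · exact hac.symm.eq
          exact hcl (by rw [Hsub_eq]; exact ⟨a, rfl⟩)
        rw [Subgroup.mem_comap]
        refine Subgroup.mem_centralizer_singleton_iff.2 ?_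
        rw [← map_mul, Subgroup.mem_centralizer_singleton_iff.1 hmem, map_mul]
    intro g
    have hg : g ∈ (Subgroup.centralizer {f (hx 0 ^ 2)}).comap f := this (htop ▸ Subgroup.mem_top g)
    exact (Subgroup.mem_centralizer_singleton_iff.1 hg).symm
  set a := f (hx 0) with ha
  set b := f (hx 1) with hb
  set c := f (hx 2) with hc'
  set d := f (hx 3) with hd'
  have hd : d = 1 := by
    have h1 : d = d⁻¹ := by
      have := congrArg f e2
      rw [map_mul, map_mul, map_inv, map_inv, (hcomm (hx 3)).eq, mul_inv_cancel_right] at this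
      exact this
    have h2 : d * d = 1 := by nth_rewrite 1 [h1]; exact inv_mul_cancel d
    have h3 : d ^ 5 = 1 := by rw [hd', ← map_pow, h5, map_one]
    calc d = d ^ 5 * ((d * d) * (d * d))⁻¹ := by group
      _ = 1 := by rw [h2, h3]; group
  have hz : c = 1 := by
    have h1 := congrArg f hzt
    have h2 := congrArg f hc
    simp only [map_pow, map_mul, map_one, ← hc', ← hd', hd, mul_one] at h1 h2
    calc c = c ^ 3 * (c ^ 2)⁻¹ := by group
      _ = 1 := by rw [h1, h2]; group
  have hx2 : a ^ 2 = 1 := by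
    have h1 := congrArg f hca
    simpa only [map_pow, map_mul, map_one, ← hc', ← ha, hz, one_mul] using h1
  have hx1 : a = 1 := by
    have h1 := congrArg f h9
    simp only [map_pow, map_mul, map_inv, map_one, ← hc', ← ha, ← hb, hz, one_mul, mul_one,
      inv_mul_cancel] at h1
    calc a = a ^ 3 * (a ^ 2)⁻¹ := by group
      _ = 1 := by rw [h1, hx2]; group
  have hy : b = 1 := by
    have h1 := congrArg f r4
    have h2 := congrArg f r5
    have h3 := congrArg f b6
    simp only [map_pow, map_mul, map_inv, map_one, ← ha, ← hb, hx1, inv_one, one_mul,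
      mul_one] at h1 h2 h3
    calc b = ((b ^ 2 * b ^ 3) ^ 3) ^ 3 * (b ^ 8) ^ 2 * ((b ^ 6) ^ 10)⁻¹ := by group
      _ = 1 := by rw [h1, h2, h3]; group
  rw [← top_le_iff, ← closure_hx, Subgroup.closure_le]
  rintro _ ⟨i, rfl⟩
  refine (hker _).1 ?_
  fin_cases i
  · exact hx1
  · exact hy
  · exact hz
  · exact hd

theorem isSimple : IsSimpleGroup Spor.HN := by
  have : Nontrivial Spor.HN :=
    ⟨⟨hx 3, 1, fun h => Hsub_ne_top (Hsub_le_iff (by rw [h]; exact Hsub.one_mem) le_rfl)⟩⟩
  exact { eq_bot_or_eq_top_of_normal := fun N hN => (em (N = ⊥)).imp id (eq_top_of_normal N) }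

theorem isHN : IsHN Spor.HN := ⟨isSimple, card_HN⟩

end Cfsg.Lib.HN.Top
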