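import Cfsg.Agent.Lib.HN.DoubleCover
import Cfsg.Agent.Lib.HN.Simple
import Cfsg.Agent.Lib.PermAut.HsMult
import Cfsg.Agent.Lib.Concrete.StemTools

/-!
# The multiplier of the presented group is trivial

In a central extension the preimage of the double cover of `HS` has a derived group mapping
isomorphically, `HS` having a multiplier of order two.  Lifts of the first two generators in it
satisfy their relators; the other two lifts can then be normalised to satisfy all relators, so the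
extension splits.
-/

set_option autoImplicit false
set_option maxRecDepth 100000

namespace Cfsg.Lib.HN

open scoped commutatorElement

/-- The image of the double cover of `HS`. -/
noncomputable def Kimg : Subgroup Spor.HN := Sub100.Kχ.map φP

theorem perfect_Kχ : commutator Sub100.Kχ = ⊤ := by
  obtain ⟨e⟩ := Sub100.iso_G
  set f := Sub100.f
  have hfs : Function.Surjective f := Sub100.π.subgroupMap_surjective Sub100.Kχ
  have hG : commutator Sub100.G = ⊤ := by
    have h := congrArg (Subgroup.map e.symm.toMonoidHom) Cfsg.Lib.PermAut.Hs.perfect_hs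
    rwa [_root_.commutator_def, Subgroup.map_commutator,
      Subgroup.map_top_of_surjective _ e.symm.surjective, ← _root_.commutator_def] at h
  set Z0 : Sub100.Kχ := ⟨Sub100.zc, Sub100.zc_mem⟩
  have hker : Subgroup.zpowers Z0 = f.ker := by
    refine Subgroup.eq_of_le_of_card_ge (Subgroup.zpowers_le.2 (Subtype.ext Sub100.π_zc)) ?_
    rw [Sub100.card_G_ker.2, Nat.card_zpowers]
    have h0 := orderOf_pos Z0
    have h1 : orderOf Z0 ≠ 1 := fun h =>
      Sub100.zc_ne (congrArg Subtype.val (orderOf_eq_one_iff.1 h))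
    omega
  have hdec : ∀ k : Sub100.Kχ, ∃ d ∈ commutator Sub100.Kχ, ∃ z ∈ f.ker, k = d * z := by
    intro k
    have hk : f k ∈ (commutator Sub100.Kχ).map f := by
      rw [_root_.commutator_def, Subgroup.map_commutator,
        Subgroup.map_top_of_surjective _ hfs, ← _root_.commutator_def, hG]
      trivial
    obtain ⟨d, hd, hdk⟩ := hk
    exact ⟨d, hd, d⁻¹ * k,
      by rw [MonoidHom.mem_ker, map_mul, map_inv, hdk, inv_mul_cancel], by group⟩
  have hsq : ∀ k : Sub100.Kχ, k * k ∈ commutator Sub100.Kχ := by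
    intro k
    obtain ⟨d, hd, z, hz, rfl⟩ := hdec k
    have hzz : z * z = 1 := by
      have h2 := pow_card_eq_one' (x := (⟨z, hz⟩ : f.ker))
      rw [Sub100.card_G_ker.2, pow_two] at h2
      exact congrArg Subtype.val h2
    have hzd : Commute z d := by
      rw [← hker] at hz
      obtain ⟨i, rfl⟩ := hz
      exact Commute.zpow_left (Subtype.ext (Sub100.zc_comm d.1).eq) i
    rw [hzd.mul_mul_mul_comm d z, hzz, mul_one]
    exact mul_mem hd hd
  have hx : wgen relP 0 ∈ Sub100.Kχ := by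
    rw [MonoidHom.mem_ker, show wgen relP 0 = val (wgen relP) [0] by simp, Sub100.χ_val (by decide)]
    decide
  have hZ : Z0 ∈ commutator Sub100.Kχ := hsq ⟨wgen relP 0, hx⟩
  rw [← top_le_iff]
  intro k _
  obtain ⟨d, hd, z, hz, rfl⟩ := hdec k
  rw [← hker] at hz
  exact mul_mem hd ((Subgroup.zpowers_le.2 hZ) hz)

theorem commutator_Kimg : ⁅Kimg, Kimg⁆ = Kimg := by
  have h := congrArg (Subgroup.map (φP.comp Sub100.Kχ.subtype)) perfect_Kχ
  rw [_root_.commutator_def, Subgroup.map_commutator, ← MonoidHom.range_eq_map,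
    MonoidHom.range_comp, Subgroup.range_subtype] at h
  exact h

theorem card_Kimg : Nat.card Kimg = 88704000 := by
  rw [Kimg, Subgroup.card_map_of_injective Top.φP_injective, Sub100.card_Kχ]

theorem val_mem_Kimg {w : List ℕ} (hw : lettersIn [0, 1, 2, 4, 5] w = true)
    (hs : val Sub100.signLett w = 1) : val hx w ∈ Kimg :=
  ⟨val (wgen relP) w, by rw [SetLike.mem_coe, MonoidHom.mem_ker, Sub100.χ_val hw, hs],
    φP_val (mem_of_lettersIn hw)⟩

section Ext

variable {E : Type} [Group E] [Finite E] {σ : E →* Spor.HN}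

/-- The derived group of the preimage of the double cover of `HS`. -/
noncomputable def Dsub (σ : E →* Spor.HN) : Subgroup E := ⁅Kimg.comap σ, Kimg.comap σ⁆

variable (hs : Function.Surjective σ) (hc : σ.ker ≤ Subgroup.center E)

include hs in
theorem map_Dsub : (Dsub σ).map σ = Kimg := by
  rw [Dsub, Subgroup.map_commutator, Subgroup.map_comap_eq_self_of_surjective hs, commutator_Kimg]

include hs in
theorem exists_lift_Dsub {g : Spor.HN} (hg : g ∈ Kimg) : ∃ x ∈ Dsub σ, σ x = g := by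
  rw [← map_Dsub hs] at hg
  exact hg

include hs hc in
theorem comm_Dsub : Dsub σ ≤ ⁅Dsub σ, Dsub σ⁆ := by
  refine Subgroup.commutator_le.2 fun x hx y hy => ?_
  obtain ⟨d, hd, hdx⟩ := exists_lift_Dsub hs (Subgroup.mem_comap.1 hx)
  obtain ⟨d', hd', hdy⟩ := exists_lift_Dsub hs (Subgroup.mem_comap.1 hy)
  have key : ∀ a b : E, σ a = σ b → ∃ z ∈ Subgroup.center E, a = b * z := fun a b h =>
    ⟨b⁻¹ * a, hc (by rw [MonoidHom.mem_ker, map_mul, map_inv, h, inv_mul_cancel]), by group⟩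
  obtain ⟨z, hz, rfl⟩ := key x d hdx.symm
  obtain ⟨z', hz', rfl⟩ := key y d' hdy.symm
  have : ⁅d * z, d' * z'⁆ = ⁅d, d'⁆ := by
    rw [Subgroup.mem_center_iff] at hz hz'
    simp only [commutatorElement_def, mul_inv_rev]
    rw [show d * z * (d' * z') * (z⁻¹ * d⁻¹) * (z'⁻¹ * d'⁻¹) =
      d * (z * (d' * z')) * z⁻¹ * d⁻¹ * z'⁻¹ * d'⁻¹ by group, ← hz (d' * z')]
    rw [show d * (d' * z' * z) * z⁻¹ * d⁻¹ * z'⁻¹ * d'⁻¹ = d * d' * (z' * d⁻¹) * z'⁻¹ * d'⁻¹ by group,
      ← hz' d⁻¹]
    group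
  rw [this]
  exact Subgroup.commutator_mem_commutator hd hd'

include hs hc in
theorem commute_Dsub {y : E} (hy : ∀ g ∈ Kimg, Commute (σ y) g) :
    ∀ x ∈ Dsub σ, Commute y x := by
  intro x hx
  have hle : Dsub σ ≤ Subgroup.centralizer {y} := by
    refine (comm_Dsub hs hc).trans (Subgroup.commutator_le.2 fun g hg h hh => ?_)
    have hconj : ∀ g ∈ Dsub σ, ∃ z ∈ Subgroup.center E, y * g * y⁻¹ = g * z := fun g hg => by
      refine ⟨g⁻¹ * (y * g * y⁻¹), hc ?_, by group⟩
      have hσg : σ g ∈ Kimg := by rw [← map_Dsub hs]; exact ⟨g, hg, rfl⟩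
      rw [MonoidHom.mem_ker, map_mul, map_inv, map_mul, map_mul, map_inv, (hy _ hσg).eq,
        mul_inv_cancel_right, inv_mul_cancel]
    obtain ⟨z, hz, hzg⟩ := hconj g hg
    obtain ⟨z', hz', hzh⟩ := hconj h hh
    rw [Subgroup.mem_center_iff] at hz hz'
    refine Subgroup.mem_centralizer_singleton_iff.2 (Eq.symm ?_)
    rw [← mul_inv_eq_iff_eq_mul]
    have : y * ⁅g, h⁆ * y⁻¹ = ⁅y * g * y⁻¹, y * h * y⁻¹⁆ := by
      simp only [commutatorElement_def]; group
    rw [this, hzg, hzh]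
    simp only [commutatorElement_def, mul_inv_rev]
    rw [show g * z * (h * z') * (z⁻¹ * g⁻¹) * (z'⁻¹ * h⁻¹) =
      g * (z * (h * z')) * z⁻¹ * g⁻¹ * z'⁻¹ * h⁻¹ by group, ← hz (h * z')]
    rw [show g * (h * z' * z) * z⁻¹ * g⁻¹ * z'⁻¹ * h⁻¹ = g * h * (z' * g⁻¹) * z'⁻¹ * h⁻¹ by group,
      ← hz' g⁻¹]
    group
  exact (Subgroup.mem_centralizer_singleton_iff.1 (hle hx)).symm

include hs hc in
theorem Dsub_exact : ∀ x ∈ Dsub σ, σ x = 1 → x = 1 := by
  set D := Dsub σ
  let τ0 : D →* Kimg := (σ.comp D.subtype).codRestrict Kimg fun x => by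
    rw [← map_Dsub hs]; exact ⟨x.1, x.2, rfl⟩
  have hτ0 : Function.Surjective τ0 := fun g => by
    obtain ⟨x, hx, hxg⟩ := exists_lift_Dsub hs g.2
    exact ⟨⟨x, hx⟩, Subtype.ext hxg⟩
  let e0 : Sub100.Kχ ≃* Kimg := Sub100.Kχ.equivMapOfInjective φP Top.φP_injective
  obtain ⟨e⟩ := Sub100.iso_G
  let τ : D →* ↥Spor.HS := (e.toMonoidHom.comp Sub100.f).comp (e0.symm.toMonoidHom.comp τ0)
  have hτ : IsStemExtension τ := by
    refine ⟨(e.surjective.comp (Sub100.π.subgroupMap_surjective _)).comp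
      (e0.symm.surjective.comp hτ0), ?_, ?_⟩
    · intro x hx
      rw [MonoidHom.mem_ker] at hx
      have hx' : Sub100.f (e0.symm (τ0 x)) = 1 :=
        e.injective (by rw [map_one]; exact hx)
      have hcen : ∀ g ∈ Kimg, Commute (σ x.1) g := by
        intro g hg
        obtain ⟨k, hk, rfl⟩ := hg
        obtain ⟨-, -, hd⟩ := Sub100.double_cover
        have hmem : e0.symm (τ0 x) ∈ Subgroup.center Sub100.Kχ := by
          have hle : Subgroup.center Sub100.Kχ ≤ Sub100.f.ker := by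
            intro q hq
            haveI : Finite Sub100.G := inferInstance
            have hqc : Sub100.f q ∈ Subgroup.center Sub100.G := Subgroup.mem_center_iff.2 fun g => by
              obtain ⟨h, rfl⟩ := Sub100.π.subgroupMap_surjective Sub100.Kχ g
              rw [← map_mul, ← map_mul, Subgroup.mem_center_iff.1 hq h]
            haveI : IsSimpleGroup Sub100.G := e.isSimpleGroup_congr.2 (by
              obtain ⟨e5⟩ := Cfsg.Lib.Concrete.sporHS_equiv
              exact e5.isSimpleGroup_congr.2 Cfsg.Lib.Concrete.isHS_five.1)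
            have hbot : Subgroup.center Sub100.G = ⊥ :=
              ((inferInstance : (Subgroup.center Sub100.G).Normal).eq_bot_or_eq_top).resolve_right fun h => by
                let _ : CommGroup Sub100.G := { (inferInstance : Group Sub100.G) with
                  mul_comm := fun a b => (Subgroup.mem_center_iff.1 (h ▸ Subgroup.mem_top b) a) }
                have hp := IsSimpleGroup.prime_card (α := Sub100.G)
                rw [Sub100.card_G_ker.1] at hp
                norm_num at hp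
            rw [hbot, Subgroup.mem_bot] at hqc
            exact hqc
          have heq := Subgroup.eq_of_le_of_card_ge hle (by rw [hd.1, Sub100.card_G_ker.2])
          rw [heq]
          exact hx'
        have h := Subgroup.mem_center_iff.1 hmem ⟨k, hk⟩
        have h' := congrArg (fun q : Sub100.Kχ => φP q.1) h
        simp only [Subgroup.coe_mul, map_mul] at h'
        have hσ : φP (e0.symm (τ0 x)).1 = σ x.1 := congrArg Subtype.val (e0.apply_symm_apply (τ0 x))
        rw [hσ] at h'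
        exact h'.symm
      rw [Subgroup.mem_center_iff]
      exact fun g => Subtype.ext (commute_Dsub hs hc hcen g.1 g.2).eq.symm
    · intro x _
      have hx : (x : E) ∈ ⁅D, D⁆ := comm_Dsub hs hc x.2
      rw [show (⁅D, D⁆ : Subgroup E) = (commutator D).map D.subtype by
        rw [_root_.commutator_def, Subgroup.map_commutator, ← MonoidHom.range_eq_map,
          Subgroup.range_subtype]] at hx
      obtain ⟨y, hy, hyx⟩ := hx
      exact Subtype.ext hyx ▸ hy
  obtain ⟨π, hπ⟩ := Cfsg.Lib.PermAut.Hs.multiplier_hs.2 D τ hτ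
  have hk : Nat.card τ.ker ≤ 2 := by
    have := Nat.card_le_card_of_surjective _ hπ
    simpa using this
  have hcard : Nat.card D ≤ 88704000 := by
    rw [← Subgroup.card_mul_index τ.ker, Subgroup.index_ker, MonoidHom.range_eq_top.2 hτ.1,
      Subgroup.card_top]
    rw [← Nat.card_congr e.toEquiv, Sub100.card_G_ker.1]
    omega
  have hbij : Function.Bijective τ0 := (Nat.bijective_iff_surjective_and_card τ0).2
    ⟨hτ0, le_antisymm (card_Kimg ▸ hcard) (Nat.card_le_card_of_surjective _ hτ0)⟩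
  intro x hx h1
  have : (⟨x, hx⟩ : D) = 1 := hbij.1 (Subtype.ext (by rw [map_one]; exact h1))
  exact congrArg Subtype.val this

/-- A central extension with a section. -/
theorem exists_section (hs : Function.Surjective σ) (hc : σ.ker ≤ Subgroup.center E) :
    ∃ s : Spor.HN →* E, σ.comp s = MonoidHom.id Spor.HN := by
  have hxa : hx 0 ∈ Kimg := by simpa using val_mem_Kimg (w := [0]) (by decide) (by decide)
  have hxb : hx 1 ∈ Kimg := by simpa using val_mem_Kimg (w := [1]) (by decide) (by decide)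
  obtain ⟨a, ha, sa⟩ := exists_lift_Dsub hs hxa
  obtain ⟨b, hb, sb⟩ := exists_lift_Dsub hs hxb
  obtain ⟨c0, sc0⟩ := hs (hx 2)
  obtain ⟨d0, sd0⟩ := hs (hx 3)
  set D := Dsub σ
  have hex : ∀ g ∈ D, σ g = 1 → g = 1 := Dsub_exact hs hc
  have cen : ∀ {z : E}, σ z = 1 → ∀ g : E, Commute z g := fun {z} hz g =>
    ((Subgroup.mem_center_iff.1 (hc (MonoidHom.mem_ker.2 hz))) g).symm
  obtain ⟨r1, r2, r3, r4, r5, r6, r7, r8, r9, r10, r11, r12, r13, r14⟩ := hn_basic
  -- the last generator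
  set zx := a⁻¹ * d0 * a * d0 ^ 2 with hzx
  have szx : σ zx = 1 := by
    simp only [zx, map_mul, map_inv, map_pow, sa, sd0]; exact r12
  have s5 : σ (d0 ^ 5) = 1 := by rw [map_pow, sd0, r11]
  set μ := d0 ^ 5 * (zx ^ 2)⁻¹ with hμ
  have sμ : σ μ = 1 := by rw [hμ, map_mul, map_inv, map_pow σ zx, s5, szx]; group
  set d := d0 * μ with hd
  have sd : σ d = hx 3 := by rw [hd, map_mul, sμ, sd0, mul_one]
  have h15 : d0 ^ 15 = zx ^ 5 := by
    have hw : a⁻¹ * d0 * a = zx * (d0 ^ 2)⁻¹ := by rw [hzx]; group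
    have h := congrArg (· ^ 5) hw
    try simp only at h
    rw [(cen szx _).mul_pow] at h
    have hconj : (a⁻¹ * d0 * a) ^ 5 = d0 ^ 5 := by
      rw [show a⁻¹ * d0 * a = a⁻¹ * d0 * a⁻¹⁻¹ by rw [inv_inv], conj_pow, inv_inv, mul_assoc,
        (cen s5 a).eq, inv_mul_cancel_left]
    rw [hconj] at h
    calc d0 ^ 15 = d0 ^ 5 * d0 ^ 10 := by group
      _ = zx ^ 5 * ((d0 ^ 2)⁻¹) ^ 5 * d0 ^ 10 := by rw [h]
      _ = zx ^ 5 := by group
  have hd5 : d ^ 5 = 1 := by
    rw [hd, (cen sμ d0).symm.mul_pow, hμ, (cen s5 _).mul_pow]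
    calc d0 ^ 5 * ((d0 ^ 5) ^ 5 * ((zx ^ 2)⁻¹) ^ 5) = d0 ^ 15 * d0 ^ 15 * (zx ^ 10)⁻¹ := by group
      _ = 1 := by rw [h15]; group
  have hdx : a⁻¹ * d * a * d ^ 2 = 1 := by
    have e1 : a⁻¹ * d * a * d ^ 2 = zx * μ ^ 3 := by
      rw [hd, hzx, (cen sμ d0).symm.mul_pow]
      calc a⁻¹ * (d0 * μ) * a * (d0 ^ 2 * μ ^ 2) = a⁻¹ * d0 * (μ * a) * (d0 ^ 2 * μ ^ 2) := by group
        _ = a⁻¹ * d0 * a * (μ * d0 ^ 2) * μ ^ 2 := by rw [(cen sμ a).eq]; group
        _ = a⁻¹ * d0 * a * d0 ^ 2 * μ ^ 3 := by rw [(cen sμ (d0 ^ 2)).eq]; group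
    rw [e1, hμ, (cen s5 _).mul_pow]
    calc zx * ((d0 ^ 5) ^ 3 * ((zx ^ 2)⁻¹) ^ 3) = zx * d0 ^ 15 * (zx ^ 6)⁻¹ := by group
      _ = 1 := by rw [h15]; group
  -- the third generator
  set z1 := c0 * c0 with hz1
  set z2 := (c0 * d) ^ 3 with hz2
  have s1 : σ z1 = 1 := by rw [hz1, map_mul, sc0, ← sq]; exact r7
  have s2 : σ z2 = 1 := by rw [hz2, map_pow, map_mul, sc0, sd]; exact r14
  set lam := z1 * z2⁻¹ with hlam
  have slam : σ lam = 1 := by rw [hlam, map_mul, map_inv, s1, s2, inv_one, mul_one]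
  set c := c0 * lam with hcdef
  have sc : σ c = hx 2 := by rw [hcdef, map_mul, slam, sc0, mul_one]
  set e := z1 ^ 3 * (z2 ^ 2)⁻¹ with he
  have hcc : c * c = e := by
    rw [← sq, hcdef, (cen slam c0).symm.mul_pow, hlam, (cen s1 _).mul_pow, sq c0, ← hz1, he]
    group
  have hcd : (c * d) ^ 3 = e := by
    rw [show c * d = c0 * d * lam by rw [hcdef, mul_assoc, (cen slam d).eq, ← mul_assoc],
      (cen slam _).symm.mul_pow, ← hz2, hlam, (cen s1 _).mul_pow, he]
    rw [← mul_assoc, ← (cen (show σ (z1 ^ 3) = 1 by rw [map_pow, s1, one_pow]) z2).eq]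
    group
  have se : σ e = 1 := by simp [he, s1, s2]
  have hD : ∀ g ∈ D, c * g * c⁻¹ ∈ D := by
    intro g hg
    have hcH : ∀ k ∈ Kimg, σ c * k * (σ c)⁻¹ ∈ Kimg := by
      rw [sc]
      rintro _ ⟨k, hk, rfl⟩
      refine ⟨wgen relP 2 * k * (wgen relP 2)⁻¹,
        (inferInstance : Sub100.Kχ.Normal).conj_mem k hk _, ?_⟩
      have h2 : φP (wgen relP 2) = hx 2 := by
        simpa using φP_val (w := [2]) (fun g hg => by simp only [List.mem_singleton] at hg; simp [hg])
      rw [map_mul, map_mul, map_inv, h2]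
    have hle : (Dsub σ).map (MulAut.conj c).toMonoidHom ≤ Dsub σ := by
      rw [Dsub, Subgroup.map_commutator]
      refine Subgroup.commutator_mono ?_ ?_ <;>
      · rintro _ ⟨g, hg, rfl⟩
        show σ (c * g * c⁻¹) ∈ Kimg
        rw [map_mul, map_mul, map_inv]
        exact hcH _ hg
    exact hle ⟨g, hg, rfl⟩
  have hcinv : c⁻¹ = c * e⁻¹ := by rw [← hcc]; group
  have hD' : ∀ g ∈ D, c⁻¹ * g * c ∈ D := fun g hg => by
    have : c⁻¹ * g * c = c * g * c⁻¹ := by
      have se' : σ e⁻¹ = 1 := by rw [map_inv, se, inv_one]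
      calc c⁻¹ * g * c = c * (e⁻¹ * g) * c := by rw [hcinv]; group
        _ = c * g * (e⁻¹ * c) := by rw [(cen se' g).eq]; group
        _ = c * g * (c * e⁻¹) := by rw [(cen se' c).eq]
        _ = c * g * c⁻¹ := by rw [← hcinv]
    rw [this]; exact hD g hg
  have ha4 : (a * a) * (a * a) = 1 := hex _ (mul_mem (mul_mem ha ha) (mul_mem ha ha))
    (by simp only [map_mul, sa]; simpa [pow_succ, mul_assoc] using hx_sq.1)
  have hac : Commute (a * a) c := by
    have h := hex (c * (a * a) * c⁻¹ * (a * a)⁻¹) (mul_mem (hD _ (mul_mem ha ha))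
      (inv_mem (mul_mem ha ha))) (by
        simp only [← sq, map_mul, map_inv, map_pow, sa, sc]
        rw [hx_sq.2.2.symm.eq]; group)
    rw [commute_iff_eq]
    calc a * a * c = c * (a * a) * c⁻¹ * (a * a)⁻¹ * (a * a) * c := by rw [h, one_mul]
      _ = c * (a * a) := by group
  have hAd : a * a * d * (a * a)⁻¹ = d⁻¹ := by
    have e1 : a⁻¹ * d * a = (d ^ 2)⁻¹ := eq_inv_of_mul_eq_one_left hdx
    have e2 : a⁻¹ * d ^ 2 * a = d := by
      rw [show a⁻¹ * d ^ 2 * a = (a⁻¹ * d * a) ^ 2 by simp [pow_two, mul_assoc], e1]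
      calc ((d ^ 2)⁻¹) ^ 2 = d * (d ^ 5)⁻¹ := by group
        _ = d := by rw [hd5]; group
    have e3 : a * d * a⁻¹ = d ^ 2 := by
      conv_lhs => rw [← e2]
      group
    calc a * a * d * (a * a)⁻¹ = a * (a * d * a⁻¹) * a⁻¹ := by group
      _ = (a * d * a⁻¹) ^ 2 := by rw [e3, ← conj_pow, e3]
      _ = d ^ 5 * d⁻¹ := by rw [e3]; group
      _ = d⁻¹ := by rw [hd5, one_mul]
  have he1 : e = 1 := by
    set A := a * a
    have h1 : (c * d⁻¹) ^ 3 = e := by
      have : c * d⁻¹ = A * (c * d) * A⁻¹ := by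
        rw [show A * (c * d) * A⁻¹ = (A * c) * d * A⁻¹ by group, hac.eq,
          show c * A * d * A⁻¹ = c * (A * d * A⁻¹) by group, hAd]
      rw [this, conj_pow, hcd, mul_assoc, (cen se A⁻¹).eq, mul_inv_cancel_left]
    have h2 : (d * c) ^ 3 = e := by
      rw [show (d * c) ^ 3 = c⁻¹ * (c * d) ^ 3 * c by simp [pow_succ, mul_assoc], hcd, mul_assoc, (cen se c).eq,
        inv_mul_cancel_left]
    have h3 : (d * c⁻¹) ^ 3 = e⁻¹ := by rw [← h1, ← inv_pow, mul_inv_rev c d⁻¹, inv_inv]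
    have se' : σ e⁻¹ = 1 := by rw [map_inv, se, inv_one]
    rw [hcinv, ← mul_assoc, (cen se' _).symm.mul_pow, h2] at h3
    calc e = (e * (e⁻¹) ^ 3)⁻¹ * e⁻¹ := by group
      _ = 1 := by rw [h3]; group
  rw [he1] at hcc hcd
  have hcinv' : c⁻¹ = c := inv_eq_of_mul_eq_one_right hcc
  have hdb : d⁻¹ * b⁻¹ * d * b = 1 := by
    set ζ := d⁻¹ * b⁻¹ * d * b with hζ
    have sζ : σ ζ = 1 := by simp only [ζ, map_mul, map_inv, sd, sb]; exact r13
    have hb6 : b ^ 6 = 1 := hex _ (pow_mem hb 6) (by rw [map_pow, sb, r1])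
    have e1 : b⁻¹ * d * b = d * ζ := by rw [hζ]; group
    have e5 : ζ ^ 5 = 1 := by
      have h := congrArg (· ^ 5) e1
      try simp only at h
      rw [(cen sζ d).symm.mul_pow, hd5, one_mul,
        show (b⁻¹ * d * b) ^ 5 = b⁻¹ * d ^ 5 * b by simp [pow_succ, mul_assoc], hd5] at h
      rw [← h]; group
    have e2 : d⁻¹ * b⁻¹ * d = ζ * b⁻¹ := by rw [hζ]; group
    have e6 : ζ ^ 6 = 1 := by
      have h := congrArg (· ^ 6) e2
      try simp only at h
      rw [(cen sζ b⁻¹).mul_pow, inv_pow, hb6, inv_one, mul_one,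
        show (d⁻¹ * b⁻¹ * d) ^ 6 = d⁻¹ * (b ^ 6)⁻¹ * d by simp [pow_succ, mul_assoc], hb6] at h
      rw [← h]; group
    calc ζ = ζ ^ 6 * (ζ ^ 5)⁻¹ := by group
      _ = 1 := by rw [e5, e6]; group
  set gen : Spor.HN.Gen → E := fun g =>
    match g with
    | .x => a
    | .y => b
    | .z => c
    | .t => d
  have hgen : ∀ g, σ (gen g) = PresentedGroup.of g := by
    intro g; cases g
    · exact sa
    · exact sb
    · exact sc
    · exact sd
  have hrel : ∀ r ∈ Spor.coxRelators Spor.HN.edges ∪ {r | r ∈ Spor.HN.extra},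
      FreeGroup.lift gen r = 1 := by
    rintro r (⟨p, hp, -⟩ | hr)
    · simp [Spor.HN.edges, Spor.coxNodes] at hp
    have hr' : List.Forall (fun r => FreeGroup.lift gen r = 1) Spor.HN.extra := by
      simp only [Spor.HN.extra, List.Forall, Spor.HN.x, Spor.HN.y, Spor.HN.z, Spor.HN.t, map_mul,
        map_pow, map_inv, FreeGroup.lift_apply_of, gen]
      have hai := inv_mem ha
      have hbi := inv_mem hb
      refine ⟨?_, ?_, ?_, ?_, ?_, ?_, ?_, ?_, ?_, ?_, ?_, ?_, ?_, ?_⟩
      case refine_1 => exact hex _ (pow_mem hb 6) (by rw [map_pow, sb, r1])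
      case refine_2 =>
        exact hex _ (mul_mem (mul_mem (mul_mem (pow_mem ha 2) hb) (pow_mem ha 2)) hbi)
          (by simp only [map_mul, map_inv, map_pow, sa, sb]; exact r2)
      case refine_3 =>
        exact hex _ (pow_mem (mul_mem (mul_mem (mul_mem hai hbi) ha) hb) 3)
          (by simp only [map_mul, map_inv, map_pow, sa, sb]; exact r3)
      case refine_4 =>
        exact hex _ (pow_mem (mul_mem (mul_mem (mul_mem hai (pow_mem hb 2)) ha) (pow_mem hb 3)) 3)
          (by simp only [map_mul, map_inv, map_pow, sa, sb]; exact r4)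
      case refine_5 =>
        exact hex _ (pow_mem (mul_mem ha hb) 8) (by simp only [map_mul, map_pow, sa, sb]; exact r5)
      case refine_6 =>
        exact hex _ (pow_mem (mul_mem (mul_mem (mul_mem ha hb) ha) (pow_mem hb 3)) 4)
          (by simp only [map_mul, map_pow, sa, sb]; exact r6)
      case refine_7 => rw [sq]; exact hcc
      case refine_8 =>
        have h : (c * a) ^ 2 = c * a * c⁻¹ * a := by rw [hcinv', sq]; group
        exact hex _ (h ▸ mul_mem (hD _ ha) ha) (by simp only [map_mul, map_pow, sa, sc]; exact r8)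
      case refine_9 =>
        set w := b * a * b * a * b ^ 2 * a * b⁻¹
        have hw : w ∈ D := by
          simp only [w]
          exact mul_mem (mul_mem (mul_mem (mul_mem (mul_mem (mul_mem hb ha) hb) ha) (pow_mem hb 2)) ha) hbi
        exact hex _ (mul_mem (mul_mem (hD' _ (inv_mem hw)) hw) (inv_mem (pow_mem ha 2)))
          (by simp only [w, map_mul, map_inv, map_pow, sa, sb, sc]; exact r9)
      case refine_10 =>
        set u := b ^ 3 * a * b * a * b
        have hu : u ∈ D := by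
          simp only [u]
          exact mul_mem (mul_mem (mul_mem (mul_mem (pow_mem hb 3) ha) hb) ha) hb
        have h : c * (u⁻¹ * c * u * a) ^ 3 =
            c * u⁻¹ * c⁻¹ * (u * a * u⁻¹) * (c * (u * a * u⁻¹) * c⁻¹) * (u * a) := by
          rw [hcinv']; simp only [pow_succ, pow_zero, one_mul, mul_assoc]
        exact hex _ (h ▸ mul_mem (mul_mem (mul_mem (hD _ (inv_mem hu))
          (mul_mem (mul_mem hu ha) (inv_mem hu))) (hD _ (mul_mem (mul_mem hu ha) (inv_mem hu))))
          (mul_mem hu ha))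
          (by simp only [u, map_mul, map_inv, map_pow, sa, sb, sc]; exact r10)
      case refine_11 => exact hd5
      case refine_12 => exact hdx
      case refine_13 => exact hdb
      case refine_14 => exact hcd
    exact List.forall_iff_forall_mem.1 hr' r hr
  refine ⟨PresentedGroup.toGroup hrel, PresentedGroup.ext fun g => ?_⟩
  rw [MonoidHom.comp_apply, PresentedGroup.toGroup.of, hgen, MonoidHom.id_apply]

end Ext

theorem noStem (p : ℕ) (hp : p.Prime) : Cfsg.Lib.Concrete.NoStem p Spor.HN := by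
  intro E _ _ σ hs hc hcard hle
  obtain ⟨s, hsec⟩ := exists_section hs hc
  have hsσ : ∀ g, σ (s g) = g := fun g => DFunLike.congr_fun hsec g
  have hcomm : commutator E ≤ s.range := by
    rw [_root_.commutator_def, Subgroup.commutator_le]
    intro x _ y _
    have hx : (s (σ x))⁻¹ * x ∈ Subgroup.center E :=
      hc (by rw [MonoidHom.mem_ker, map_mul, map_inv, hsσ, inv_mul_cancel])
    have hy : (s (σ y))⁻¹ * y ∈ Subgroup.center E :=
      hc (by rw [MonoidHom.mem_ker, map_mul, map_inv, hsσ, inv_mul_cancel])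
    obtain ⟨z, hzdef⟩ : ∃ z, z = (s (σ x))⁻¹ * x := ⟨_, rfl⟩
    obtain ⟨z', hzdef'⟩ : ∃ z, z = (s (σ y))⁻¹ * y := ⟨_, rfl⟩
    rw [← hzdef, Subgroup.mem_center_iff] at hx
    rw [← hzdef', Subgroup.mem_center_iff] at hy
    have ex : x = s (σ x) * z := by rw [hzdef]; group
    have ey : y = s (σ y) * z' := by rw [hzdef']; group
    refine ⟨⁅σ x, σ y⁆, ?_⟩
    rw [map_commutatorElement]
    conv_rhs => rw [ex, ey]
    simp only [commutatorElement_def, mul_inv_rev]
    generalize s (σ x) = u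
    generalize s (σ y) = v
    symm
    rw [show u * z * (v * z') * (z⁻¹ * u⁻¹) * (z'⁻¹ * v⁻¹) =
      u * (z * (v * z')) * z⁻¹ * u⁻¹ * z'⁻¹ * v⁻¹ by group, ← hx (v * z')]
    rw [show u * (v * z' * z) * z⁻¹ * u⁻¹ * z'⁻¹ * v⁻¹ = u * v * (z' * u⁻¹) * z'⁻¹ * v⁻¹ by group,
      ← hy u⁻¹]
    group
  have hbot : σ.ker = ⊥ := by
    rw [eq_bot_iff]
    intro z hz
    obtain ⟨g, rfl⟩ := hcomm (hle hz)
    rw [MonoidHom.mem_ker, hsσ] at hz
    rw [Subgroup.mem_bot, hz, map_one]
  rw [hbot, Subgroup.card_bot] at hcard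
  exact hp.ne_one hcard.symm

theorem finite_HN : Finite Spor.HN :=
  Nat.finite_of_card_ne_zero (by rw [Top.card_HN]; norm_num)

theorem multiplier : HasCyclicSchurMultiplier Spor.HN 1 :=
  haveI := finite_HN
  Cfsg.Lib.Concrete.hasTrivialMultiplier noStem

end Cfsg.Lib.HN
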