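import Cfsg.Agent.Lib.HN.Upper

/-!
# A transformation of a union of coset spaces from double coset data
-/

set_option autoImplicit false

namespace Cfsg.Lib.HN

open Cfsg.Lib.CosetEnum (Tab force force_eq digits B)

/-- The data of one double coset. -/
structure CRec where
  /-- The coset space. -/
  j : ℕ
  /-- The target coset space. -/
  k : ℕ
  /-- The representative point of the class. -/
  q : ℕ
  /-- The representative word. -/
  u : List ℕ
  /-- The target word. -/
  v : List ℕ
  /-- The translation word. -/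
  W : List ℕ
  /-- The class size. -/
  size : ℕ
  /-- The stabiliser generators, as indices of generators of the coset space's subgroup. -/
  gens : List (List ℕ)
  /-- A base of the stabiliser. -/
  chain : List Level
  /-- The translated stabiliser generators in the target subgroup. -/
  wit : List (List ℕ)

/-- The data of all coset spaces. -/
structure OData where
  /-- The generators of the subgroups. -/
  K : List (List (List ℕ))
  /-- The class of each point, one row for each coset space. -/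
  cl : List Tab
  /-- The paths to each point in its class. -/
  path : List Tab
  /-- The double cosets. -/
  recs : List CRec

/-- The empty record. -/
def noRec : CRec := ⟨0, 0, 0, [], [], [], 0, [], [], []⟩

/-- The generators of one subgroup. -/
def OData.kgens (D : OData) (j : ℕ) : List (List ℕ) := D.K.getD j []

/-- The class of a point. -/
noncomputable def OData.cls (D : OData) (j i : ℕ) : ℕ :=
  (D.cl.getD j (.leaf 0)).getP i

/-- The path to a point. -/
noncomputable def OData.tau (D : OData) (j i : ℕ) : List ℕ :=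
  pathWord (D.kgens j) (D.path.getD j (.leaf 0)) i

/-- A double coset by number. -/
def OData.rec' (D : OData) (c : ℕ) : CRec := D.recs.getD c noRec

/-- The classes are unions of orbits, reached by the paths, on a range of points. -/
noncomputable def classOK (S : Sys) (D : OData) (j : ℕ) : ℕ → ℕ → Bool
  | 0, _ => true
  | m + 1, i => force i fun i =>
      force (D.cls j i) fun c =>
      Nat.blt c D.recs.length && Nat.beq (D.rec' c).j j &&
      Nat.beq (twalk S.P (winv (D.tau j i)) (D.rec' c).q) i &&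
      (D.kgens j).all (fun g => Nat.beq (D.cls j (twalk S.P (winv g) i)) c) &&
      classOK S D j m (i + 1)

/-- The number of points of a class among the first ones. -/
noncomputable def classCount (D : OData) (j c : ℕ) : ℕ → ℕ
  | 0 => 0
  | i + 1 => (cond (Nat.beq (D.cls j i) c) 1 0) + classCount D j c i

/-- One double coset is correct. -/
noncomputable def recOK (S : Sys) (D : OData) (n : ℕ) (card : List ℕ) (c : ℕ) : Bool :=
  let r := D.rec' c
  Nat.blt r.j D.K.length && Nat.blt r.k D.K.length && Nat.blt r.q n &&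
  Nat.beq (D.cls r.j r.q) c && Nat.beq (twalk S.P r.u 0) r.q && lettersIn S.S r.u &&
  eqW S r.W (winv r.u ++ r.v) &&
  Nat.beq (classCount D r.j c n) r.size &&
  baseOK S.P n S.S r.chain && Nat.beq (baseSize r.chain * r.size) (card.getD r.j 0) &&
  r.chain.all (fun L => L.U.all fun u => r.gens.any fun g =>
    Cfsg.Lib.CosetEnum.beqW u (wprod (D.kgens r.j) g)) &&
  r.gens.all (fun g => Nat.beq (twalk S.P (winv (wprod (D.kgens r.j) g)) r.q) r.q) &&
  Nat.beq r.wit.length r.gens.length &&
  (List.range r.gens.length).all fun i =>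
    eqW S (winv r.W ++ (wprod (D.kgens r.j) (r.gens.getD i []) ++ r.W))
      (wprod (D.kgens r.k) (r.wit.getD i []))

/-- All checks on the data. -/
structure OData.Valid (D : OData) (S : Sys) (n : ℕ) (card : List ℕ) : Prop where
  letters : D.K.all (fun U => U.all (lettersIn S.S)) = true
  classes : ∀ j < D.K.length, classOK S D j n 0 = true
  recs : ∀ c < D.recs.length, recOK S D n card c = true

variable {P : Type} [Group P] [Finite P] {S : Sys} {x : ℕ → P} {n : ℕ}
  {ψ : P →* Equiv.Perm (Fin n)} {D : OData} {card : List ℕ}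

theorem classOK_get {j : ℕ} : ∀ {m i : ℕ}, classOK S D j m i = true → ∀ p, i ≤ p → p < i + m →
      D.cls j p < D.recs.length ∧ (D.rec' (D.cls j p)).j = j ∧
      twalk S.P (winv (D.tau j p)) (D.rec' (D.cls j p)).q = p ∧
      ∀ g ∈ D.kgens j, D.cls j (twalk S.P (winv g) p) = D.cls j p
  | 0, i, _, p, h1, h2 => by omega
  | m + 1, i, hc, p, h1, h2 => by
    rw [classOK, force_eq, force_eq, Bool.and_eq_true] at hc
    rcases Nat.eq_or_lt_of_le h1 with h | h
    · subst h
      have h3 := hc.1
      simp only [Bool.and_eq_true, Nat.blt_eq, Nat.beq_eq, List.all_eq_true, and_assoc] at h3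
      exact h3
    · exact classOK_get hc.2 p h (by omega)

theorem classCount_eq (j c : ℕ) : ∀ m : ℕ,
    classCount D j c m = ((Finset.range m).filter fun i => D.cls j i = c).card
  | 0 => by simp [classCount]
  | m + 1 => by
    rw [classCount, Finset.range_add_one, Finset.filter_insert, classCount_eq j c m]
    by_cases h : D.cls j m = c
    · simp [h, Finset.card_insert_of_notMem, add_comm]
    · simp [h, Nat.beq_eq]
      cases hb : Nat.beq (D.cls j m) c
      · simp
      · exact absurd (Nat.eq_of_beq_eq_true hb) h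

/-- The subgroup of a coset space. -/
def OData.Kj (D : OData) (x : ℕ → P) (j : Fin D.K.length) : Subgroup P :=
  wordSub x (D.kgens j.1)

/-- The union of the coset spaces. -/
abbrev OData.Omega (D : OData) (x : ℕ → P) : Type :=
  (j : Fin D.K.length) × (P ⧸ D.Kj x j)

/-- The coset of a state. -/
def OData.mk' (D : OData) (x : ℕ → P) (j : Fin D.K.length) (a : P) : D.Omega x :=
  ⟨j, (a : P ⧸ D.Kj x j)⟩

theorem OData.mk'_eq {j : Fin D.K.length} {a b : P} (h : a⁻¹ * b ∈ D.Kj x j) :
    D.mk' x j a = D.mk' x j b := by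
  rw [OData.mk', OData.mk', QuotientGroup.eq.2 h]

theorem kgens_letters (hD : D.Valid S n card) (j : ℕ) : ∀ u ∈ D.kgens j, lettersIn S.S u = true := by
  intro u hu
  unfold OData.kgens at hu
  rcases Nat.lt_or_ge j D.K.length with h | h
  · rw [List.getD_eq_getElem _ _ h] at hu
    exact List.all_eq_true.1 (List.all_eq_true.1 hD.letters _ (List.getElem_mem h)) u hu
  · simp [List.getD_eq_getElem?_getD, List.getElem?_eq_none h] at hu

theorem tau_mem (M : Model S x n ψ) (j : Fin D.K.length) (i : ℕ) :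
    val x (D.tau j.1 i) ∈ D.Kj x j :=
  wprod_mem M.inv (fun _ hu => val_mem_wordSub hu) _

theorem tau_apply (M : Model S x n ψ) (hD : D.Valid S n card) (j : Fin D.K.length) (i : Fin n)
    (q : Fin n) (hq : q.1 = (D.rec' (D.cls j.1 i.1)).q) : ψ (val x (D.tau j.1 i.1)) q = i := by
  refine Fin.ext ?_
  show (ψ (val x (wprod (D.kgens j.1) (digits 400 ((D.path.getD j.1 (.leaf 0)).get i.1)))) q).1 = _
  rw [M.eval _ (wprod_letters M.symS (kgens_letters hD j.1) _) q, hq]
  exact (classOK_get (hD.classes j.1 j.2) i.1 (Nat.zero_le _) (by omega)).2.2.1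

theorem cls_invariant (M : Model S x n ψ) (hD : D.Valid S n card) (j : Fin D.K.length) {a : P}
    (ha : a ∈ D.Kj x j) (i : Fin n) : D.cls j.1 (ψ a i).1 = D.cls j.1 i.1 := by
  unfold OData.Kj wordSub at ha
  induction ha using Subgroup.closure_induction generalizing i with
  | one => simp
  | mem y hy =>
    obtain ⟨u, hu, rfl⟩ := hy
    rw [M.eval _ (kgens_letters hD j.1 u hu) i]
    exact (classOK_get (hD.classes j.1 j.2) i.1 (Nat.zero_le _) (by omega)).2.2.2 u hu
  | mul y z _ _ hy hz => rw [map_mul, Equiv.Perm.mul_apply, hy, hz]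
  | inv y _ hy =>
    have := hy (ψ y⁻¹ i)
    rw [← Equiv.Perm.mul_apply, ← map_mul, mul_inv_cancel, map_one, Equiv.Perm.one_apply] at this
    exact this.symm

theorem rec_facts (hD : D.Valid S n card) {c : ℕ} (hc : c < D.recs.length) :
    (D.rec' c).j < D.K.length ∧ (D.rec' c).k < D.K.length ∧ (D.rec' c).q < n ∧
    D.cls (D.rec' c).j (D.rec' c).q = c ∧ twalk S.P (D.rec' c).u 0 = (D.rec' c).q ∧
    lettersIn S.S (D.rec' c).u = true ∧ eqW S (D.rec' c).W (winv (D.rec' c).u ++ (D.rec' c).v) = true := by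
  have h := hD.recs c hc
  simp only [recOK, Bool.and_eq_true, Nat.blt_eq, Nat.beq_eq] at h
  obtain ⟨⟨⟨⟨⟨⟨⟨⟨⟨⟨⟨⟨⟨h1, h2⟩, h3⟩, h4⟩, h5⟩, h6⟩, h7⟩, -⟩, -⟩, -⟩, -⟩, -⟩, -⟩, -⟩ := h
  exact ⟨h1, h2, h3, h4, h5, h6, h7⟩

/-- The stabiliser of the representative point translates into the target subgroup. -/
theorem stab_translate (M : Model S x n ψ) (hp : ∃ R, permOK S.P n S.S R n 0 = true)
    (hD : D.Valid S n card) (hcard : ∀ j : Fin D.K.length, Nat.card (D.Kj x j) ≤ card.getD j.1 0)
    {c : ℕ} (hc : c < D.recs.length) {a : P} (j k : Fin D.K.length) (hj : j.1 = (D.rec' c).j)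
    (hk : k.1 = (D.rec' c).k) (ha : a ∈ D.Kj x j) (q : Fin n) (hq : q.1 = (D.rec' c).q)
    (haq : ψ a q = q) :
    (val x (D.rec' c).W)⁻¹ * a * val x (D.rec' c).W ∈ D.Kj x k := by
  obtain ⟨R, hp⟩ := hp
  have h := hD.recs c hc
  simp only [recOK, Bool.and_eq_true, Nat.blt_eq, Nat.beq_eq, List.all_eq_true, List.any_eq_true,
    List.mem_range] at h
  obtain ⟨⟨⟨⟨⟨⟨⟨⟨⟨⟨⟨⟨⟨-, -⟩, -⟩, hclsq⟩, -⟩, -⟩, -⟩, hsize⟩, hbase⟩, hbs⟩, hsub⟩, hfix⟩, hlen⟩,
    hwit⟩ := h
  set r := D.rec' c
  set A := D.Kj x j
  set gensW := r.gens.map (wprod (D.kgens j.1))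
  set N := wordSub x gensW
  letI : MulAction P (Fin n) := MulAction.compHom _ ψ
  have hgl : ∀ g : List ℕ, lettersIn S.S (wprod (D.kgens j.1) g) = true := fun g =>
    wprod_letters M.symS (kgens_letters hD j.1) g
  have hNle : N ≤ A ⊓ MulAction.stabilizer P q := by
    refine (Subgroup.closure_le _).2 ?_
    rintro _ ⟨u, hu, rfl⟩
    obtain ⟨g, hg, rfl⟩ := List.mem_map.1 hu
    refine ⟨wprod_mem M.inv (fun _ hv => val_mem_wordSub hv) _, Fin.ext ?_⟩
    show (ψ (val x _) q).1 = q.1
    rw [M.eval _ (hgl g) q, hq, hj]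
    exact hfix g hg
  have hNcard : baseSize r.chain ≤ Nat.card N := by
    have h1 := base_le hp M.symS hbase (N.map ψ) (fun L hL u hu => by
      obtain ⟨g, hg, hgu⟩ := hsub L hL u hu
      rw [beqW_eq hgu, ← hj]
      refine ⟨val x (wprod (D.kgens j.1) g), val_mem_wordSub (List.mem_map_of_mem hg), ?_⟩
      refine Equiv.ext fun i => Fin.ext ?_
      rw [M.eval _ (hgl g) i, val_pperm hp M.symS _ (mem_of_lettersIn (hgl g))])
    refine le_trans ?_ (Nat.card_le_card_of_surjective _ (ψ.subgroupMap_surjective N))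
    exact le_trans (Nat.le_mul_of_pos_right _ Nat.card_pos) h1
  have horb : (MulAction.orbit A q).ncard = r.size := by
    rw [← hsize, classCount_eq, ← Set.ncard_coe_finset,
      ← Set.ncard_image_of_injective _ Fin.val_injective]
    congr 1
    ext i
    simp only [Set.mem_image, Finset.coe_filter, Finset.mem_range, Set.mem_ofPred_eq]
    constructor
    · rintro ⟨_, ⟨⟨b, hb⟩, rfl⟩, rfl⟩
      refine ⟨(ψ b q).2, ?_⟩
      rw [show r.j = j.1 from hj.symm]
      show D.cls j.1 (ψ b q).1 = c
      rw [cls_invariant M hD j hb, hq, hj]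
      exact hclsq
    · rintro ⟨hi, hci⟩
      rw [← hj] at hci
      refine ⟨⟨i, hi⟩, ⟨⟨_, tau_mem M j i⟩, ?_⟩, rfl⟩
      exact tau_apply M hD j ⟨i, hi⟩ q (by rw [hq, hci])
  have hstab : Nat.card (MulAction.stabilizer A q) * r.size ≤ baseSize r.chain * r.size := by
    rw [← horb, ← MulAction.index_stabilizer, Subgroup.card_mul_index, MulAction.index_stabilizer, horb,
      hbs, ← hj]
    exact hcard j
  have hpos : 0 < r.size := by
    rw [← horb]
    exact (Set.ncard_pos (Set.toFinite _)).2 ⟨_, MulAction.mem_orbit_self _⟩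
  have heq : Nat.card (MulAction.stabilizer A q) =
      Nat.card (A ⊓ MulAction.stabilizer P q : Subgroup P) := Nat.card_congr
    { toFun := fun b => ⟨b.1.1, b.1.2, b.2⟩
      invFun := fun b => ⟨⟨b.1, b.2.1⟩, b.2.2⟩ }
  have hN : N = A ⊓ MulAction.stabilizer P q := Subgroup.eq_of_le_of_card_ge hNle
    (by rw [← heq]; exact (Nat.le_of_mul_le_mul_right hstab hpos).trans hNcard)
  have haN : a ∈ N := by rw [hN]; exact ⟨ha, haq⟩
  clear ha haq
  induction haN using Subgroup.closure_induction with
  | one => simp [one_mem]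
  | mem y hy =>
    obtain ⟨u, hu, rfl⟩ := hy
    obtain ⟨i, hi, rfl⟩ := List.getElem_of_mem hu
    rw [List.length_map] at hi
    have h1 := M.eq _ _ (hwit i hi)
    rw [val_append, val_append, val_winv M.inv, List.getD_eq_getElem _ _ hi] at h1
    simp only [gensW, List.getElem_map, hj, mul_assoc]
    rw [h1]
    refine wprod_mem M.inv (fun _ hv => ?_) _
    rw [OData.Kj, hk]
    exact val_mem_wordSub hv
  | mul y z _ _ hy hz =>
    have := mul_mem hy hz
    convert this using 1
    group
  | inv y _ hy =>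
    have := inv_mem hy
    convert this using 1
    group

/-- The hypotheses for the transformation. -/
structure OHyp (D : OData) (S : Sys) (x : ℕ → P) (n : ℕ) (ψ : P →* Equiv.Perm (Fin n))
    (card : List ℕ) : Prop where
  model : Model S x n ψ
  perm : ∃ R, permOK S.P n S.S R n 0 = true
  valid : D.Valid S n card
  cardK : ∀ j : Fin D.K.length, Nat.card (D.Kj x j) ≤ card.getD j.1 0

variable (H : OHyp D S x n ψ card) (o : Fin n) (ho : o.1 = 0)

include H in
theorem cls_lt (j : Fin D.K.length) (i : Fin n) : D.cls j.1 i.1 < D.recs.length :=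
  (classOK_get (H.valid.classes j.1 j.2) i.1 (Nat.zero_le _) (by omega)).1

/-- The image of a coset representative. -/
noncomputable def timg (H : OHyp D S x n ψ card) (o : Fin n) (j : Fin D.K.length) (a : P) :
    D.Omega x :=
  D.mk' x ⟨(D.rec' (D.cls j.1 (ψ a⁻¹ o).1)).k, (rec_facts H.valid (cls_lt H j _)).2.1⟩
    (a * val x (D.tau j.1 (ψ a⁻¹ o).1) * val x (D.rec' (D.cls j.1 (ψ a⁻¹ o).1)).W)

include H in
theorem timg_congr (j : Fin D.K.length) (a g : P) (hg : g ∈ D.Kj x j) :
    timg H o j a = timg H o j (a * g) := by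
  unfold timg
  set i := ψ a⁻¹ o
  set i' := ψ (a * g)⁻¹ o
  have hi : ψ g i' = i := by
    simp only [i, i', ← Equiv.Perm.mul_apply, ← map_mul, mul_inv_rev, mul_inv_cancel_left]
  have hc : D.cls j.1 i'.1 = D.cls j.1 i.1 := by
    rw [← hi, cls_invariant H.model H.valid j hg]
  have hk : (⟨(D.rec' (D.cls j.1 i'.1)).k, (rec_facts H.valid (cls_lt H j i')).2.1⟩ :
      Fin D.K.length) = ⟨(D.rec' (D.cls j.1 i.1)).k, (rec_facts H.valid (cls_lt H j i)).2.1⟩ :=
    Fin.ext (by show (D.rec' (D.cls j.1 i'.1)).k = _; rw [hc])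
  rw [hk, hc]
  refine OData.mk'_eq ?_
  set q : Fin n := ⟨(D.rec' (D.cls j.1 i.1)).q, (rec_facts H.valid (cls_lt H j i)).2.2.1⟩
  have h1 := tau_apply H.model H.valid j i q rfl
  have h2 := tau_apply H.model H.valid j i' q (by rw [hc])
  have h3 := stab_translate H.model H.perm H.valid H.cardK (cls_lt H j i) (a :=
      (val x (D.tau j.1 i.1))⁻¹ * g * val x (D.tau j.1 i'.1)) j
    ⟨_, (rec_facts H.valid (cls_lt H j i)).2.1⟩
    ((classOK_get (H.valid.classes j.1 j.2) i.1 (Nat.zero_le _) (by omega)).2.1).symm rfl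
    (mul_mem (mul_mem (inv_mem (tau_mem H.model j _)) hg) (tau_mem H.model j _)) q rfl (by
      rw [map_mul, map_mul, map_inv, Equiv.Perm.mul_apply, Equiv.Perm.mul_apply, h2, hi,
        Equiv.Perm.inv_eq_iff_eq, h1])
  convert h3 using 1
  simp only [mul_inv_rev, mul_assoc, inv_mul_cancel_left, i, i']

/-- The transformation. -/
noncomputable def tfun (H : OHyp D S x n ψ card) (o : Fin n) (w : D.Omega x) : D.Omega x :=
  Quotient.liftOn' w.2 (timg H o w.1) fun a b hab => by
    rw [QuotientGroup.leftRel_apply] at hab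
    have := timg_congr H o w.1 a _ hab
    rwa [mul_inv_cancel_left] at this

theorem tfun_mk (j : Fin D.K.length) (a : P) : tfun H o (D.mk' x j a) = timg H o j a := rfl

/-- Left translation on the union. -/
def osmul (d : P) (w : D.Omega x) : D.Omega x := ⟨w.1, d • w.2⟩

theorem osmul_mk (d : P) (j : Fin D.K.length) (a : P) :
    osmul d (D.mk' x j a) = D.mk' x j (d * a) := rfl

theorem exists_mk (w : D.Omega x) : ∃ a, w = D.mk' x w.1 a := by
  obtain ⟨j, q⟩ := w
  obtain ⟨a, rfl⟩ := QuotientGroup.mk_surjective q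
  exact ⟨a, rfl⟩

theorem tfun_equiv {d : P} (hd : ψ d o = o) (w : D.Omega x) :
    tfun H o (osmul d w) = osmul d (tfun H o w) := by
  obtain ⟨j, q⟩ := w
  obtain ⟨a, rfl⟩ := QuotientGroup.mk_surjective q
  show tfun H o (D.mk' x j (d * a)) = osmul d (tfun H o (D.mk' x j a))
  rw [tfun_mk, tfun_mk]
  unfold timg
  have hi : ψ (d * a)⁻¹ o = ψ a⁻¹ o := by
    rw [mul_inv_rev, map_mul, Equiv.Perm.mul_apply, map_inv ψ d,
      show (ψ d)⁻¹ o = o from Equiv.Perm.inv_eq_iff_eq.2 hd.symm]
  simp only [hi, osmul_mk, mul_assoc]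

include H ho in
/-- Every point is a translate of a representative by an element fixing the base point. -/
theorem exists_decomp (j : Fin D.K.length) (a : P) : ∃ c < D.recs.length, ∃ d : P, ψ d o = o ∧
    ∃ hj : (D.rec' c).j < D.K.length,
      D.mk' x j a = osmul d (D.mk' x ⟨(D.rec' c).j, hj⟩ (val x (D.rec' c).u)) := by
  set i := ψ a⁻¹ o
  obtain ⟨hjlt, -, hq, -, hu, hul, -⟩ := rec_facts H.valid (cls_lt H j i)
  have hje : (⟨_, hjlt⟩ : Fin D.K.length) = j :=
    Fin.ext (classOK_get (H.valid.classes j.1 j.2) i.1 (Nat.zero_le _) (by omega)).2.1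
  set q : Fin n := ⟨_, hq⟩
  have h1 := tau_apply H.model H.valid j i q rfl
  set u := val x (D.rec' (D.cls j.1 i.1)).u
  have h2 : ψ u⁻¹ o = q := by
    rw [← val_winv H.model.inv]
    refine Fin.ext ?_
    rw [H.model.eval _ (lettersIn_winv H.model.symS hul) o,
      winv_winv H.model.symS (mem_of_lettersIn hul), ho]
    exact hu
  refine ⟨_, cls_lt H j i, a * val x (D.tau j.1 i.1) * u⁻¹, ?_, hjlt, ?_⟩
  · rw [map_mul, map_mul, Equiv.Perm.mul_apply, Equiv.Perm.mul_apply, h2, h1]
    simp [i]
  · rw [hje, osmul_mk, inv_mul_cancel_right]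
    exact OData.mk'_eq (by simpa using tau_mem H.model j i.1)

end Cfsg.Lib.HN
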