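import Cfsg.Agent.Lib.HN.Flat

/-! Splitting a check of node definitions. -/

set_option autoImplicit false

namespace Cfsg.Lib.HN

open Cfsg.Lib.CosetEnum (Tab force_eq)

theorem defsOK_append {F : Tab} : ∀ {m k i : ℕ},
    defsOK F m i = true → defsOK F k (i + m) = true → defsOK F (m + k) i = true
  | 0, k, i, _, h2 => by simpa using h2
  | m + 1, k, i, h1, h2 => by
    rw [Nat.succ_add]
    simp only [defsOK, force_eq, Bool.and_eq_true] at h1 ⊢
    exact ⟨h1.1, defsOK_append h1.2 (by rwa [Nat.add_assoc, Nat.add_comm 1 m])⟩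

end Cfsg.Lib.HN
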