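import Cfsg.Agent.Lib.HN.TopRels

/-!
# The index of the subgroup of the first three generators and the order of the presented group
-/

set_option autoImplicit false
set_option maxRecDepth 100000

namespace Cfsg.Lib.HN.Top

open Data

/-- Left translation as a homomorphism. -/
noncomputable def smHom : PS →* Equiv.Perm Ω where
  toFun d :=
    { toFun := sm d
      invFun := sm d⁻¹
      left_inv := fun w => by rw [← sm_mul, inv_mul_cancel, sm_one]
      right_inv := fun w => by rw [← sm_mul, mul_inv_cancel, sm_one] }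
  map_one' := Equiv.ext sm_one
  map_mul' a b := Equiv.ext (sm_mul a b)

/-- The transformation as a permutation. -/
noncomputable def tPerm : Equiv.Perm Ω where
  toFun := tF
  invFun w := tF (tF (tF (tF w)))
  left_inv := t5
  right_inv := t5

/-- The letters on the points. -/
noncomputable def perm4 : Spor.HN.Gen → Equiv.Perm Ω
  | .x => smHom (wgen relP 0)
  | .y => smHom (wgen relP 1)
  | .z => smHom (wgen relP 2)
  | .t => tPerm

theorem lift_rel : ∀ r ∈ Spor.coxRelators Spor.HN.edges ∪ {r | r ∈ Spor.HN.extra},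
    FreeGroup.lift perm4 r = 1 := by
  rintro r (⟨a, ha, -⟩ | hr)
  · simp [Spor.HN.edges, Spor.coxNodes] at ha
  set a := wgen relP 0
  set b := wgen relP 1
  set c := wgen relP 2
  have hxi : LettersInv (wgen relP) := wgen_inv relP
  have i4 : wgen relP 4 = a⁻¹ := rfl
  have i5 : wgen relP 5 = b⁻¹ := rfl
  have hcc : c⁻¹ = c := (hxi 2).symm
  have h := shift_eq_one hxi (R0 := relP) (R := [[1, 1, 1, 1, 1, 1], [0, 0, 1, 0, 0, 5],
    [4, 5, 0, 1, 4, 5, 0, 1, 4, 5, 0, 1],
    [4, 1, 1, 0, 1, 1, 1, 4, 1, 1, 0, 1, 1, 1, 4, 1, 1, 0, 1, 1, 1],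
    [0, 1, 0, 1, 0, 1, 0, 1, 0, 1, 0, 1, 0, 1, 0, 1],
    [0, 1, 0, 1, 1, 1, 0, 1, 0, 1, 1, 1, 0, 1, 0, 1, 1, 1, 0, 1, 0, 1, 1, 1],
    [2, 2], [2, 0, 2, 0],
    [2, 1, 4, 5, 5, 4, 5, 4, 5, 2, 1, 0, 1, 0, 1, 1, 0, 5, 4, 4],
    [2, 5, 4, 5, 4, 5, 5, 5, 2, 1, 1, 1, 0, 1, 0, 1, 0, 5, 4, 5, 4, 5, 5, 5, 2, 1, 1, 1, 0, 1, 0, 1,
      0, 5, 4, 5, 4, 5, 5, 5, 2, 1, 1, 1, 0, 1, 0, 1, 0]]) (by decide +kernel) (wgen_rel relP)
  simp only [List.mem_cons, forall_eq_or_imp, List.not_mem_nil, false_implies, imp_true_iff,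
    and_true, val_cons, val_nil, mul_one, i4, i5] at h
  obtain ⟨h1, h2, h3, h4, h5, h6, h7, h8, h9, h10⟩ := h
  have hP : ∀ e : PS, e = 1 → smHom e = 1 := fun e he => by rw [he, map_one]
  have hr' : List.Forall (fun r => FreeGroup.lift perm4 r = 1) Spor.HN.extra := by
    simp only [Spor.HN.extra, List.Forall, Spor.HN.x, Spor.HN.y, Spor.HN.z, Spor.HN.t, map_mul,
      map_pow, map_inv, FreeGroup.lift_apply_of, perm4]
    refine ⟨?_, ?_, ?_, ?_, ?_, ?_, ?_, ?_, ?_, ?_, ?_, ?_, ?_, ?_⟩
    case refine_11 =>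
      refine Equiv.ext fun w => ?_
      simp only [pow_succ, pow_zero, one_mul, Equiv.Perm.mul_apply, Equiv.Perm.one_apply]
      exact t5 w
    case refine_12 =>
      refine Equiv.ext fun w => ?_
      simp only [pow_two, Equiv.Perm.mul_apply, Equiv.Perm.one_apply, ← map_inv]
      exact xrel w
    case refine_13 =>
      have : tPerm * smHom b = smHom b * tPerm := Equiv.ext fun w =>
        tF_sm (d := b) (Fin.ext (by
          have := eval_zero (w := [1]) (by decide +kernel)
          rw [val_cons, val_nil, mul_one] at this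
          rw [this]
          decide +kernel)) w
      rw [mul_assoc (tPerm⁻¹ * (smHom (wgen relP 1))⁻¹), this]
      simp only [b]
      group
    case refine_14 =>
      refine Equiv.ext fun w => ?_
      simp only [pow_succ, pow_zero, one_mul, Equiv.Perm.mul_apply, Equiv.Perm.one_apply]
      exact braid w
    all_goals
      simp only [← map_mul, ← map_pow, ← map_inv]
      refine hP _ ?_
      simp only [a, b, c] at h1 h2 h3 h4 h5 h6 h7 h8 h9 h10 hcc
      simp only [pow_succ, pow_zero, one_mul, mul_inv_rev, inv_inv, mul_assoc, hcc] at *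
      assumption
  exact List.forall_iff_forall_mem.1 hr' r hr

/-- The action of the presented group. -/
noncomputable def act : Spor.HN →* Equiv.Perm Ω := PresentedGroup.toGroup lift_rel

theorem act_of (g : Spor.HN.Gen) : act (PresentedGroup.of g) = perm4 g :=
  PresentedGroup.toGroup.of lift_rel

theorem act_φP : act.comp φP = smHom := by
  refine PresentedGroup.ext fun i => ?_
  have hg : PresentedGroup.of i = wgen relP i.1 := by fin_cases i <;> rfl
  rw [hg, MonoidHom.comp_apply]
  have h : ∀ g ∈ [0, 1, 2], φP (wgen relP g) = hx g := fun g hg' => by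
    have := φP_val (w := [g]) (fun a ha => by
      simp only [List.mem_cons, List.not_mem_nil, or_false] at ha hg' ⊢; omega)
    simpa using this
  fin_cases i
  · rw [h 0 (by simp)]; exact act_of _
  · rw [h 1 (by simp)]; exact act_of _
  · rw [h 2 (by simp)]; exact act_of _
  · have h3 : wgen relP 3 = 1 := by
      have := wgen_rel relP [3] (by simp)
      simpa using this
    show act (φP (wgen relP 3)) = smHom (wgen relP 3)
    rw [h3, map_one, map_one, map_one]

/-- The subgroup of the first three generators. -/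
def Hsub : Subgroup Spor.HN :=
  (Subgroup.closure ({Spor.HN.x, Spor.HN.y, Spor.HN.z} : Set (FreeGroup Spor.HN.Gen))).map
    (PresentedGroup.mk (Spor.coxRelators Spor.HN.edges ∪ {r | r ∈ Spor.HN.extra}))

theorem Hsub_eq : Hsub = φP.range := by
  have h : ∀ g ∈ [0, 1, 2], φP (wgen relP g) = hx g := fun g hg' => by
    have := φP_val (w := [g]) (fun a ha => by
      simp only [List.mem_cons, List.not_mem_nil, or_false] at ha hg' ⊢; omega)
    simpa using this
  rw [Hsub, MonoidHom.map_closure]
  refine le_antisymm ((Subgroup.closure_le _).2 ?_) ?_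
  · rintro _ ⟨r, (rfl | rfl | rfl), rfl⟩
    · exact ⟨_, h 0 (by simp)⟩
    · exact ⟨_, h 1 (by simp)⟩
    · exact ⟨_, h 2 (by simp)⟩
  · rw [MonoidHom.range_eq_map, ← wgen_closure relP (S := [0, 1, 2]) ?_, MonoidHom.map_closure,
      Subgroup.closure_le]
    · rintro _ ⟨_, ⟨g, hg, rfl⟩, rfl⟩
      rw [h g hg]
      simp only [Set.mem_ofPred_eq, List.mem_cons, List.not_mem_nil, or_false] at hg
      rcases hg with rfl | rfl | rfl
      · exact Subgroup.subset_closure ⟨Spor.HN.x, by simp, rfl⟩
      · exact Subgroup.subset_closure ⟨Spor.HN.y, by simp, rfl⟩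
      · exact Subgroup.subset_closure ⟨Spor.HN.z, by simp, rfl⟩
    · intro i hi
      interval_cases i
      · exact Or.inl (by simp)
      · exact Or.inl (by simp)
      · exact Or.inl (by simp)
      · refine Or.inr ?_
        have := wgen_rel relP [3] (by simp)
        simpa using this

/-- The cosets of the subgroup. -/
abbrev Cos : Type := Spor.HN ⧸ Hsub

/-- The base coset. -/
def c0 : Cos := ((1 : Spor.HN) : Cos)

theorem smul_c0 (g : Spor.HN) : g • c0 = (g : Cos) := by
  show ((g * 1 : Spor.HN) : Cos) = _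
  rw [mul_one]

theorem φP_fix (a : PS) : φP a • c0 = c0 := by
  rw [smul_c0, c0, QuotientGroup.eq, mul_one, inv_mem_iff, Hsub_eq]
  exact ⟨a, rfl⟩

theorem val_fix {w : List ℕ} (hw : lettersIn [0, 1, 2, 4, 5] w = true) :
    val hx w • c0 = c0 := by
  rw [← φP_val (mem_of_lettersIn hw)]
  exact φP_fix _

theorem sys_sound : sys.Sound hx where
  inv := hx_inv
  symS := symS_P
  eq := fun a b h => by
    have hl := h
    simp only [eqW, Bool.and_eq_true] at hl
    rw [← φP_val (mem_of_lettersIn hl.1.1), ← φP_val (mem_of_lettersIn hl.1.2), model.eq a b h]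
  twist := fun g hg p hp => by
    obtain ⟨-, -, e1, e2⟩ := hx_t
    simp only [sys, List.mem_cons, List.not_mem_nil, or_false] at hg hp
    obtain ⟨i4, i5, i6⟩ := hx_inv'
    rcases hg with rfl | rfl <;> rcases hp with rfl | rfl <;>
      simp only [val_cons, val_nil, mul_one, i4, i6]
    · exact e1.eq
    · simpa [mul_assoc] using e2.eq
    · exact e1.inv_left.eq
    · simpa [mul_assoc] using e2.inv_left.eq
  twist' := fun g hg p hp => by
    obtain ⟨-, -, e1, e2⟩ := hx_t
    simp only [sys, List.mem_cons, List.not_mem_nil, or_false] at hg hp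
    obtain ⟨i4, i5, i6⟩ := hx_inv'
    rcases hg with rfl | rfl <;> rcases hp with rfl | rfl <;>
      simp only [linv, val_cons, val_nil, mul_one, i4, i6]
    · exact e1.inv_left.eq
    · simpa [mul_assoc] using e2.inv_left.eq
    · exact e1.eq
    · simpa [mul_assoc] using e2.eq
  rel := by
    obtain ⟨-, -, -, -, -, -, hc, hca, -, -, d5, hxt, -, hzt⟩ := hn_basic
    obtain ⟨e1, e2, -, -⟩ := hx_t
    obtain ⟨i4, i5, i6⟩ := hx_inv'
    obtain ⟨a4, -, hac⟩ := hx_sq
    have hcc : (hx 2)⁻¹ = hx 2 := inv_eq_of_mul_eq_one_right (by rwa [← sq])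
    have hconj : (hx 2 * hx 0 ^ 2 * (hx 3)⁻¹ ^ 2) ^ 3 = 1 := by
      have hxt' : (hx 0)⁻¹ * hx 3 * hx 0 = (hx 3)⁻¹ ^ 2 := by
        rw [inv_pow, eq_inv_iff_mul_eq_one]
        exact hxt
      have hxz : (hx 0)⁻¹ * hx 2 * hx 0 = hx 2 * hx 0 ^ 2 := by
        have h1 : (hx 0)⁻¹ = hx 2 * hx 0 * hx 2 := by
          refine inv_eq_of_mul_eq_one_left ?_
          rw [← hca, pow_two, mul_assoc, mul_assoc]
        rw [h1, mul_assoc (hx 2 * hx 0), ← sq, hc, mul_one, sq, mul_assoc]
      rw [show hx 2 * hx 0 ^ 2 * (hx 3)⁻¹ ^ 2 =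
        (hx 0)⁻¹ * (hx 2 * hx 3) * ((hx 0)⁻¹)⁻¹ by rw [← hxz, ← hxt']; group, conj_pow, hzt]
      group
    intro r hr
    simp only [sys, List.mem_cons, List.not_mem_nil, or_false] at hr
    rcases hr with rfl | rfl | rfl | rfl | rfl | rfl <;>
      simp only [val_cons, val_nil, mul_one, i4, i6]
    · rw [← d5]; simp [pow_succ, mul_assoc]
    · rw [← hzt]; simp [pow_succ, mul_assoc]
    · rw [← hxt]; simp [pow_succ, mul_assoc]
    · have : hx 0 * hx 3 * (hx 0)⁻¹ * ((hx 3)⁻¹ * (hx 3)⁻¹) = 1 := by
        rw [e1, pow_two]; group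
      simpa [mul_assoc] using this
    · have : hx 0 ^ 2 * hx 3 * (hx 0 ^ 2)⁻¹ * hx 3 = 1 := by rw [e2, inv_mul_cancel]
      simpa [pow_two, mul_assoc] using this
    · simpa [pow_succ, mul_assoc] using hconj

theorem derived : (∀ f ∈ facts, f.OK sys hx) ∧ ∀ p ∈ pairs, p.OK sys hx := by
  have h := run_ok
  unfold runOK at h
  split at h
  · next F P hrun =>
    simp only [Bool.and_eq_true] at h
    have hT : ∀ g ∈ sys.T, linv (linv g) = g := by decide +kernel
    obtain ⟨h1, h2⟩ := runEntries_sound sys_sound hT entries (by simp) (by simp) hrun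
    rw [eqFacts_eq h.1] at h1
    rw [eqPairs_eq h.2] at h2
    exact ⟨h1, h2⟩
  · simp at h

/-- The coset of a representative. -/
noncomputable def rhoPt (j : ℕ) : Cos := val hx (sys.ρ.getD j []) • c0

theorem gens_fix (j : Fin odata.K.length) {a : PS} (ha : a ∈ odata.Kj (wgen relP) j) :
    φP a • rhoPt j.1 = rhoPt j.1 := by
  unfold OData.Kj wordSub at ha
  induction ha using Subgroup.closure_induction with
  | one => simp
  | mem y hy =>
    obtain ⟨u, hu, rfl⟩ := hy
    rcases Nat.eq_zero_or_pos j.1 with h0 | h0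
    · rw [rhoPt, h0, show sys.ρ.getD 0 [] = [] by decide +kernel, val_nil, one_smul]
      exact φP_fix _
    have hg : (List.range 9).all (fun j => Nat.beq j 0 || gensInPairs odata pairs j) = true := by
      decide +kernel
    have := List.all_eq_true.1 hg j.1 (List.mem_range.2 (K_length ▸ j.2))
    simp only [Bool.or_eq_true, Nat.beq_eq, show j.1 ≠ 0 by omega, false_or, gensInPairs,
      List.all_eq_true, List.any_eq_true, Bool.and_eq_true] at this
    obtain ⟨p, hp, ⟨hpj, hps⟩, hpσ⟩ := this u hu
    have hok : val hx p.s * val hx (sys.ρ.getD p.j []) =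
        val hx (sys.ρ.getD p.j []) * val hx p.σ := derived.2 p hp
    rw [hpj, beqW_eq hps] at hok
    rw [φP_val (mem_of_lettersIn (kgens_letters odata_valid _ u hu)), rhoPt, smul_smul, hok,
      ← smul_smul, val_fix hpσ]
  | mul y z _ _ hy hz => rw [map_mul, mul_smul, hz, hy]
  | inv y _ hy => rw [map_inv, inv_smul_eq_iff, hy]

theorem commute_stab0 : ∀ d ∈ stab0, Commute (hx 3) (φP d) := by
  refine stab0_induction ?_ ?_ ?_
  · simp
  · intro a b ha hb
    rw [map_mul]
    exact ha.mul_right hb
  · intro u hu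
    rw [φP_val (mem_of_lettersIn (cGens_letters u hu))]
    obtain ⟨-, -, e1, e2⟩ := hx_t
    simp only [List.mem_cons, List.not_mem_nil, or_false] at hu
    rcases hu with rfl | rfl <;> simp only [val_cons, val_nil, mul_one, hx_inv'.1]
    · exact e1
    · simpa [mul_assoc] using e2

theorem fact_step {c : ℕ} (hc : c < 101) :
    hx 3 • φP (val (wgen relP) (odata.rec' c).u) • rhoPt (odata.rec' c).j =
      φP (val (wgen relP) (odata.rec' c).v) • rhoPt (odata.rec' c).k := by
  have h := (rec_ok hc).2.1
  have hrec := rec_facts odata_valid (recs_length.symm ▸ hc)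
  simp only [factRecOK] at h
  split at h
  · next f hf =>
    set g := f.dir (factOf.getD c (facts.length, false)).2
    simp only [Bool.and_eq_true, Nat.beq_eq] at h
    obtain ⟨⟨⟨⟨⟨hg, hj⟩, hk⟩, hu⟩, hv⟩, hb⟩ := h
    have hT : ∀ g ∈ sys.T, linv (linv g) = g := by decide +kernel
    obtain ⟨-, he⟩ := dir_ok hx_inv hT (derived.1 f (List.mem_of_getElem? hf))
      (factOf.getD c (facts.length, false)).2
    rw [hg, hj, hk, beqW_eq hu, beqW_eq hv] at he
    have hvl : lettersIn [0, 1, 2, 4, 5] (odata.rec' c).v = true := by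
      have h7 := hrec.2.2.2.2.2.2
      simp only [eqW, lettersIn_append, Bool.and_eq_true] at h7
      exact h7.1.2.2
    rw [φP_val (mem_of_lettersIn hrec.2.2.2.2.2.1), φP_val (mem_of_lettersIn hvl), rhoPt, rhoPt,
      smul_smul, smul_smul, smul_smul, mul_assoc, he, mul_smul, val_fix hb]
  · simp at h

/-- The map to the cosets. -/
noncomputable def toCos (w : Ω) : Cos :=
  Quotient.liftOn' w.2 (fun a => φP a • rhoPt w.1.1) fun a b hab => by
    rw [QuotientGroup.leftRel_apply] at hab
    have := gens_fix w.1 hab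
    rw [map_mul, map_inv, mul_smul, inv_smul_eq_iff] at this
    exact this.symm

theorem toCos_mk (j : Fin odata.K.length) (a : PS) :
    toCos (odata.mk' (wgen relP) j a) = φP a • rhoPt j.1 := rfl

theorem toCos_sm (d : PS) (w : Ω) : toCos (sm d w) = φP d • toCos w := by
  obtain ⟨j, q⟩ := w
  obtain ⟨a, rfl⟩ := QuotientGroup.mk_surjective q
  show φP (d * a) • rhoPt j.1 = φP d • φP a • rhoPt j.1
  rw [map_mul, mul_smul]

theorem toCos_tF (w : Ω) : toCos (tF w) = hx 3 • toCos w := by
  obtain ⟨j, q⟩ := w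
  obtain ⟨a, rfl⟩ := QuotientGroup.mk_surjective q
  show toCos (timg ohyp o j a) = hx 3 • toCos (odata.mk' (wgen relP) j a)
  unfold timg
  rw [toCos_mk, toCos_mk]
  set i := ψP a⁻¹ o
  set c := odata.cls j.1 i.1
  have hc : c < 101 := recs_length ▸ cls_lt ohyp j i
  obtain ⟨-, -, hq, -, hu, hul, hW⟩ := rec_facts odata_valid (cls_lt ohyp j i)
  set τ := val (wgen relP) (odata.tau j.1 i.1)
  set u := val (wgen relP) (odata.rec' c).u
  set v := val (wgen relP) (odata.rec' c).v
  have hWv : val (wgen relP) (odata.rec' c).W = u⁻¹ * v := by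
    rw [model.eq _ _ hW, val_append, val_winv model.inv]
  have hjc : (odata.rec' c).j = j.1 :=
    (classOK_get (odata_valid.classes j.1 j.2) i.1 (Nat.zero_le _) (by omega)).2.1
  have hd : a * τ * u⁻¹ ∈ stab0 := by
    have h1 := tau_apply model odata_valid j i ⟨_, hq⟩ rfl
    have h2 : ψP u⁻¹ o = ⟨_, hq⟩ := Fin.ext (by rw [inv_apply_o hul]; exact hu)
    show ψP (a * τ * u⁻¹) o = o
    rw [map_mul, map_mul, Equiv.Perm.mul_apply, Equiv.Perm.mul_apply, h2, h1]
    simp [i]
  have hτ : φP τ • rhoPt j.1 = rhoPt j.1 := gens_fix j (tau_mem model j i.1)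
  have hstep := fact_step hc
  rw [hjc] at hstep
  calc φP (a * τ * val (wgen relP) (odata.rec' c).W) • rhoPt (odata.rec' c).k
      = φP (a * τ * u⁻¹) • φP v • rhoPt (odata.rec' c).k := by
        rw [hWv, smul_smul, ← map_mul, mul_assoc (a * τ)]
    _ = φP (a * τ * u⁻¹) • hx 3 • φP u • rhoPt j.1 := by rw [hstep]
    _ = hx 3 • φP (a * τ * u⁻¹) • φP u • rhoPt j.1 := by
        rw [smul_smul, ← (commute_stab0 _ hd).eq, ← smul_smul]
    _ = hx 3 • φP a • rhoPt j.1 := by
        rw [smul_smul (φP _) (φP u), ← map_mul, inv_mul_cancel_right, map_mul, mul_smul, hτ]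

theorem toCos_act (g : Spor.HN) (w : Ω) : toCos (act g w) = g • toCos w := by
  have hg : g ∈ Subgroup.closure
      (Set.range (PresentedGroup.of : Spor.HN.Gen → Spor.HN)) := by
    rw [PresentedGroup.closure_range_of]; trivial
  revert w
  induction hg using Subgroup.closure_induction with
  | one => simp
  | mem y hy =>
    obtain ⟨s, rfl⟩ := hy
    intro w
    have h : ∀ i ∈ [0, 1, 2], φP (wgen relP i) = hx i := fun i hi => by
      have := φP_val (w := [i]) (fun a ha => by
        simp only [List.mem_cons, List.not_mem_nil, or_false] at ha hi ⊢; omega)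
      simpa using this
    rw [act_of]
    cases s
    · show toCos (sm (wgen relP 0) w) = _
      rw [toCos_sm, h 0 (by simp)]; rfl
    · show toCos (sm (wgen relP 1) w) = _
      rw [toCos_sm, h 1 (by simp)]; rfl
    · show toCos (sm (wgen relP 2) w) = _
      rw [toCos_sm, h 2 (by simp)]; rfl
    · exact toCos_tF w
  | mul y z _ _ hy hz =>
    intro w
    rw [map_mul, Equiv.Perm.mul_apply, hy, hz, mul_smul]
  | inv y _ hy =>
    intro w
    rw [eq_inv_smul_iff, ← hy, ← Equiv.Perm.mul_apply, ← map_mul, mul_inv_cancel, map_one,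
      Equiv.Perm.one_apply]

/-- The base point. -/
noncomputable def ω0 : Ω := pt (0, [])

theorem toCos_ω0 : toCos ω0 = c0 := by
  show φP (val (wgen relP) []) • rhoPt (0 % 9) = c0
  rw [val_nil, map_one, one_smul, rhoPt, show sys.ρ.getD (0 % 9) [] = [] by decide +kernel,
    val_nil, one_smul]

theorem act_fix : ∀ g ∈ Hsub, act g ω0 = ω0 := by
  intro g hg
  rw [Hsub_eq] at hg
  obtain ⟨a, rfl⟩ := hg
  rw [show act (φP a) = smHom a from DFunLike.congr_fun act_φP a]
  show sm a ω0 = ω0
  rw [show ω0 = odata.mk' (wgen relP) ⟨0, by rw [K_length]; norm_num⟩ 1 from rfl, sm, osmul_mk]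
  refine OData.mk'_eq ?_
  rw [mul_one, mul_one, inv_mem_iff]
  have htop : odata.Kj (wgen relP) ⟨0, by rw [K_length]; norm_num⟩ = ⊤ := by
    refine top_le_iff.1 ?_
    rw [← wgen_closure relP (S := [0, 1, 2]) ?_, Subgroup.closure_le]
    · rintro _ ⟨i, hi, rfl⟩
      have hmem : [i] ∈ odata.kgens 0 :=
        (show ∀ i ∈ [0, 1, 2], [i] ∈ odata.kgens 0 by decide +kernel) i hi
      have := val_mem_wordSub (x := wgen relP) hmem
      simpa [OData.Kj] using this
    · intro i hi
      interval_cases i
      · exact Or.inl (by simp)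
      · exact Or.inl (by simp)
      · exact Or.inl (by simp)
      · refine Or.inr ?_
        have := wgen_rel relP [3] (by simp)
        simpa using this
  rw [htop]
  trivial

theorem act_hx : ∀ {l : List ℕ}, (∀ g ∈ l, g < 7) → ∀ w, act (val hx l) w = actW l w
  | [], _, w => by simp [actW]
  | g :: l, h, w => by
    rw [val_cons, map_mul, Equiv.Perm.mul_apply, act_hx (fun a ha => h a (by simp [ha])) w, actW]
    have hg := h g (by simp)
    generalize actW l w = v
    interval_cases g
    · exact DFunLike.congr_fun (act_of .x) v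
    · exact DFunLike.congr_fun (act_of .y) v
    · exact DFunLike.congr_fun (act_of .z) v
    · exact DFunLike.congr_fun (act_of .t) v
    · show act (hx 0)⁻¹ v = sm (wgen relP 0)⁻¹ v
      rw [map_inv, show act (hx 0) = _ from act_of .x]
      rfl
    · show act (hx 1)⁻¹ v = sm (wgen relP 1)⁻¹ v
      rw [map_inv, show act (hx 1) = _ from act_of .y]
      rfl
    · show act (hx 3)⁻¹ v = tF (tF (tF (tF v)))
      rw [map_inv, show act (hx 3) = _ from act_of .t]
      rfl

theorem act_rho (j : Fin odata.K.length) :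
    act (val hx (sys.ρ.getD j.1 [])) ω0 = odata.mk' (wgen relP) j 1 := by
  have hl : ∀ k < 9, ∀ g ∈ sys.ρ.getD k [], g < 7 := by decide +kernel
  have hs : ∀ k < 9, sameOK sys odata (evW sys odata (sys.ρ.getD k []) (0, [])) (k, [])
      (rhoWit.getD k []) = true := by decide +kernel
  have hj : j.1 < 9 := K_length ▸ j.2
  rw [act_hx (hl _ hj)]
  obtain ⟨e, e1, -⟩ := actW_pt (hl _ hj) (p := (0, [])) (by norm_num) rfl
  rw [show ω0 = pt (0, []) from rfl, e, pt_of_same (hs _ hj) e1, pt_eq, val_nil]

/-- The union of coset spaces is the coset space of the subgroup. -/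
theorem toCos_bijective : Function.Bijective toCos := by
  constructor
  · let back : Cos → Ω := fun q => Quotient.liftOn' q (fun g => act g ω0) fun a b hab => by
      rw [QuotientGroup.leftRel_apply] at hab
      have := act_fix _ hab
      rw [map_mul, map_inv, Equiv.Perm.mul_apply, Equiv.Perm.inv_eq_iff_eq] at this
      exact this.symm
    have hb : ∀ w, back (toCos w) = w := by
      intro w
      obtain ⟨j, q⟩ := w
      obtain ⟨a, rfl⟩ := QuotientGroup.mk_surjective q
      show back (φP a • val hx (sys.ρ.getD j.1 []) • c0) = _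
      rw [smul_smul, smul_c0]
      show act (φP a * val hx (sys.ρ.getD j.1 [])) ω0 = _
      rw [map_mul, Equiv.Perm.mul_apply, act_rho, show act (φP a) = smHom a from
        DFunLike.congr_fun act_φP a]
      show sm a _ = _
      rw [sm, osmul_mk, mul_one]
      rfl
    exact Function.LeftInverse.injective hb
  · intro q
    obtain ⟨g, rfl⟩ := QuotientGroup.mk_surjective q
    exact ⟨act g ω0, by rw [toCos_act, toCos_ω0, smul_c0]⟩

theorem lower_card : ∀ {j : ℕ}, j < 9 →
    orders.getD j 0 ≤ Nat.card (wordSub (wgen relP) (odata.kgens j)) := by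
  intro j hj
  have key : ∀ {Ls : List Level}, baseOK sys.P 1408 sys.S Ls = true →
      baseSize Ls = orders.getD j 0 → ((List.range (Ls.flatMap Level.U).length).all fun i =>
        eqW sys ((Ls.flatMap Level.U).getD i []) (wprod (odata.kgens j) ((kIdx.getD j []).getD i []))) = true →
      orders.getD j 0 ≤ Nat.card (wordSub (wgen relP) (odata.kgens j)) := by
    intro Ls h1 h2 h3
    rw [← h2]
    refine chain_le h1 fun L hL u hu => ?_
    obtain ⟨i, hi, hiu⟩ := List.getElem_of_mem (List.mem_flatMap.2 ⟨L, hL, hu⟩)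
    have h4 := List.all_eq_true.1 h3 i (List.mem_range.2 hi)
    rw [List.getD_eq_getElem _ _ hi, hiu] at h4
    rw [model.eq _ _ h4]
    exact wprod_mem model.inv (fun _ hv => val_mem_wordSub hv) _
  interval_cases j
  · have htop : wordSub (wgen relP) (odata.kgens 0) = ⊤ := by
      refine top_le_iff.1 ?_
      rw [← wgen_closure relP (S := [0, 1, 2]) ?_, Subgroup.closure_le]
      · rintro _ ⟨i, hi, rfl⟩
        have hmem : [i] ∈ odata.kgens 0 :=
          (show ∀ i ∈ [0, 1, 2], [i] ∈ odata.kgens 0 by decide +kernel) i hi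
        simpa using val_mem_wordSub (x := wgen relP) hmem
      · intro i hi
        interval_cases i
        · exact Or.inl (by simp)
        · exact Or.inl (by simp)
        · exact Or.inl (by simp)
        · refine Or.inr ?_
          have := wgen_rel relP [3] (by simp)
          simpa using this
    rw [htop, Subgroup.card_top, PS_base.1]
    decide +kernel
  · exact key (Ls := kChain1) (by decide +kernel) upper_size1 (by decide +kernel)
  · exact key (Ls := kChain2) (by decide +kernel) upper_size2 (by decide +kernel)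
  · exact key (Ls := kChain3) (by decide +kernel) upper_size3 (by decide +kernel)
  · exact key (Ls := kChain4) (by decide +kernel) upper_size4 (by decide +kernel)
  · exact key (Ls := kChain5) (by decide +kernel) upper_size5 (by decide +kernel)
  · exact key (Ls := kChain6) (by decide +kernel) upper_size6 (by decide +kernel)
  · exact key (Ls := kChain7) (by decide +kernel) upper_size7 (by decide +kernel)
  · exact key (Ls := kChain8) (by decide +kernel) upper_size8 (by decide +kernel)

theorem card_Kj_eq (j : Fin odata.K.length) :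
    (odata.Kj (wgen relP) j).index = [1, 1408, 2200, 35200, 123200, 277200, 354816, 739200,
      5775].getD j.1 0 := by
  have hj : j.1 < 9 := K_length ▸ j.2
  obtain ⟨R, hR⟩ := perm_exists
  have hmul := Subgroup.card_mul_index (odata.Kj (wgen relP) j)
  rw [PS_base.1] at hmul
  have hcard : Nat.card (odata.Kj (wgen relP) j) = orders.getD j.1 0 := by
    refine le_antisymm (card_Kj j) ?_
    rcases j with ⟨j, hjl⟩
    simp only at hj ⊢
    exact lower_card hj
  rw [hcard] at hmul
  rcases j with ⟨j, hjl⟩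
  simp only at hj hmul ⊢
  interval_cases j <;> simp [orders, OData.Kj] at hmul ⊢ <;> omega

/-- The index of the subgroup of the first three generators. -/
theorem index_Hsub : Hsub.index = 1539000 := by
  have h1 : Nat.card Cos = Nat.card Ω := (Nat.card_eq_of_bijective _ toCos_bijective).symm
  rw [Subgroup.index_eq_card, h1, Nat.card_sigma]
  have h2 : ∀ j : Fin odata.K.length, Nat.card (PS ⧸ odata.Kj (wgen relP) j) =
      [1, 1408, 2200, 35200, 123200, 277200, 354816, 739200, 5775].getD j.1 0 := fun j => by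
    rw [← Subgroup.index_eq_card]; exact card_Kj_eq j
  simp only [h2]
  rw [Finset.sum_fin_eq_sum_range]
  simp only [K_length]
  decide +kernel

/-- The action of the double cover is faithful. -/
theorem smHom_eq_one {a : PS} (h1 : smHom a = 1) : a = 1 := by
  refine PS_base.2 a 1 fun L hL i hi => ?_
  rw [map_one]
  set J : Fin odata.K.length := ⟨1, by rw [K_length]; norm_num⟩
  obtain ⟨d, hd⟩ := exists_to i
  have hK1 : odata.Kj (wgen relP) J ≤ stab0 := by
    refine (Subgroup.closure_le _).2 ?_
    rintro _ ⟨u, hu, rfl⟩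
    refine Fin.ext ?_
    rw [eval_zero (kgens_letters odata_valid 1 u hu)]
    show _ = 0
    exact (show ∀ u ∈ odata.kgens 1, twalk sys.P (winv u) 0 = 0 by decide +kernel) u hu
  have h2 := congrArg (fun f : Equiv.Perm Ω => f (odata.mk' (wgen relP) J d)) h1
  change sm a (odata.mk' (wgen relP) J d) = odata.mk' (wgen relP) J d at h2
  rw [sm, osmul_mk, OData.mk', OData.mk'] at h2
  have h3 := hK1 (QuotientGroup.eq.1 (eq_of_heq (Sigma.mk.inj h2).2).symm)
  have h4 : ψP (d⁻¹ * (a * d)) o = o := h3
  rw [map_mul, map_mul, map_inv, Equiv.Perm.mul_apply, Equiv.Perm.mul_apply, hd,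
    Equiv.Perm.inv_eq_iff_eq, hd] at h4
  exact h4

theorem φP_injective : Function.Injective φP := by
  rw [← MonoidHom.ker_eq_bot_iff, eq_bot_iff]
  intro a ha
  rw [MonoidHom.mem_ker] at ha
  rw [Subgroup.mem_bot]
  refine smHom_eq_one ?_
  rw [← DFunLike.congr_fun act_φP a, MonoidHom.comp_apply, ha, map_one]

theorem card_Hsub : Nat.card Hsub = 177408000 := by
  rw [Hsub_eq, ← PS_base.1]
  exact (Nat.card_congr (MonoidHom.ofInjective φP_injective).toEquiv).symm

theorem card_HN : Nat.card Spor.HN = 273030912000000 := by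
  rw [← Subgroup.card_mul_index Hsub, card_Hsub, index_Hsub]

end Cfsg.Lib.HN.Top
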