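import Cfsg.Agent.Lib.HN.Bridge
import Cfsg.Agent.Lib.HN.Top.Run
import Cfsg.Agent.Lib.HN.Top.CheckK
import Cfsg.Agent.Lib.HN.Top.Chunk0
import Cfsg.Agent.Lib.HN.Top.Chunk1
import Cfsg.Agent.Lib.HN.Top.Chunk2
import Cfsg.Agent.Lib.HN.Top.Chunk3
import Cfsg.Agent.Lib.HN.Top.Chunk4
import Cfsg.Agent.Lib.HN.Top.Chunk5
import Cfsg.Agent.Lib.HN.Top.Chunk6
import Cfsg.Agent.Lib.HN.Top.Chunk7

/-!
# The certified data in the model of the double cover
-/

set_option autoImplicit false
set_option maxRecDepth 100000

namespace Cfsg.Lib.HN.Top

open Data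

theorem recs_length : odata.recs.length = 101 := by decide +kernel

theorem K_length : odata.K.length = 9 := by decide +kernel

theorem rec_ok {c : ℕ} (hc : c < 101) :
    recOK sys odata 1408 orders c = true ∧ factRecOK odata facts factOf c = true ∧
    relAtRep sys odata [3, 3, 3, 3, 3] powWit c = true ∧
    relAtRep sys odata [4, 3, 0, 3, 3] conjWit c = true ∧
    braidAtRep sys odata cGens ztData ztWit c = true ∧
    moverOK sys odata cGens orbZ (twalk sys.P [2] 0) ztData c = true := by
  have h : recAllOK c = true := by
    have get : ∀ {m i : ℕ}, (List.range m).all (fun c => recAllOK (i + c)) = true →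
        i ≤ c → c < i + m → recAllOK c = true := by
      intro m i h h1 h2
      have := List.all_eq_true.1 h (c - i) (List.mem_range.2 (by omega))
      rwa [show i + (c - i) = c by omega] at this
    rcases Nat.lt_or_ge c 13 with h | h
    · exact get chunk_ok0 (by omega) (by omega)
    rcases Nat.lt_or_ge c 26 with h' | h'
    · exact get chunk_ok1 (by omega) (by omega)
    rcases Nat.lt_or_ge c 39 with h | h
    · exact get chunk_ok2 (by omega) (by omega)
    rcases Nat.lt_or_ge c 52 with h | h
    · exact get chunk_ok3 (by omega) (by omega)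
    rcases Nat.lt_or_ge c 65 with h | h
    · exact get chunk_ok4 (by omega) (by omega)
    rcases Nat.lt_or_ge c 78 with h | h
    · exact get chunk_ok5 (by omega) (by omega)
    rcases Nat.lt_or_ge c 91 with h | h
    · exact get chunk_ok6 (by omega) (by omega)
    exact get chunk_ok7 (by omega) (by omega)
  simp only [recAllOK, Bool.and_eq_true, and_assoc] at h
  exact h

theorem odata_valid : odata.Valid sys 1408 orders where
  letters := data_letters
  classes := by
    intro j hj
    rw [K_length] at hj
    interval_cases j
    · exact class_ok0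
    · exact class_ok1
    · exact class_ok2
    · exact class_ok3
    · exact class_ok4
    · exact class_ok5
    · exact class_ok6
    · exact class_ok7
    · exact class_ok8
  recs := fun c hc => (rec_ok (recs_length ▸ hc)).1

theorem model : Model sys (wgen relP) 1408 ψP where
  inv := wgen_inv relP
  symS := symS_P
  eq := fun a b h => by
    simp only [eqW, Bool.and_eq_true, List.all_eq_true, Nat.beq_eq] at h
    obtain ⟨⟨ha, hb⟩, hab⟩ := h
    have ha' := mem_of_lettersIn ha
    have hb' := mem_of_lettersIn hb
    refine PS_base.2 _ _ fun L hL i hi => Fin.ext ?_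
    rw [ψP_val ha', ψP_val hb', val_pperm ModelP.perm_ok symS_P _ ha',
      val_pperm ModelP.perm_ok symS_P _ hb', hi]
    refine hab L.point ?_
    rw [show sys.base = ModelP.chainP.map Level.point by decide +kernel]
    exact List.mem_map_of_mem hL
  eval := fun w hw i => by
    have hw' := mem_of_lettersIn hw
    rw [ψP_val hw', val_pperm ModelP.perm_ok symS_P _ hw']
    rfl

theorem perm_exists : ∃ R, permOK sys.P 1408 sys.S R 1408 0 = true := ⟨_, ModelP.perm_ok⟩

theorem upper_card {Ls : List Level} {ws : List LevelWit} {j m : ℕ}
    (h : upperOK sys Ls ws = true) (hh : eqLists ((Ls.head?.map Level.U).getD []) (odata.kgens j) = true)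
    (hs : baseSize Ls = m)
    (hp : Ls.all (fun L => Nat.blt L.point 1408 && L.U.all (lettersIn sys.S)) = true) :
    Nat.card (wordSub (wgen relP) (odata.kgens j)) ≤ m := by
  rw [← eqLists_eq hh, ← hs]
  refine upper_le model h fun L hL => ?_
  have := List.all_eq_true.1 hp L hL
  simp only [Bool.and_eq_true, Nat.blt_eq, List.all_eq_true] at this
  exact this

theorem card_Kj (j : Fin odata.K.length) :
    Nat.card (odata.Kj (wgen relP) j) ≤ orders.getD j.1 0 := by
  have hj : j.1 < 9 := K_length ▸ j.2
  unfold OData.Kj
  rcases j with ⟨j, hjl⟩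
  simp only at hj ⊢
  interval_cases j
  · refine (Subgroup.card_le_card_group _).trans (le_of_eq ?_)
    rw [PS_base.1]; rfl
  · exact upper_card upper_ok1 upper_head1 upper_size1 upper_pts1
  · exact upper_card upper_ok2 upper_head2 upper_size2 upper_pts2
  · exact upper_card upper_ok3 upper_head3 upper_size3 upper_pts3
  · exact upper_card upper_ok4 upper_head4 upper_size4 upper_pts4
  · exact upper_card upper_ok5 upper_head5 upper_size5 upper_pts5
  · exact upper_card upper_ok6 upper_head6 upper_size6 upper_pts6
  · exact upper_card upper_ok7 upper_head7 upper_size7 upper_pts7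
  · exact upper_card upper_ok8 upper_head8 upper_size8 upper_pts8

theorem ohyp : OHyp odata sys (wgen relP) 1408 ψP orders where
  model := model
  perm := perm_exists
  valid := odata_valid
  cardK := card_Kj

end Cfsg.Lib.HN.Top
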