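import Cfsg.Agent.Lib.HN.TopModel
import Cfsg.Agent.Lib.HN.Top.Gens

/-!
# The transformation of the cosets and the relators it satisfies
-/

set_option autoImplicit false
set_option maxRecDepth 100000

namespace Cfsg.Lib.HN.Top

open Data

/-- The base point of the model. -/
def o : Fin 1408 := ⟨0, by norm_num⟩

/-- The union of the coset spaces. -/
abbrev Ω : Type := odata.Omega (wgen relP)

/-- The transformation. -/
noncomputable def tF : Ω → Ω := tfun ohyp o

/-- Left translation. -/
noncomputable def sm (d : PS) (w : Ω) : Ω := osmul d w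

theorem sm_one (w : Ω) : sm 1 w = w := by simp [sm, osmul]

theorem sm_mul (a b : PS) (w : Ω) : sm (a * b) w = sm a (sm b w) := by
  simp [sm, osmul, mul_smul]
  rfl

/-- The coset of a state. -/
noncomputable def pt (p : ℕ × List ℕ) : Ω :=
  odata.mk' (wgen relP) ⟨p.1 % 9, by rw [K_length]; exact Nat.mod_lt _ (by norm_num)⟩
    (val (wgen relP) p.2)

theorem pt_eq {j : Fin odata.K.length} {h : List ℕ} :
    pt (j.1, h) = odata.mk' (wgen relP) j (val (wgen relP) h) := by
  have : j.1 % 9 = j.1 := Nat.mod_eq_of_lt (K_length ▸ j.2)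
  unfold pt
  congr 1
  exact Fin.ext this

theorem eval_zero {w : List ℕ} (hw : lettersIn sys.S w = true) :
    (ψP (val (wgen relP) w) o).1 = twalk sys.P (winv w) 0 := model.eval w hw o

theorem inv_apply_o {w : List ℕ} (hw : lettersIn sys.S w = true) :
    (ψP (val (wgen relP) w)⁻¹ o).1 = twalk sys.P w 0 := by
  rw [← val_winv model.inv, eval_zero (lettersIn_winv symS_P hw),
    winv_winv symS_P (mem_of_lettersIn hw)]

theorem tau_letters (j i : ℕ) : lettersIn sys.S (odata.tau j i) = true :=
  wprod_letters symS_P (kgens_letters odata_valid j) _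

theorem W_letters {c : ℕ} (hc : c < 101) : lettersIn sys.S (odata.rec' c).W = true := by
  have := (rec_facts odata_valid (recs_length.symm ▸ hc)).2.2.2.2.2.2
  simp only [eqW, Bool.and_eq_true] at this
  exact this.1.1

theorem tF_pt {p : ℕ × List ℕ} (hj : p.1 < 9) (hp : lettersIn sys.S p.2 = true) :
    tF (pt p) = pt (evT sys odata p) ∧ (evT sys odata p).1 < 9 ∧
      lettersIn sys.S (evT sys odata p).2 = true := by
  obtain ⟨j, h⟩ := p
  simp only at hj hp
  set J : Fin odata.K.length := ⟨j, K_length.symm ▸ hj⟩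
  set i := ψP (val (wgen relP) h)⁻¹ o
  have hi : i.1 = twalk sys.P h 0 := inv_apply_o hp
  have hc : odata.cls j i.1 < 101 := recs_length ▸ cls_lt ohyp J i
  simp only [evT, Cfsg.Lib.CosetEnum.force_eq, ← hi]
  refine ⟨?_, K_length ▸ (rec_facts odata_valid (cls_lt ohyp J i)).2.1, ?_⟩
  · rw [show (pt (j, h)) = odata.mk' (wgen relP) J (val (wgen relP) h) from pt_eq (j := J)]
    show timg ohyp o J (val (wgen relP) h) = _
    unfold timg
    refine Eq.trans ?_
      (pt_eq (j := ⟨_, (rec_facts odata_valid (cls_lt ohyp J i)).2.1⟩)).symm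
    rw [val_append, val_append, mul_assoc]
  · simp [lettersIn_append, hp, tau_letters, W_letters hc]

/-- The action of a letter. -/
noncomputable def act1 : ℕ → Ω → Ω
  | 3 => tF
  | 6 => fun w => tF (tF (tF (tF w)))
  | g => sm (wgen relP g)

/-- The action of a word, last letter first. -/
noncomputable def actW : List ℕ → Ω → Ω
  | [], w => w
  | g :: l, w => act1 g (actW l w)

theorem evW_cons {g : ℕ} (h3 : g ≠ 3) (h6 : g ≠ 6) (l : List ℕ) (p : ℕ × List ℕ) :
    evW sys odata (g :: l) p = ((evW sys odata l p).1, g :: (evW sys odata l p).2) := by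
  rw [evW]
  · exact fun h => h3 h
  · exact fun h => h6 h

theorem actW_pt : ∀ {l : List ℕ}, (∀ g ∈ l, g < 7) → ∀ {p : ℕ × List ℕ}, p.1 < 9 →
    lettersIn sys.S p.2 = true → actW l (pt p) = pt (evW sys odata l p) ∧
      (evW sys odata l p).1 < 9 ∧ lettersIn sys.S (evW sys odata l p).2 = true
  | [], _, p, h1, h2 => ⟨rfl, h1, h2⟩
  | g :: l, hl, p, h1, h2 => by
    obtain ⟨e, e1, e2⟩ := actW_pt (l := l) (fun a ha => hl a (by simp [ha])) h1 h2
    have hg := hl g (by simp)
    by_cases h3 : g = 3
    · subst h3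
      simp only [evW, actW, act1, e]
      exact tF_pt e1 e2
    by_cases h6 : g = 6
    · subst h6
      simp only [evW, actW, act1, e]
      obtain ⟨a1, b1, c1⟩ := tF_pt e1 e2
      obtain ⟨a2, b2, c2⟩ := tF_pt b1 c1
      obtain ⟨a3, b3, c3⟩ := tF_pt b2 c2
      obtain ⟨a4, b4, c4⟩ := tF_pt b3 c3
      exact ⟨by rw [a1, a2, a3, a4], b4, c4⟩
    rw [evW_cons h3 h6]
    refine ⟨?_, e1, ?_⟩
    · have : act1 g = sm (wgen relP g) := by
        unfold act1
        split <;> first | omega | rfl
      rw [actW, this, e]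
      simp [pt, sm, osmul_mk, val_cons]
    · have : lettersIn sys.S [g] = true := by
        interval_cases g <;> first | omega | decide +kernel
      rw [show g :: (evW sys odata l p).2 = [g] ++ (evW sys odata l p).2 from rfl, lettersIn_append,
        this, e2]
      rfl

theorem pt_of_same {p q : ℕ × List ℕ} {e : List ℕ} (h : sameOK sys odata p q e = true)
    (hj : p.1 < 9) : pt p = pt q := by
  obtain ⟨j, a⟩ := p
  obtain ⟨k, b⟩ := q
  simp only [sameOK, Bool.and_eq_true, Nat.beq_eq] at h
  obtain ⟨rfl, he⟩ := h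
  simp only at hj
  rw [pt_eq (j := ⟨j, K_length.symm ▸ hj⟩), pt_eq (j := ⟨j, K_length.symm ▸ hj⟩)]
  refine OData.mk'_eq ?_
  have := model.eq _ _ he
  rw [val_append, val_winv model.inv] at this
  rw [this]
  exact wprod_mem model.inv (fun _ hu => val_mem_wordSub hu) _

/-- The stabiliser of the base point of the model. -/
noncomputable def stab0 : Subgroup PS where
  carrier := {d | ψP d o = o}
  one_mem' := by simp
  mul_mem' := fun {a b} ha hb => by
    simp only [Set.mem_ofPred_eq, map_mul, Equiv.Perm.mul_apply] at *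
    rw [hb, ha]
  inv_mem' := fun {a} ha => by
    simp only [Set.mem_ofPred_eq, map_inv] at *
    exact Equiv.Perm.inv_eq_iff_eq.2 ha.symm

theorem tF_sm {d : PS} (hd : d ∈ stab0) (w : Ω) : tF (sm d w) = sm d (tF w) :=
  tfun_equiv ohyp o hd w

theorem cGens_letters : ∀ u ∈ cGens, lettersIn sys.S u = true := by decide +kernel

theorem mem_of_eqLists {U : List (List ℕ)} {idx : List (List ℕ)} {gens : List (List ℕ)}
    (h : eqLists U (idx.map (wprod gens)) = true) :
    ∀ u ∈ U, val (wgen relP) u ∈ wordSub (wgen relP) gens := by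
  intro u hu
  rw [eqLists_eq h] at hu
  obtain ⟨i, -, rfl⟩ := List.mem_map.1 hu
  exact wprod_mem model.inv (fun _ hv => val_mem_wordSub hv) _

theorem chain_le {Ls : List Level}
    (hok : baseOK sys.P 1408 sys.S Ls = true)
    {K : Subgroup PS}
    (hK : ∀ L ∈ Ls, ∀ u ∈ L.U, val (wgen relP) u ∈ K) : baseSize Ls ≤ Nat.card K := by
  obtain ⟨R, hR⟩ := perm_exists
  have h := base_le hR symS_P hok (K.map ψP) (fun L hL u hu => ⟨val (wgen relP) u, hK L hL u hu, by
    refine Equiv.ext fun i => Fin.ext ?_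
    have hl := lettersIn_of_baseOK hok L hL u hu
    rw [ψP_val hl]
    rfl⟩)
  exact (Nat.le_mul_of_pos_right _ Nat.card_pos).trans
    (h.trans (Nat.card_le_card_of_surjective _ (ψP.subgroupMap_surjective _)))

theorem exists_to (i : Fin 1408) : ∃ d : PS, ψP d o = i := by
  set J : Fin odata.K.length := ⟨0, by rw [K_length]; norm_num⟩
  have h0 : ∀ p < 1408, odata.cls 0 p = odata.cls 0 0 := by decide +kernel
  obtain ⟨-, -, hq, -⟩ := rec_facts odata_valid (cls_lt ohyp J o)
  have h1 := tau_apply model odata_valid J o ⟨_, hq⟩ rfl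
  have h2 := tau_apply model odata_valid J i ⟨_, hq⟩ (by
    show _ = (odata.rec' (odata.cls 0 i.1)).q
    rw [h0 i.1 i.2]
    simp [J, o])
  refine ⟨val (wgen relP) (odata.tau 0 i.1) * (val (wgen relP) (odata.tau 0 0))⁻¹, ?_⟩
  rw [map_mul, Equiv.Perm.mul_apply, map_inv]
  have : (ψP (val (wgen relP) (odata.tau 0 0)))⁻¹ o = (⟨_, hq⟩ : Fin 1408) :=
    Equiv.Perm.inv_eq_iff_eq.2 h1.symm
  rw [this]
  exact h2

theorem card_stab0 : Nat.card stab0 = 126000 := by
  letI : MulAction PS (Fin 1408) := MulAction.compHom _ ψP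
  have horb : MulAction.orbit PS o = Set.univ :=
    Set.eq_univ_iff_forall.2 fun i => exists_to i
  have h := Subgroup.card_mul_index (MulAction.stabilizer PS o)
  rw [MulAction.index_stabilizer, horb, Set.ncard_univ, Nat.card_fin, PS_base.1] at h
  have : stab0 = MulAction.stabilizer PS o := rfl
  rw [this]
  omega

/-- The stabiliser of the base point is generated by two words. -/
theorem stab0_eq : stab0 = wordSub (wgen relP) cGens := by
  have hle : wordSub (wgen relP) cGens ≤ stab0 := by
    refine (Subgroup.closure_le _).2 ?_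
    rintro _ ⟨u, hu, rfl⟩
    refine Fin.ext ?_
    rw [eval_zero (cGens_letters u hu)]
    show _ = 0
    exact (show ∀ u ∈ cGens, twalk sys.P (winv u) 0 = 0 by decide +kernel) u hu
  refine (Subgroup.eq_of_le_of_card_ge hle ?_).symm
  have hgen : eqLists (cChain.flatMap Level.U) (cIdx.map (wprod cGens)) = true := by decide +kernel
  rw [card_stab0, show (126000 : ℕ) = baseSize cChain by decide +kernel]
  exact chain_le cChain_ok fun L hL u hu =>
    mem_of_eqLists hgen u (List.mem_flatMap.2 ⟨L, hL, hu⟩)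

end Cfsg.Lib.HN.Top
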