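import Cfsg.Agent.Lib.HN.TopPoint

/-!
# The relators hold on the union of coset spaces
-/

set_option autoImplicit false
set_option maxRecDepth 100000

namespace Cfsg.Lib.HN.Top

open Data

theorem stab0_induction {p : PS → Prop} (one : p 1) (mul : ∀ a b, p a → p b → p (a * b))
    (gen : ∀ u ∈ cGens, p (val (wgen relP) u)) : ∀ d ∈ stab0, p d := by
  intro d hd
  rw [stab0_eq, wordSub, ← Subgroup.mem_toSubmonoid,
    Subgroup.closure_toSubmonoid_of_finite] at hd
  induction hd using Submonoid.closure_induction with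
  | mem y hy => obtain ⟨u, hu, rfl⟩ := hy; exact gen u hu
  | one => exact one
  | mul a b _ _ ha hb => exact mul a b ha hb

theorem conj_mem_stab0 {d : PS} (hd : d ∈ stab0) :
    wgen relP 0 * d * (wgen relP 0)⁻¹ ∈ stab0 ∧ (wgen relP 0)⁻¹ * d * wgen relP 0 ∈ stab0 := by
  refine stab0_induction (p := fun d => wgen relP 0 * d * (wgen relP 0)⁻¹ ∈ stab0 ∧
    (wgen relP 0)⁻¹ * d * wgen relP 0 ∈ stab0) ?_ ?_ ?_ d hd
  · simp [stab0.one_mem]
  · intro a b ha hb
    constructor
    · have := stab0.mul_mem ha.1 hb.1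
      simpa [mul_assoc] using this
    · have := stab0.mul_mem ha.2 hb.2
      simpa [mul_assoc] using this
  · intro u hu
    have h : ∀ w : List ℕ, lettersIn sys.S w = true → twalk sys.P (winv w) 0 = 0 →
        val (wgen relP) w ∈ stab0 := fun w hw h => Fin.ext (by rw [eval_zero hw]; exact h)
    have hu' : ∀ u ∈ cGens, lettersIn sys.S ([0] ++ (u ++ [4])) = true ∧
        twalk sys.P (winv ([0] ++ (u ++ [4]))) 0 = 0 ∧ lettersIn sys.S ([4] ++ (u ++ [0])) = true ∧
        twalk sys.P (winv ([4] ++ (u ++ [0]))) 0 = 0 := by decide +kernel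
    obtain ⟨e1, e2, e3, e4⟩ := hu' u hu
    have i4 : wgen relP 4 = (wgen relP 0)⁻¹ := rfl
    constructor
    · simpa [i4, mul_assoc] using h _ e1 e2
    · simpa [i4, mul_assoc] using h _ e3 e4

/-- Every point is a translate of a representative by an element fixing the base point. -/
theorem decomp (w : Ω) : ∃ c < 101, ∃ d ∈ stab0, w = sm d (pt (repState odata c)) := by
  obtain ⟨j, q⟩ := w
  obtain ⟨a, rfl⟩ := QuotientGroup.mk_surjective q
  obtain ⟨c, hc, d, hd, hj, e⟩ := exists_decomp ohyp o rfl j a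
  refine ⟨c, recs_length ▸ hc, d, hd, e.trans ?_⟩
  rw [show repState odata c = ((⟨(odata.rec' c).j, hj⟩ : Fin odata.K.length).1,
    (odata.rec' c).u) from rfl, pt_eq]
  rfl

theorem rep_lt {c : ℕ} (hc : c < 101) : (repState odata c).1 < 9 ∧
    lettersIn sys.S (repState odata c).2 = true := by
  have h := rec_facts odata_valid (recs_length.symm ▸ hc)
  exact ⟨K_length ▸ h.1, h.2.2.2.2.2.1⟩

theorem relRep_eq {l : List ℕ} {wit : List (List ℕ)} {c : ℕ} (hl : ∀ g ∈ l, g < 7) (hc : c < 101)
    (h : relAtRep sys odata l wit c = true) :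
    actW l (pt (repState odata c)) = pt (repState odata c) := by
  obtain ⟨e, e1, -⟩ := actW_pt hl (rep_lt hc).1 (rep_lt hc).2
  rw [e]
  exact pt_of_same h e1

theorem t5 (w : Ω) : tF (tF (tF (tF (tF w)))) = w := by
  obtain ⟨c, hc, d, hd, rfl⟩ := decomp w
  simp only [tF_sm hd]
  exact congrArg (sm d) (relRep_eq (by decide) hc (rec_ok hc).2.2.1)

theorem xrel (w : Ω) : sm (wgen relP 0)⁻¹ (tF (sm (wgen relP 0) (tF (tF w)))) = w := by
  obtain ⟨c, hc, d, hd, rfl⟩ := decomp w
  have h1 : ∀ v : Ω, sm (wgen relP 0) (sm d v) =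
      sm (wgen relP 0 * d * (wgen relP 0)⁻¹) (sm (wgen relP 0) v) := fun v => by
    rw [← sm_mul, ← sm_mul, inv_mul_cancel_right]
  rw [tF_sm hd, tF_sm hd, h1, tF_sm (conj_mem_stab0 hd).1, ← sm_mul,
    show (wgen relP 0)⁻¹ * (wgen relP 0 * d * (wgen relP 0)⁻¹) = d * (wgen relP 0)⁻¹ by group,
    sm_mul]
  refine congrArg (sm d) ?_
  exact relRep_eq (l := [4, 3, 0, 3, 3]) (by decide) hc (rec_ok hc).2.2.2.1

/-- The generators of the stabiliser of both points. -/
noncomputable abbrev dGens : List (List ℕ) := (dChain.head?.map Level.U).getD []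

theorem card_pair_stab :
    ∀ a : PS, a ∈ stab0 → ψP a (ψP (wgen relP 2) o) = ψP (wgen relP 2) o →
      a * wgen relP 2 = wgen relP 2 * a := by
  letI : MulAction PS (Fin 1408) := MulAction.compHom _ ψP
  set q := ψP (wgen relP 2) o
  set A := stab0 ⊓ MulAction.stabilizer PS q
  set C2 := Subgroup.centralizer ({wgen relP 2} : Set PS)
  have hgen : eqLists (dChain.flatMap Level.U) (dIdx.map (wprod cGens)) = true := by decide +kernel
  have hD : ∀ L ∈ dChain, ∀ u ∈ L.U, val (wgen relP) u ∈ A ⊓ C2 := by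
    intro L hL u hu
    have hm := List.mem_flatMap.2 ⟨L, hL, hu⟩
    have h2 : ∀ u ∈ dChain.flatMap Level.U, lettersIn sys.S u = true ∧
        twalk sys.P (winv u) (twalk sys.P [2] 0) = twalk sys.P [2] 0 ∧
        eqW sys (u ++ [2]) ([2] ++ u) = true := by decide +kernel
    obtain ⟨e1, e2, e3⟩ := h2 u hm
    refine ⟨⟨stab0_eq ▸ mem_of_eqLists hgen u hm, Fin.ext ?_⟩, ?_⟩
    · show (ψP (val (wgen relP) u) q).1 = q.1
      rw [model.eval u e1 q]
      have hq : q.1 = twalk sys.P [2] 0 := by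
        have := eval_zero (w := [2]) (by decide +kernel)
        simpa [q, winv, linv] using this
      rw [hq]
      exact e2
    · show val (wgen relP) u ∈ C2
      rw [Subgroup.mem_centralizer_singleton_iff]
      have := model.eq _ _ e3
      simpa using this
  have h2520 : 2520 ≤ Nat.card (A ⊓ C2 : Subgroup PS) := by
    rw [show (2520 : ℕ) = baseSize dChain by decide +kernel]
    exact chain_le dChain_ok hD
  have hA : Nat.card A * 50 ≤ 126000 := by
    rw [← card_stab0]
    have h := Subgroup.card_mul_index (MulAction.stabilizer stab0 q)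
    rw [MulAction.index_stabilizer] at h
    rw [← h]
    refine Nat.mul_le_mul (le_of_eq (Nat.card_congr
      { toFun := fun b => ⟨⟨b.1, b.2.1⟩, b.2.2⟩
        invFun := fun b => ⟨b.1.1, b.1.2, b.2⟩ })) ?_
    have hz : ∀ i < 50, orbZ.getD i 0 < 1408 ∧
        twalk sys.P (winv (wprod cGens (orbZPath.getD i []))) (twalk sys.P [2] 0) =
          orbZ.getD i 0 := by decide +kernel
    have hnd : ∀ i < 50, ∀ j < 50, orbZ.getD i 0 = orbZ.getD j 0 → i = j := by decide +kernel
    let f : Fin 50 → Fin 1408 := fun i => ⟨orbZ.getD i.1 0, (hz i.1 i.2).1⟩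
    have hf : Function.Injective f := fun i j hij =>
      Fin.ext (hnd i.1 i.2 j.1 j.2 (congrArg Fin.val hij))
    calc 50 = (Set.range f).ncard := by rw [Set.ncard_range_of_injective hf, Nat.card_fin]
      _ ≤ _ := Set.ncard_le_ncard ?_ (Set.toFinite _)
    rintro _ ⟨i, rfl⟩
    refine ⟨⟨val (wgen relP) (wprod cGens (orbZPath.getD i.1 [])), ?_⟩, Fin.ext ?_⟩
    · rw [stab0_eq]
      exact wprod_mem model.inv (fun _ hv => val_mem_wordSub hv) _
    · show (ψP _ q).1 = _
      rw [model.eval _ (wprod_letters symS_P cGens_letters _) q]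
      have hq : q.1 = twalk sys.P [2] 0 := by
        have := eval_zero (w := [2]) (by decide +kernel)
        simpa [q, winv, linv] using this
      rw [hq]
      exact (hz i.1 i.2).2
  have heq : A ⊓ C2 = A := Subgroup.eq_of_le_of_card_ge inf_le_left (by omega)
  intro a ha haq
  have : a ∈ A ⊓ C2 := heq.symm ▸ ⟨ha, haq⟩
  exact Subgroup.mem_centralizer_singleton_iff.1 this.2

theorem orbZ_closed {d : PS} (hd : d ∈ stab0) (i : Fin 1408) (hi : i.1 ∈ orbZ) :
    (ψP d i).1 ∈ orbZ := by
  revert d i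
  refine fun {d} hd => stab0_induction (p := fun d => ∀ i : Fin 1408, i.1 ∈ orbZ →
    (ψP d i).1 ∈ orbZ) ?_ ?_ ?_ d hd
  · intro i hi; simpa using hi
  · intro a b ha hb i hi
    rw [map_mul, Equiv.Perm.mul_apply]
    exact ha _ (hb i hi)
  · intro u hu i hi
    rw [model.eval u (cGens_letters u hu) i]
    have h : ∀ u ∈ cGens, ∀ p ∈ orbZ, twalk sys.P (winv u) p ∈ orbZ := by decide +kernel
    exact h u hu _ hi

theorem braid (w : Ω) :
    sm (wgen relP 2) (tF (sm (wgen relP 2) (tF (sm (wgen relP 2) (tF w))))) = w := by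
  obtain ⟨c, hc, d, hd, rfl⟩ := decomp w
  set x := wgen relP
  set q := ψP (x 2) o
  have hq : q.1 = twalk sys.P [2] 0 := by
    have := eval_zero (w := [2]) (by decide +kernel)
    simpa [q, x, winv, linv] using this
  set π := ψP d⁻¹ q
  have hπ : π.1 ∈ orbZ := orbZ_closed (inv_mem hd) q (by rw [hq]; decide +kernel)
  obtain ⟨i, hi, hpi⟩ := List.getElem_of_mem hπ
  have hm := (rec_ok hc).2.2.2.2.2
  simp only [moverOK, Bool.and_eq_true, List.all_eq_true, List.mem_range, Nat.beq_eq,
    Nat.blt_eq] at hm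
  obtain ⟨-, hm⟩ := hm
  obtain ⟨⟨hk, hs0⟩, hse⟩ := hm i hi
  rw [List.getD_eq_getElem _ _ hi, hpi] at hse
  set m := (ztData.getD c ([], [])).2.getD i (0, [])
  set eidx := (ztData.getD c ([], [])).1.getD m.1 []
  set s := wprod (odata.kgens (odata.rec' c).j) m.2
  set u := (odata.rec' c).u
  have hrec := rec_facts odata_valid (recs_length.symm ▸ hc)
  have hul : lettersIn sys.S u = true := hrec.2.2.2.2.2.1
  have hsl : lettersIn sys.S s = true := wprod_letters symS_P (kgens_letters odata_valid _) _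
  have hσl : lettersIn sys.S (u ++ (s ++ winv u)) = true := by
    simp [lettersIn_append, hul, hsl, (lettersIn_winv (S := sys.S) symS_P hul)]
  have hel : lettersIn sys.S (wprod cGens eidx) = true := wprod_letters symS_P cGens_letters _
  set σ := val x (u ++ (s ++ winv u))
  set e := val x (wprod cGens eidx)
  have hσ : σ ∈ stab0 := by
    exact Fin.ext (by rw [eval_zero hσl]; exact hs0)
  have he : e ∈ stab0 := by
    rw [stab0_eq]; exact wprod_mem model.inv (fun _ hv => val_mem_wordSub hv) _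
  have hfix : sm σ (pt (repState odata c)) = pt (repState odata c) := by
    rw [show repState odata c = ((⟨_, hrec.1⟩ : Fin odata.K.length).1, u) from rfl, pt_eq, sm,
      osmul_mk]
    refine OData.mk'_eq ?_
    simp only [σ, x, val_append, val_winv model.inv, inv_mul_cancel_right, mul_inv_rev,
      mul_assoc, inv_mul_cancel, mul_one, inv_mul_cancel_left]
    try simp only [← mul_assoc, inv_mul_cancel_right]
    simpa using inv_mem (wprod_mem (x := wgen relP) model.inv
      (K := odata.Kj (wgen relP) ⟨_, hrec.1⟩) (fun _ hv => val_mem_wordSub hv) m.2)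
  set δ := d * σ * e⁻¹
  have hδ : δ ∈ stab0 := mul_mem (mul_mem hd hσ) (inv_mem he)
  have hπ' : ψP e⁻¹ q = ψP σ⁻¹ π := Fin.ext (by
    have h1 : ∀ (v : List ℕ), lettersIn sys.S v = true → ∀ p : Fin 1408,
        (ψP (val x v)⁻¹ p).1 = twalk sys.P v p.1 := fun v hv p => by
      rw [← val_winv model.inv, model.eval _ (lettersIn_winv symS_P hv) p,
        winv_winv symS_P (mem_of_lettersIn hv)]
    rw [h1 _ hel q, h1 _ hσl π, hq]
    exact hse)
  have hδq : ψP δ q = q := by
    have : ψP δ⁻¹ q = q := by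
      simp only [δ, mul_inv_rev, inv_inv, map_mul, Equiv.Perm.mul_apply]
      rw [show ψP d⁻¹ q = π from rfl, ← hπ', map_inv]
      simp
    rw [map_inv, Equiv.Perm.inv_eq_iff_eq] at this
    exact this.symm
  have hcm := card_pair_stab δ hδ hδq
  have hz : ∀ v : Ω, sm (x 2) (sm δ v) = sm δ (sm (x 2) v) := fun v => by
    rw [← sm_mul, ← sm_mul, hcm]
  have hd' : sm d (pt (repState odata c)) = sm δ (sm e (pt (repState odata c))) := by
    conv_lhs => rw [← hfix]
    rw [← sm_mul, ← sm_mul]
    congr 1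
    simp only [δ, inv_mul_cancel_right]
  rw [hd', tF_sm hδ, hz, tF_sm hδ, hz, tF_sm hδ, hz]
  refine congrArg (sm δ) ?_
  have hb := (rec_ok hc).2.2.2.2.1
  simp only [braidAtRep, List.all_eq_true, List.mem_range] at hb
  have hb := hb m.1 hk
  set st : ℕ × List ℕ := ((odata.rec' c).j, wprod cGens eidx ++ u)
  have hst : sm e (pt (repState odata c)) = pt st := by
    rw [show repState odata c = ((⟨_, hrec.1⟩ : Fin odata.K.length).1, u) from rfl, pt_eq,
      show st = ((⟨_, hrec.1⟩ : Fin odata.K.length).1, wprod cGens eidx ++ u) from rfl, pt_eq, sm,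
      osmul_mk, val_append]
  rw [hst]
  obtain ⟨e', e1, -⟩ := actW_pt (l := [2, 3, 2, 3, 2, 3]) (by decide) (p := st) (rep_lt hc).1
    (by simp [st, lettersIn_append, hel, hul])
  show actW [2, 3, 2, 3, 2, 3] (pt st) = pt st
  rw [e']
  exact pt_of_same hb e1

end Cfsg.Lib.HN.Top
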