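import Cfsg.Agent.Lib.HN.Chain

/-!
# Groups presented by words in four generators
-/

set_option autoImplicit false

namespace Cfsg.Lib.HN

/-- The free letters. -/
def freeLett : ℕ → FreeGroup (Fin 4) :=
  lett (FreeGroup.of 0) (FreeGroup.of 1) (FreeGroup.of 2) (FreeGroup.of 3)

/-- The relators given by words, the third generator being an involution. -/
def wordRels (R : List (List ℕ)) : Set (FreeGroup (Fin 4)) :=
  insert (FreeGroup.of 2 * FreeGroup.of 2) {w | ∃ r ∈ R, w = val freeLett r}

/-- The presented group. -/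
abbrev WGrp (R : List (List ℕ)) : Type := PresentedGroup (wordRels R)

/-- The letters in the presented group. -/
def wgen (R : List (List ℕ)) : ℕ → WGrp R :=
  lett (PresentedGroup.of 0) (PresentedGroup.of 1) (PresentedGroup.of 2) (PresentedGroup.of 3)

theorem wgen_inv (R : List (List ℕ)) : LettersInv (wgen R) := by
  refine lettersInv_lett ?_
  have h : PresentedGroup.mk (wordRels R) (FreeGroup.of 2 * FreeGroup.of 2) = 1 :=
    PresentedGroup.one_of_mem (Set.mem_insert _ _)
  rw [map_mul] at h
  exact h

theorem mk_val (R : List (List ℕ)) (w : List ℕ) :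
    PresentedGroup.mk (wordRels R) (val freeLett w) = val (wgen R) w := by
  rw [map_val]
  congr 1
  funext g
  unfold freeLett wgen lett
  split <;> first | exact map_one _ | exact map_inv _ _ | rfl

theorem wgen_rel (R : List (List ℕ)) : ∀ r ∈ R, val (wgen R) r = 1 := fun r hr => by
  rw [← mk_val]
  exact PresentedGroup.one_of_mem (Set.mem_insert_of_mem _ ⟨r, hr, rfl⟩)

theorem wgen_closure (R : List (List ℕ)) {S : List ℕ} (hx : ∀ i < 4, i ∈ S ∨ wgen R i = 1) :
    Subgroup.closure (wgen R '' {g | g ∈ S}) = ⊤ := by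
  rw [← top_le_iff, ← PresentedGroup.closure_range_of (wordRels R), Subgroup.closure_le]
  rintro _ ⟨i, rfl⟩
  have hi : wgen R i.1 = PresentedGroup.of i := by fin_cases i <;> rfl
  rw [← hi]
  rcases hx i.1 i.2 with h | h
  · exact Subgroup.subset_closure ⟨_, h, rfl⟩
  · rw [h]; exact Subgroup.one_mem _

/-- Letters satisfying the relators give a homomorphism. -/
theorem exists_wordHom {R : List (List ℕ)} {M : Type*} [Group M] (y : ℕ → M) (hy : LettersInv y)
    (hlt : (R.all fun r => r.all fun g => Nat.blt g 7) = true) (h : ∀ r ∈ R, val y r = 1) :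
    ∃ φ : WGrp R →* M, ∀ g < 7, φ (wgen R g) = y g := by
  set f : Fin 4 → M := fun i => y i.1
  have hlett : ∀ g < 7, FreeGroup.lift f (freeLett g) = y g := by
    intro g hg
    have h4 := hy 0
    have h5 := hy 1
    have h6 := hy 3
    simp only [linv] at h4 h5 h6
    interval_cases g <;> simp [freeLett, lett, f, h4, h5, h6]
  have hval : ∀ r : List ℕ, (∀ g ∈ r, g < 7) →
      FreeGroup.lift f (val freeLett r) = val y r := by
    intro r
    induction r with
    | nil => intro _; simp
    | cons g w ih =>
      intro hw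
      rw [val_cons, map_mul, hlett g (hw g (by simp)), ih fun a ha => hw a (by simp [ha]), val_cons]
  have hrel : ∀ w ∈ wordRels R, FreeGroup.lift f w = 1 := by
    rintro w (rfl | ⟨r, hr, rfl⟩)
    · have h2 := hy 2
      simp only [linv] at h2
      simp only [map_mul, FreeGroup.lift_apply_of, f]
      exact mul_eq_one_iff_eq_inv.2 (by simpa using h2)
    · rw [hval r fun g hg => by
        simpa [Nat.blt_eq] using List.all_eq_true.1 (List.all_eq_true.1 hlt r hr) g hg, h r hr]
  refine ⟨PresentedGroup.toGroup hrel, fun g hg => ?_⟩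
  have h4 := hy 0
  have h5 := hy 1
  have h6 := hy 3
  simp only [linv] at h4 h5 h6
  interval_cases g <;> simp [wgen, lett, f, h4, h5, h6]

/-- The permutations of the letters of a table, trivial outside the letters. -/
noncomputable def tableLett (P : Cfsg.Lib.CosetEnum.Tab) (n : ℕ) (S : List ℕ) (g : ℕ) :
    Equiv.Perm (Fin n) :=
  if g ∈ S then pperm P n g else 1

variable {P : Cfsg.Lib.CosetEnum.Tab} {n : ℕ} {S : List ℕ} {R : List (List ℕ)}

theorem tableLett_inv (hp : permOK P n S R n 0 = true) (hS : SymS S)
    (hS' : ∀ g, linv g ∈ S → g ∈ S) : LettersInv (tableLett P n S) := by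
  intro g
  unfold tableLett
  by_cases h : g ∈ S
  · rw [if_pos h, if_pos (hS g h).1, pperm_inv hp hS h]
  · rw [if_neg h, if_neg fun h' => h (hS' g h'), inv_one]

theorem val_tableLett : ∀ {w : List ℕ}, (∀ g ∈ w, g ∈ S) →
    val (tableLett P n S) w = val (pperm P n) w
  | [], _ => rfl
  | g :: w, h => by
    rw [val_cons, val_cons, val_tableLett fun a ha => h a (by simp [ha]), tableLett,
      if_pos (h g (by simp))]

theorem linv_mem_of_small {S : List ℕ} (h : (List.range 7).all fun g =>
    decide (linv g ∈ S → g ∈ S)) (h7 : ∀ g ∈ S, g < 7) : ∀ g, linv g ∈ S → g ∈ S := by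
  intro g hg
  rcases Nat.lt_or_ge g 7 with h' | h'
  · have := List.all_eq_true.1 h g (List.mem_range.2 h')
    exact of_decide_eq_true this hg
  · have := h7 _ hg
    unfold linv at this
    split at this <;> omega

end Cfsg.Lib.HN
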